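import Mathlib
import Cfsg.Agent.Lib.CoOneType.Split
import Cfsg.Agent.Lib.CoOneType.Lower

/-!
Conjugates of `z` in the centralizer of `z` that induce long root elements: their normal form at the
base point and the commutation rules they obey.
-/

set_option autoImplicit false
set_option linter.style.longLine false
set_option maxHeartbeats 1000000

namespace CfsgLib.CoOneType

open Subgroup

/-- The long root map of the singular line through `p` and `m`. -/
def rootV (p m v : V) : V := v + B v m • p + B v p • m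

theorem rootV_swap (p m : V) : rootV p m = rootV m p := by
  funext v; simp only [rootV]; abel

theorem rootV_shift (p m : V) : rootV p (m + p) = rootV p m := by
  funext v
  simp only [rootV, B_add_right, add_smul, smul_add]
  calc v + (B v m • p + B v p • p) + (B v p • m + B v p • p)
      = v + B v m • p + B v p • m + (B v p • p + B v p • p) := by abel
    _ = _ := by rw [addV, add_zero]

theorem E_eq_rootV {w : W} (hw : qW 0 w = 0) : E w = rootV x0 (inj w) := by
  funext v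
  have h1 : B v (inj w) = BW w v.2 := by simp [B, inj, pB, BW_comm]
  rw [rootV, h1, B_x0]
  obtain ⟨⟨a, b⟩, u⟩ := v
  refine Prod.ext (Prod.ext ?_ ?_) ?_ <;> simp [E, x0, inj, hw]

theorem rootV_x0 {v : V} (hv : v.1.2 = 0) : rootV x0 v = rootV x0 (inj v.2) := by
  obtain ⟨⟨a, b⟩, u⟩ := v
  obtain rfl : b = 0 := hv
  rcases zcases a with rfl | rfl
  · rfl
  · rw [show (((1, 0), u) : V) = inj u + x0 from Prod.ext (by simp [inj, x0]) (by simp [inj, x0]), rootV_shift]
    simp [inj, x0]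

variable {G : Type*} [Group G] [Finite G] {z : G} {Q : Subgroup G}

namespace Coord

variable (K : Coord z Q 0) (H : Hyp z Q)

include H in
theorem act_smul {c : G} (hc : c * z = z * c) (t : ZMod 2) (v : V) : K.act c (t • v) = t • K.act c v := by
  rcases zcases t with rfl | rfl <;> simp [K.act_zero H hc]

include H in
theorem act_rootV_conj {c a : G} (hc : c * z = z * c) (ha : a * z = z * a) {p m : V}
    (h : K.act a = rootV p m) : K.act (c * a * c⁻¹) = rootV (K.act c p) (K.act c m) := by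
  funext v
  obtain ⟨u, rfl⟩ := (Finite.injective_iff_surjective.1 (K.act_injective H hc)) v
  rw [K.act_conj_apply H hc ha, h]
  simp only [rootV, K.act_add H hc, K.act_smul H hc, K.act_B H hc]

/-- A conjugate of `z` centralizing `z` and inducing the root map of `p`, `m`. -/
def Root (p m : V) (a : G) : Prop :=
  a * z = z * a ∧ K.act a = rootV p m ∧ a * a = 1 ∧ IsConj z a

include H

theorem Root.conj {p m : V} {a c : G} (h : K.Root p m a) (hc : c * z = z * c) :
    K.Root (K.act c p) (K.act c m) (c * a * c⁻¹) :=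
  ⟨conj_comm_z hc h.1, K.act_rootV_conj H hc h.1 h.2.1, conj_sq_one h.2.2.1,
    h.2.2.2.trans (isConj_iff.2 ⟨c, rfl⟩)⟩

omit [Finite G] H in
theorem Root.congr {p m p' m' : V} {a : G} (h : K.Root p m a) (e : rootV p m = rootV p' m') :
    K.Root p' m' a := ⟨h.1, h.2.1.trans e, h.2.2⟩

/-- A line is moved to a line through the base point. -/
theorem to_base {p m : V} (hp : p ≠ 0) (hpq : qV 0 p = 0) (hm : m ≠ 0) (hmp : m ≠ p) (hmq : qV 0 m = 0)
    (hpm : B p m = 0) : ∃ (c : G) (w : W), c * z = z * c ∧ K.act c p = x0 ∧ w ≠ 0 ∧ qW 0 w = 0 ∧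
      (K.act c m).1.2 = 0 ∧ (K.act c m).2 = w := by
  obtain ⟨c, hc, hcp⟩ := K.transitive H (w := x0) hp hpq (by decide) (by decide)
  have h2 : (K.act c m).1.2 = 0 := by
    rw [← B_x0, ← hcp, K.act_B H hc, B_comm, hpm]
  refine ⟨c, _, hc, hcp, fun h => ?_, ?_, h2, rfl⟩
  · rcases zero_line _ h2 h with e | e
    · exact hm (K.act_injective H hc (e.trans (K.act_zero H hc).symm))
    · exact hmp (K.act_injective H hc (e.trans hcp.symm))
  · have h := K.act_q H hc m
    rw [hmq] at h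
    simpa [qV, h2] using h

end Coord

namespace Base

variable {K : Coord z Q 0} {x g : G} (S : Base K x g)
include S

theorem R_commute {r r' : G} (hr : r ∈ S.R) (hr' : r' ∈ S.R) (h : BW (S.ur r) (S.ur r') = 0) :
    r * r' = r' * r := by
  obtain ⟨j, hj⟩ := S.R_comm hr hr'
  have hsr := S.sq_R hr
  have hsr' := S.sq_R hr'
  have hs := S.sq_R (mul_mem hr hr')
  rw [S.ur_mul hr hr', qW_add, h, add_zero] at hs
  have e1 : r' * r = S.el 0 j * (r * r') := by
    have e2 : r * r' * r⁻¹ * r'⁻¹ * (r' * r) = r * r' := by group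
    rw [hj] at e2
    calc r' * r = S.el 0 j * (S.el 0 j * (r' * r)) := by rw [← mul_assoc, S.el_sq, one_mul]
      _ = _ := by rw [e2]
  have e3 : r * r' * (r * r') = S.el 0 j * ((r * r) * (r' * r')) := by
    calc r * r' * (r * r') = r * (r' * r) * r' := by group
      _ = r * S.el 0 j * (r * r' * r') := by rw [e1]; group
      _ = S.el 0 j * r * (r * r' * r') := by rw [S.R_el hr]
      _ = _ := by group
  rw [hs, hsr, hsr', S.el_mul, S.el_mul] at e3
  have hj0 := (S.el_inj e3).2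
  rw [e1]
  rcases zcases j with rfl | rfl
  · rw [S.el_zero, one_mul]
  · exfalso
    revert hj0
    generalize qW 0 (S.ur r) = a
    generalize qW 0 (S.ur r') = b
    revert a b
    decide

theorem root_typ {w : W} (hw : qW 0 w = 0) {a : G} (hw0 : w ≠ 0) (h : K.Root x0 (inj w) a) :
    S.Typ w 0 a ∨ S.Typ w w a := by
  have H := S.hyp
  obtain ⟨haz, hact, ha2, hconj⟩ := h
  rw [← E_eq_rootV hw] at hact
  have hax : K.act a x0 = x0 := by rw [hact, E_x0]
  have hres : ∀ u, K.res a u = u := fun u => by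
    show (K.act a (inj u)).2 = u
    rw [hact]; simp [E, inj]
  obtain ⟨r, hr, q, hq, rfl⟩ := S.decompose haz hax hres
  have hrz := S.R_z hr
  have hur : S.ur r = w := by
    have h1 := congrFun hact f0
    rw [K.act_mul H hrz (H.extra.comm_z hq), K.act_mem H hq, S.act_R hr] at h1
    have h2 := congrArg Prod.snd h1
    rwa [E_f0_tail, E_f0_tail] at h2
  have hqx : q * x = x * q := by
    refine (S.comm_x_iff hq).2 ((zcases _).resolve_right fun hb => hw0 ?_)
    have hinv : r⁻¹ * z = z * r⁻¹ := (Commute.inv_left hrz).eq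
    have e : r * q * r⁻¹ = q⁻¹ * (r * r)⁻¹ := by
      calc r * q * r⁻¹ = q⁻¹ * (q * (r * q * (r * q)) * q⁻¹) * (r * r)⁻¹ := by group
        _ = _ := by rw [ha2]; group
    have hv := congrArg K.vec e
    rw [← K.act_vec H hrz hq, S.act_R hr, K.mul (inv_mem hq) (inv_mem (by rw [S.sq_R hr]; exact S.el_mem _ _)),
      K.vec_inv hq, K.vec_inv (by rw [S.sq_R hr]; exact S.el_mem _ _), S.sq_R hr, S.vec_el] at hv
    have h2 := congrArg Prod.snd hv
    rw [tail_E, hur, hb, one_smul, Prod.snd_add] at h2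
    simpa using h2
  have ht : S.Typ w (K.vec q).2 (r * q) := ⟨r, q, hr, hq, hqx, rfl, hur, rfl⟩
  have hsq := S.typ_sq ht
  rw [ha2, ← S.el_zero, hw, add_zero] at hsq
  obtain ⟨k1, k2⟩ := S.el_inj hsq
  rw [← k2, zero_add] at k1
  by_cases h0 : (K.vec q).2 = 0
  · exact Or.inl (h0 ▸ ht)
  by_cases h1 : (K.vec q).2 = w
  · exact Or.inr (h1.symm ▸ ht : S.Typ w w (r * q))
  exfalso
  obtain ⟨c, hc, hcx, hc1, hc2⟩ := K.resMoveLine H hw k1.symm k2.symm hw0 h0 (fun e => h1 e.symm)
  obtain ⟨d, hdz, hdx, hd0, hd⟩ := S.exists_fix hc hcx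
  have ht' := S.typ_move ht hdz hdx hd0
  rw [hd, hd, hc1, hc2] at ht'
  exact S.typA_not_conj ht' (hconj.trans (isConj_iff.2 ⟨d, rfl⟩))

theorem typ_zero_root {w : W} (hw : qW 0 w = 0) (hw0 : w ≠ 0) {a : G} (ht : S.Typ w 0 a) :
    K.Root x0 (inj w) a := by
  have ha2 : a * a = 1 := by rw [S.typ_sq ht, BW_zero_right, qW_zero, hw, add_zero, S.el_zero]
  refine ⟨S.typ_comm ht, by rw [S.typ_act ht, E_eq_rootV hw], ha2, ?_⟩
  obtain ⟨r, q, hr, hq, hqx, rfl, hu, hv⟩ := ht
  obtain ⟨i, j, rfl⟩ := S.exists_el hq ((S.comm_x_iff hq).1 hqx) hv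
  refine (S.isConj_z_of_R (mul_mem hr (S.el_R i j)) ha2 fun e => hw0 ?_).symm
  have := S.ur_mul hr (S.el_R i j)
  rw [e, (S.ur_zero (one_mem _)).2 (one_mem _), hu, (S.ur_zero (S.el_R i j)).2 (S.el_mem i j), add_zero] at this
  exact this.symm

theorem typ_self_root {w : W} (hw : qW 0 w = 0) (hw0 : w ≠ 0) {a : G} (ht : S.Typ w w a) :
    K.Root x0 (inj w) a := by
  have hs := S.typ_shift ht
  rw [addW] at hs
  set v := K.lift f0 with hv
  have hvz : v * z = z * v := S.hyp.extra.comm_z (K.lift_mem _)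
  have hvi : v⁻¹ * z = z * v⁻¹ := (Commute.inv_left hvz).eq
  have h := (S.typ_zero_root hw hw0 hs).conj K S.hyp hvi
  rw [K.act_mem S.hyp (inv_mem (K.lift_mem _)), K.act_mem S.hyp (inv_mem (K.lift_mem _))] at h
  rwa [show v⁻¹ * (v * a * v⁻¹) * v⁻¹⁻¹ = a by group] at h

/-- Conjugates of `z` inducing a root map at the base point are exactly the two standard types. -/
theorem root_iff {w : W} (hw : qW 0 w = 0) (hw0 : w ≠ 0) {a : G} :
    K.Root x0 (inj w) a ↔ S.Typ w 0 a ∨ S.Typ w w a :=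
  ⟨S.root_typ hw hw0, fun h => h.elim (S.typ_zero_root hw hw0) (S.typ_self_root hw hw0)⟩

theorem root_exists {p m : V} (hp : p ≠ 0) (hpq : qV 0 p = 0) (hm : m ≠ 0) (hmp : m ≠ p) (hmq : qV 0 m = 0)
    (hpm : B p m = 0) : ∃ a, K.Root p m a := by
  obtain ⟨c, w, hc, hcp, hw0, hw, h2, hcw⟩ := K.to_base S.hyp hp hpq hm hmp hmq hpm
  obtain ⟨a, ha⟩ := S.exists_typ w 0
  have hci : c⁻¹ * z = z * c⁻¹ := (Commute.inv_left hc).eq
  have h := ((S.typ_zero_root hw hw0 ha).congr K
    (show rootV x0 (inj w) = rootV (K.act c p) (K.act c m) by rw [hcp, rootV_x0 h2, hcw])).conj K S.hyp hci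
  rw [K.act_inv_cancel S.hyp hc, K.act_inv_cancel S.hyp hc] at h
  exact ⟨_, h⟩

/-- A root element centralizes the lifts orthogonal to its line. -/
theorem root_comm_lift {p m : V} (hp : p ≠ 0) (hpq : qV 0 p = 0) (hm : m ≠ 0) (hmp : m ≠ p) (hmq : qV 0 m = 0)
    (hpm : B p m = 0) {a q : G} (h : K.Root p m a) (hq : q ∈ Q) (h1 : B (K.vec q) p = 0)
    (h2 : B (K.vec q) m = 0) : a * q = q * a := by
  obtain ⟨c, w, hc, hcp, hw0, hw, hm2, hcw⟩ := K.to_base S.hyp hp hpq hm hmp hmq hpm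
  have h' := (h.conj K S.hyp hc).congr K
    (show rootV (K.act c p) (K.act c m) = rootV x0 (inj w) by rw [hcp, rootV_x0 hm2, hcw])
  have hq' := S.hyp.norm c hc q hq
  have hv : K.vec (c * q * c⁻¹) = K.act c (K.vec q) := (K.act_vec S.hyp hc hq).symm
  have k1 : (K.vec (c * q * c⁻¹)).1.2 = 0 := by rw [hv, ← B_x0, ← hcp, K.act_B S.hyp hc, h1]
  have k2 : BW w (K.vec (c * q * c⁻¹)).2 = 0 := by
    rw [hv, ← hcw]
    have := K.act_B S.hyp hc (K.vec q) m
    rw [h2] at this
    rw [hv] at k1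
    rw [BW_comm]
    simpa [B, pB, k1, hm2] using this
  suffices hcomm : c * a * c⁻¹ * (c * q * c⁻¹) = c * q * c⁻¹ * (c * a * c⁻¹) by
    calc a * q = c⁻¹ * (c * a * c⁻¹ * (c * q * c⁻¹)) * c := by group
      _ = q * a := by rw [hcomm]; group
  have hqx : c * q * c⁻¹ * x = x * (c * q * c⁻¹) := (S.comm_x_iff hq').2 k1
  rcases S.root_typ hw hw0 h' with ⟨r, s, hr, hs, hsx, e, hu, hv2⟩ | ⟨r, s, hr, hs, hsx, e, hu, hv2⟩ <;> rw [e]
  all_goals
    refine (Commute.mul_left (S.comm_el_zero hr hq' hqx (by rw [hu, k2]))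
      ((K.comm_iff S.hyp.extra.ne_one hs hq').2 ?_)).eq
    simp [B, pB, hv2, (S.comm_x_iff hs).1 hsx, k1, k2, BW_zero_left]

/-- Root elements of orthogonal lines meeting in a point commute. -/
theorem root_comm_meet {p m m' : V} (hp : p ≠ 0) (hpq : qV 0 p = 0) (hm : m ≠ 0) (hmp : m ≠ p) (hmq : qV 0 m = 0)
    (hpm : B p m = 0) (hm' : m' ≠ 0) (hmp' : m' ≠ p) (hmq' : qV 0 m' = 0) (hpm' : B p m' = 0) (hmm : B m m' = 0)
    {a b : G} (ha : K.Root p m a) (hb : K.Root p m' b) : a * b = b * a := by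
  obtain ⟨c, w, hc, hcp, hw0, hw, hm2, hcw⟩ := K.to_base S.hyp hp hpq hm hmp hmq hpm
  have h2' : (K.act c m').1.2 = 0 := by rw [← B_x0, ← hcp, K.act_B S.hyp hc, B_comm, hpm']
  have hw0' : (K.act c m').2 ≠ 0 := fun h => by
    rcases zero_line _ h2' h with e | e
    · exact hm' (K.act_injective S.hyp hc (e.trans (K.act_zero S.hyp hc).symm))
    · exact hmp' (K.act_injective S.hyp hc (e.trans hcp.symm))
  have hw' : qW 0 (K.act c m').2 = 0 := by
    have h := K.act_q S.hyp hc m'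
    rw [hmq'] at h
    simpa [qV, h2'] using h
  have hBW : BW w (K.act c m').2 = 0 := by
    rw [← hcw]
    have := K.act_B S.hyp hc m m'
    rw [hmm] at this
    simpa [B, pB, hm2, h2'] using this
  have ha' := (ha.conj K S.hyp hc).congr K
    (show rootV (K.act c p) (K.act c m) = rootV x0 (inj w) by rw [hcp, rootV_x0 hm2, hcw])
  have hb' := (hb.conj K S.hyp hc).congr K
    (show rootV (K.act c p) (K.act c m') = rootV x0 (inj (K.act c m').2) by rw [hcp, rootV_x0 h2'])
  suffices hcomm : c * a * c⁻¹ * (c * b * c⁻¹) = c * b * c⁻¹ * (c * a * c⁻¹) by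
    calc a * b = c⁻¹ * (c * a * c⁻¹ * (c * b * c⁻¹)) * c := by group
      _ = b * a := by rw [hcomm]; group
  have key : ∀ {s : W} {a' : G}, (s = 0 ∨ s = w) → S.Typ w s a' →
      ∀ {s' : W} {b' : G}, (s' = 0 ∨ s' = (K.act c m').2) → S.Typ (K.act c m').2 s' b' → a' * b' = b' * a' := by
    intro s a' hs ⟨r, q, hr, hq, hqx, e, hu, hv⟩ s' b' hs' ⟨r', q', hr', hq', hqx', e', hu', hv'⟩
    rw [e, e']
    have c1 : r * r' = r' * r := S.R_commute hr hr' (by rw [hu, hu', hBW])
    have c2 : r * q' = q' * r := S.comm_el_zero hr hq' hqx' (by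
      rw [hu, hv']; rcases hs' with h | h <;> rw [h]
      exacts [BW_zero_right _, hBW])
    have c3 : r' * q = q * r' := S.comm_el_zero hr' hq hqx (by
      rw [hu', hv]; rcases hs with h | h <;> rw [h]
      exacts [BW_zero_right _, by rw [BW_comm]; exact hBW])
    have c4 : q * q' = q' * q := (K.comm_iff S.hyp.extra.ne_one hq hq').2 (by
      rcases hs with h | h <;> rcases hs' with h' | h' <;>
        simp [B, pB, hv, hv', (S.comm_x_iff hq).1 hqx, (S.comm_x_iff hq').1 hqx', h, h', BW_zero_left,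
          BW_zero_right, hBW])
    exact ((Commute.mul_right c1 c2).mul_left (Commute.mul_right c3.symm c4)).eq
  rcases S.root_typ hw hw0 ha' with h | h <;> rcases S.root_typ hw' hw0' hb' with h' | h'
  exacts [key (Or.inl rfl) h (Or.inl rfl) h', key (Or.inl rfl) h (Or.inr rfl) h',
    key (Or.inr rfl) h (Or.inl rfl) h', key (Or.inr rfl) h (Or.inr rfl) h']

/-- Lifts of the vectors of the line may be absorbed. -/
theorem root_mul_lift {p m : V} (hp : p ≠ 0) (hpq : qV 0 p = 0) (hm : m ≠ 0) (hmp : m ≠ p) (hmq : qV 0 m = 0)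
    (hpm : B p m = 0) {a q : G} (h : K.Root p m a) (hq : q ∈ Q) (i j : ZMod 2)
    (hv : K.vec q = i • p + j • m) : K.Root p m (a * q) := by
  have H := S.hyp
  obtain ⟨c, w, hc, hcp, hw0, hw, hm2, hcw⟩ := K.to_base H hp hpq hm hmp hmq hpm
  have hci : c⁻¹ * z = z * c⁻¹ := (Commute.inv_left hc).eq
  have h' := (h.conj K H hc).congr K
    (show rootV (K.act c p) (K.act c m) = rootV x0 (inj w) by rw [hcp, rootV_x0 hm2, hcw])
  have hq' := H.norm c hc q hq
  have hvq : K.vec (c * q * c⁻¹) = i • x0 + j • K.act c m := by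
    rw [← K.act_vec H hc hq, hv, K.act_add H hc, K.act_smul H hc, K.act_smul H hc, hcp]
  have hq2 : (K.vec (c * q * c⁻¹)).1.2 = 0 := by rw [hvq]; simp [x0, hm2]
  have htail : (K.vec (c * q * c⁻¹)).2 = j • w := by rw [hvq]; simp [x0, hcw]
  have key : ∀ {s : W}, (s = 0 ∨ s = w) → S.Typ w s (c * a * c⁻¹) →
      K.Root x0 (inj w) (c * a * c⁻¹ * (c * q * c⁻¹)) := by
    rintro s hs ⟨r, t, hr, ht, htx, e, hu, hvt⟩
    have hty : S.Typ w (s + j • w) (c * a * c⁻¹ * (c * q * c⁻¹)) :=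
      ⟨r, t * (c * q * c⁻¹), hr, mul_mem ht hq',
        (Commute.mul_left htx ((S.comm_x_iff hq').2 hq2)).eq, by rw [e, mul_assoc], hu,
        by rw [K.mul ht hq', Prod.snd_add, hvt, htail]⟩
    refine (S.root_iff hw hw0).2 ?_
    rcases zcases j with hj | hj <;> rcases hs with h0 | h0 <;>
      simp only [hj, h0, zero_smul, one_smul, add_zero, zero_add, addW] at hty
    exacts [Or.inl hty, Or.inr hty, Or.inr hty, Or.inl hty]
  have hroot : K.Root (K.act c p) (K.act c m) (c * a * c⁻¹ * (c * q * c⁻¹)) := by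
    refine (?_ : K.Root x0 (inj w) _).congr K (by rw [hcp, rootV_x0 hm2, hcw])
    rcases S.root_typ hw hw0 h' with k | k
    exacts [key (Or.inl rfl) k, key (Or.inr rfl) k]
  have := hroot.conj K H hci
  rw [K.act_inv_cancel H hc, K.act_inv_cancel H hc] at this
  rwa [show c⁻¹ * (c * a * c⁻¹ * (c * q * c⁻¹)) * c⁻¹⁻¹ = a * q by group] at this

end Base

end CfsgLib.CoOneType
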