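import Mathlib
import Cfsg.Agent.Lib.CoOneGolay.Root

/-!
An involution of the conjugate of `Q` at the base point moving `z` to `zx`: it turns lifts of the residue space
into elements of `R`, and a suitable choice of coordinates makes a chosen root element commute with part of `R`.
-/

set_option autoImplicit false
set_option linter.style.longLine false
set_option maxHeartbeats 1000000
set_option synthInstance.maxSize 8000
set_option synthInstance.maxHeartbeats 1000000

namespace CfsgLib.CoOneType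

open Subgroup

theorem exists_partner_singular : ∀ w : V, w ≠ 0 → qV 0 w = 0 → ∃ v : V, qV 0 v = 0 ∧ B v w = 1 := by
  decide +kernel

theorem exists_BW_one : ∀ w : W, w ≠ 0 → ∃ s : W, BW w s = 1 := by decide +kernel

theorem D0_rootV : ∀ v : V, D0 v = rootV (inj A1) (inj A2) v := by decide +kernel

theorem line_base : inj A1 ≠ 0 ∧ qV 0 (inj A1) = 0 ∧ inj A2 ≠ 0 ∧ inj A2 ≠ inj A1 ∧ qV 0 (inj A2) = 0 ∧
    B (inj A1) (inj A2) = 0 := by decide +kernel

theorem twist_facts : reflW HS H1 = H2 ∧ refl (inj HS) x0 = x0 ∧ refl (inj HS) (inj A1) = inj A1 ∧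
    refl (inj HS) (inj A2) = inj A2 := by decide +kernel

theorem plane_third : ∀ h : W, BW h A1 = 0 → BW h A2 = 0 → qW 0 h = 0 → BW h H1 = 0 ∨ BW h H2 = 0 := by
  decide +kernel

theorem eq_mod_line : ∀ a : W, (∀ w, BW w A1 = 0 → BW w A2 = 0 → BW w a = 0) →
    BW a A1 = 0 ∧ BW a A2 = 0 ∧ BW a H1 = 0 ∧ BW a H2 = 0 := by decide +kernel

theorem refl_B (a b c : V) (ha : qV 0 a = 1) : B (refl a b) (refl a c) = B b c := by
  have h := refl_q 0 a (b + c) (Or.inl ha)
  rw [refl_add, qV_add, qV_add, refl_q 0 a b (Or.inl ha), refl_q 0 a c (Or.inl ha)] at h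
  exact add_left_cancel h

theorem qV_HS : qV 0 (inj HS) = 1 := (qV_inj 0 HS).trans HS_facts.1

variable {G : Type*} [Group G] [Finite G] {z : G} {Q : Subgroup G}

/-- Coordinates changed by the reflection exchanging `H1` and `H2`. -/
def Coord.twist (K : Coord z Q 0) : Coord z Q 0 where
  vec y := refl (inj HS) (K.vec y)
  mul hx hy := by rw [K.mul hx hy, refl_add]
  zero_iff {y} hy := by
    rw [← K.zero_iff hy]
    refine ⟨fun h => ?_, fun h => by rw [h]; simp [refl, B_zero_left]⟩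
    have := congrArg (refl (inj HS)) h
    rwa [refl_refl, show refl (inj HS) 0 = 0 by simp [refl, B_zero_left]] at this
  surj v := by
    obtain ⟨y, hy, h⟩ := K.surj (refl (inj HS) v)
    exact ⟨y, hy, by rw [h, refl_refl]⟩
  sq {y} hy := by rw [refl_q 0 _ _ (Or.inl qV_HS)]; exact K.sq hy
  conj {a b} ha hb := by rw [refl_B _ _ _ qV_HS]; exact K.conj ha hb

/-- An involution in the conjugate of `Q` at `x` moving `z` to `zx`. -/
structure Flip {K : Coord z Q 0} {x g : G} (S : Base K x g) (t : G) : Prop where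
  tt : t * t = 1
  tg : g⁻¹ * t * g ∈ Q
  tzt : t * z * t = z * x

namespace Base

variable {K : Coord z Q 0} {x g : G} (S : Base K x g)
include S

theorem exists_flip : ∃ t, Flip S t := by
  obtain ⟨hy, hy0, hyq⟩ := S.w_spec
  obtain ⟨v, hvq, hvw⟩ := exists_partner_singular _ hy0 hyq
  set u := K.lift v with hu
  have huQ : u ∈ Q := K.lift_mem v
  have hu2 : u * u = 1 := (K.invol_iff S.hyp.extra.ne_one huQ).2 (by rw [hu, K.vec_lift]; exact hvq)
  have hc : u * (g⁻¹ * z * g) * u⁻¹ = z * (g⁻¹ * z * g) := by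
    rw [K.conj hy huQ, if_neg]
    rw [B_comm, hu, K.vec_lift, hvw]
    decide
  refine ⟨g * u * g⁻¹, by rw [show g * u * g⁻¹ * (g * u * g⁻¹) = g * (u * u) * g⁻¹ by group, hu2]; group,
    by rw [show g⁻¹ * (g * u * g⁻¹) * g = u by group]; exact huQ, ?_⟩
  calc g * u * g⁻¹ * z * (g * u * g⁻¹) = g * (u * (g⁻¹ * z * g) * u⁻¹) * (u * u) * g⁻¹ := by group
    _ = g * z * g⁻¹ * z := by rw [hc, hu2]; group
    _ = z * x := by rw [S.hg, S.xz]

theorem typ_unique {u w u' w' : W} {t : G} (h : S.Typ u w t) (h' : S.Typ u' w' t) : u = u' ∧ w = w' := by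
  have hu : u = u' := by
    have e := congrFun ((S.typ_act h).symm.trans (S.typ_act h')) f0
    have e2 := congrArg Prod.snd e
    rwa [E_f0_tail, E_f0_tail] at e2
  obtain ⟨r, q, hr, hq, -, e, hur, hw⟩ := h
  obtain ⟨r', q', hr', hq', -, e', hur', hw'⟩ := h'
  obtain ⟨i, j, hrr⟩ := S.ur_congr hr hr' (hur.trans (hu.trans hur'.symm))
  refine ⟨hu, ?_⟩
  rw [e, hrr, mul_assoc] at e'
  have h2 := congrArg (fun a => (K.vec a).2) (mul_left_cancel e')
  simp only [K.mul (S.el_mem i j) hq', S.vec_el, Prod.snd_add, hw, hw', zero_add] at h2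
  exact h2

end Base

namespace Flip

variable {K : Coord z Q 0} {x g t : G} {S : Base K x g} (F : Flip S t)
include F

theorem inv : t⁻¹ = t := inv_eq_of_mul_eq_one_right F.tt

theorem tx : t * x = x * t := S.comm_x F.tg

theorem txt : t * x * t = x := by rw [F.tx, mul_assoc, F.tt, mul_one]

theorem el (i j : ZMod 2) : t * S.el i j * t = S.el i (i + j) := by
  have h : t * S.el i j * t = (if i = 0 then 1 else t * z * t) * (if j = 0 then 1 else t * x * t) := by
    unfold Base.el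
    have k : ∀ a b : G, t * a * t * (t * b * t) = t * (a * b) * t := fun a b => by
      rw [show t * a * t * (t * b * t) = t * a * (t * t) * b * t by group, F.tt]; group
    split_ifs <;> simp [F.tt, k]
  rw [h, F.tzt, F.txt]
  rcases zcases i with rfl | rfl <;> rcases zcases j with rfl | rfl <;>
    simp [Base.el, show (1 : ZMod 2) + 1 = 0 from rfl, mul_assoc, S.xx]

theorem conj_comm {c : G} (hz : c * z = z * c) (hx : c * x = x * c) :
    (t * c * t) * z = z * (t * c * t) ∧ (t * c * t) * x = x * (t * c * t) := by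
  have hti := F.inv
  refine ⟨?_, ((Commute.mul_left F.tx hx).mul_left F.tx).eq⟩
  have hz' : t * z * t = z * x := F.tzt
  have key : c * (z * x) = z * x * c := (Commute.mul_right hz hx).eq
  calc t * c * t * z = t * (c * (t * z * t)) * t := by
        simp only [mul_assoc, F.tt, mul_one]
    _ = t * (t * z * t * c) * t := by rw [hz', key]
    _ = t * t * z * (t * c * t) := by group
    _ = z * (t * c * t) := by rw [F.tt, one_mul]

theorem R_mem {r : G} (hr : r ∈ S.R) : t * r * t ∈ S.R := by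
  refine S.mem_R.2 ⟨?_, (F.conj_comm (S.R_z hr) (S.R_x hr)).1⟩
  rw [show g⁻¹ * (t * r * t) * g = g⁻¹ * t * g * (g⁻¹ * r * g) * (g⁻¹ * t * g) by group]
  exact mul_mem (mul_mem F.tg (S.mem_R.1 hr).1) F.tg

theorem ur_flip {r : G} (hr : r ∈ S.R) : S.ur (t * r * t) = S.ur r := by
  have ha := (S.mem_R.1 hr).1
  rcases S.hyp.extra.conj_cases F.tg ha with k | k
  · congr 1
    calc t * r * t = g * (g⁻¹ * t * g * (g⁻¹ * r * g) * (g⁻¹ * t * g)⁻¹) * g⁻¹ := by
          conv_rhs => rw [show g⁻¹ * t * g * (g⁻¹ * r * g) * (g⁻¹ * t * g)⁻¹ = g⁻¹ * (t * r * t⁻¹) * g by group,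
            F.inv]
          group
      _ = r := by rw [k]; group
  · have e : t * r * t = S.el 0 1 * r := by
      calc t * r * t = g * (g⁻¹ * t * g * (g⁻¹ * r * g) * (g⁻¹ * t * g)⁻¹) * g⁻¹ := by
            conv_rhs => rw [show g⁻¹ * t * g * (g⁻¹ * r * g) * (g⁻¹ * t * g)⁻¹ = g⁻¹ * (t * r * t⁻¹) * g by group,
              F.inv]
            group
        _ = g * z * g⁻¹ * r := by rw [k]; group
        _ = _ := by rw [S.hg]; simp [Base.el]
    rw [e, S.ur_mul (S.el_R 0 1) hr, (S.ur_zero (S.el_R 0 1)).2 (S.el_mem 0 1), zero_add]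

theorem Q_mem {q : G} (hq : q ∈ Q) (hqx : q * x = x * q) : t * q * t * q⁻¹ ∈ S.R := by
  have hqz : q * z = z * q := S.hyp.extra.comm_z hq
  refine S.mem_R.2 ⟨?_, (Commute.mul_left (F.conj_comm hqz hqx).1 (Commute.inv_left hqz)).eq⟩
  rw [show g⁻¹ * (t * q * t * q⁻¹) * g = g⁻¹ * t * g * (g⁻¹ * (q * t * q⁻¹) * g) by group]
  exact mul_mem F.tg (S.norm_x hqx F.tg)

theorem psi_ne {q : G} (hq : q ∈ Q) (hqx : q * x = x * q) (hw : (K.vec q).2 ≠ 0) :
    S.ur (t * q * t * q⁻¹) ≠ 0 := by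
  intro h
  have hr := F.Q_mem hq hqx
  obtain ⟨h1, h2⟩ := S.inter ((S.ur_zero hr).1 h) (S.mem_R.1 hr).1
  obtain ⟨i, j, e⟩ := S.exists_el ((S.ur_zero hr).1 h) h1 h2
  obtain ⟨s, hs⟩ := exists_BW_one _ hw
  set q' := K.lift (inj s) with hq'def
  have hq' : q' ∈ Q := K.lift_mem _
  have hq'x : q' * x = x * q' := S.lift_x s
  have hr' := F.Q_mem hq' hq'x
  set r' := t * q' * t * q'⁻¹ with hr'def
  have hti := F.inv
  have e1 : t * q * t = S.el i j * q := by rw [← e]; group
  have e2 : t * q' * t = r' * q' := by rw [hr'def]; group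
  have c1 : q * q' * q⁻¹ = z * q' := by
    rw [K.conj hq' hq, if_neg]
    rw [B_comm, hq'def, K.vec_lift]
    simp [B, pB, inj, (S.comm_x_iff hq).1 hqx, hs]
  set β := BW (S.ur r') (K.vec q).2 with hβ
  have c2 : q * r' * q⁻¹ = S.el β β * r' := by
    have k := S.comm_R hr' hq hqx
    rw [← hβ] at k
    calc q * r' * q⁻¹ = (r' * q * r'⁻¹ * q⁻¹)⁻¹ * r' := by group
      _ = _ := by rw [k, inv_eq_of_mul_eq_one_right (S.el_sq β β)]
  have c3 : (t * q * t) * (t * q' * t) * (t * q * t)⁻¹ = (t * z * t) * (t * q' * t) := by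
    calc t * q * t * (t * q' * t) * (t * q * t)⁻¹ = t * (q * (t * t) * q' * (t * t⁻¹) * q⁻¹) * t⁻¹ := by group
      _ = t * (z * (t * t) * q') * t := by rw [F.tt, mul_inv_cancel, hti, mul_one, mul_one, c1, mul_one]
      _ = _ := by group
  have hrq' : (q * r' * q⁻¹ * (q * q' * q⁻¹)) * S.el i j = S.el i j * (q * r' * q⁻¹ * (q * q' * q⁻¹)) := by
    refine S.el_comm ?_ ?_ i j
    · exact (Commute.mul_left
        ((Commute.mul_left (S.hyp.extra.comm_z hq) (S.R_z hr')).mul_left (S.hyp.extra.comm_z (inv_mem hq)))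
        ((Commute.mul_left (S.hyp.extra.comm_z hq) (S.hyp.extra.comm_z hq')).mul_left (S.hyp.extra.comm_z (inv_mem hq)))).eq
    · exact (Commute.mul_left
        ((Commute.mul_left hqx (S.R_x hr')).mul_left (Commute.inv_left hqx))
        ((Commute.mul_left hqx hq'x).mul_left (Commute.inv_left hqx))).eq
  rw [e1, e2, F.tzt, show S.el i j * q * (r' * q') * (S.el i j * q)⁻¹ =
    S.el i j * (q * r' * q⁻¹ * (q * q' * q⁻¹)) * (S.el i j)⁻¹ by group, ← hrq', mul_inv_cancel_right,
    c1, c2] at c3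
  have c4 : S.el (β + 1) β = S.el 1 1 := by
    apply mul_right_cancel (b := r' * q')
    calc S.el (β + 1) β * (r' * q') = S.el β β * (S.el 1 0 * r') * q' := by
          rw [show S.el (β + 1) β = S.el β β * S.el 1 0 by rw [S.el_mul, add_zero]]; group
      _ = S.el β β * r' * (z * q') := by rw [← S.R_el hr' 1 0]; simp [Base.el, mul_assoc]
      _ = z * x * (r' * q') := c3
      _ = _ := by simp [Base.el]
  obtain ⟨k1, k2⟩ := S.el_inj c4
  rw [k2] at k1
  exact absurd k1 (by decide)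

theorem psi_form {q : G} (hq : q ∈ Q) (hqx : q * x = x * q) :
    BW (S.ur (t * q * t * q⁻¹)) (K.vec q).2 = 0 ∧ qW 0 (S.ur (t * q * t * q⁻¹)) = qW 0 (K.vec q).2 := by
  have hr := F.Q_mem hq hqx
  set r := t * q * t * q⁻¹ with hrdef
  have h1 : r * q * (r * q) = t * (q * q) * t := by
    rw [show r * q = t * q * t by rw [hrdef]; group,
      show t * q * t * (t * q * t) = t * q * (t * t) * q * t by group, F.tt, mul_one, mul_assoc t q q]
  have h2 : q * q = S.el (qW 0 (K.vec q).2) 0 := by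
    rw [K.sq hq, show qV 0 (K.vec q) = qW 0 (K.vec q).2 by simp [qV, (S.comm_x_iff hq).1 hqx]]
    rcases zcases (qW 0 (K.vec q).2) with h | h <;> simp [h, Base.el]
  rw [S.sq_rq hr hq hqx, h2, F.el, add_zero] at h1
  obtain ⟨k1, k2⟩ := S.el_inj h1
  have hb : BW (S.ur r) (K.vec q).2 = 0 := by linear_combination k1
  rw [hb, zero_add] at k2
  exact ⟨hb, k2⟩

theorem psi_mul {q q' : G} (hq : q ∈ Q) (hqx : q * x = x * q) (hq' : q' ∈ Q) (hqx' : q' * x = x * q') :
    S.ur (t * (q * q') * t * (q * q')⁻¹) = S.ur (t * q * t * q⁻¹) + S.ur (t * q' * t * q'⁻¹) := by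
  have hr := F.Q_mem hq hqx
  have hr' := F.Q_mem hq' hqx'
  have hqz := S.hyp.extra.comm_z hq
  obtain ⟨hm, hum⟩ := S.conj_R hqz hqx (K.act_mem S.hyp hq _) hr'
  have e : t * (q * q') * t * (q * q')⁻¹ = t * q * t * q⁻¹ * (q * (t * q' * t * q'⁻¹) * q⁻¹) := by
    calc t * (q * q') * t * (q * q')⁻¹ = t * q * (t * t) * q' * t * (q'⁻¹ * q⁻¹) := by rw [F.tt]; group
      _ = _ := by group
  rw [e, S.ur_mul hr hm, hum, K.res_mem S.hyp hq]

/-- The flip turns a lift of a vector into that lift times an element of `R` with the same parameter. -/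
theorem psi {q : G} (hq : q ∈ Q) (hqx : q * x = x * q) : S.ur (t * q * t * q⁻¹) = (K.vec q).2 := by
  have H := S.hyp
  have hadd : ∀ u v : W, S.ur (t * K.lift (inj (u + v)) * t * (K.lift (inj (u + v)))⁻¹) =
      S.ur (t * K.lift (inj u) * t * (K.lift (inj u))⁻¹) + S.ur (t * K.lift (inj v) * t * (K.lift (inj v))⁻¹) := by
    intro u v
    rw [← F.psi_mul (K.lift_mem _) (S.lift_x u) (K.lift_mem _) (S.lift_x v)]
    obtain ⟨i, j, e⟩ := S.exists_el (b := (K.lift (inj u) * K.lift (inj v))⁻¹ * K.lift (inj (u + v)))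
      (mul_mem (inv_mem (mul_mem (K.lift_mem _) (K.lift_mem _))) (K.lift_mem _))
      (by rw [K.mul (inv_mem (mul_mem (K.lift_mem _) (K.lift_mem _))) (K.lift_mem _),
        K.vec_inv (mul_mem (K.lift_mem _) (K.lift_mem _)), K.mul (K.lift_mem _) (K.lift_mem _),
        K.vec_lift, K.vec_lift, K.vec_lift, inj_add, addV]; rfl)
      (by rw [K.mul (inv_mem (mul_mem (K.lift_mem _) (K.lift_mem _))) (K.lift_mem _),
        K.vec_inv (mul_mem (K.lift_mem _) (K.lift_mem _)), K.mul (K.lift_mem _) (K.lift_mem _),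
        K.vec_lift, K.vec_lift, K.vec_lift, inj_add, addV]; rfl)
    rw [inv_mul_eq_iff_eq_mul.1 e, F.psi_mul (mul_mem (K.lift_mem _) (K.lift_mem _))
      (Commute.mul_left (S.lift_x u) (S.lift_x v)).eq (S.el_mem i j) (S.el_x i j), F.el,
      inv_eq_of_mul_eq_one_right (S.el_sq i j), S.el_mul, (S.ur_zero (S.el_R _ _)).2 (S.el_mem _ _), add_zero]
  have hsing : ∀ s : W, qW 0 s = 0 → S.ur (t * K.lift (inj s) * t * (K.lift (inj s))⁻¹) = s := by
    intro s hs
    by_cases hs0 : s = 0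
    · subst hs0
      have h0 := hadd 0 0
      rw [add_zero] at h0
      exact left_eq_add.mp h0
    set q := K.lift (inj s) with hqdef
    have hq : q ∈ Q := K.lift_mem _
    have hqx : q * x = x * q := S.lift_x s
    have hr := F.Q_mem hq hqx
    set r := t * q * t * q⁻¹ with hrdef
    have hv : (K.vec q).2 = s := by rw [hqdef, K.vec_lift]; rfl
    have hu0 : S.ur r ≠ 0 := F.psi_ne hq hqx (by rw [hv]; exact hs0)
    obtain ⟨hb, hqu⟩ := F.psi_form hq hqx
    rw [← hrdef, hv] at hb hqu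
    rw [hs] at hqu
    have ht : S.Typ (S.ur r) s (t * q * t) := ⟨r, q, hr, hq, hqx, by rw [hrdef]; group, rfl, hv⟩
    have hq1 : q ≠ 1 := fun h => hs0 (by rw [← hv, h, K.vec_one]; rfl)
    have hq2 : q * q = 1 := (K.invol_iff H.extra.ne_one hq).2 (by rw [hqdef, K.vec_lift, qV_inj, hs])
    obtain ⟨h, hh⟩ := K.conj_of_mem H hq hq2 hq1
    have hroot : K.Root x0 (inj (S.ur r)) (t * q * t) := by
      refine ⟨S.typ_comm ht, by rw [S.typ_act ht, E_eq_rootV hqu], ?_, isConj_iff.2 ⟨t * h, ?_⟩⟩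
      · rw [show t * q * t * (t * q * t) = t * q * (t * t) * q * t by group, F.tt, mul_one,
          mul_assoc t q q, hq2, mul_one, F.tt]
      · rw [show t * h * z * (t * h)⁻¹ = t * (h * z * h⁻¹) * t⁻¹ by group, hh, F.inv]
    rcases S.root_typ hqu hu0 hroot with k | k
    · exact absurd (S.typ_unique ht k).2 hs0
    · exact ((S.typ_unique ht k).2).symm
  obtain ⟨i, j, e⟩ := S.exists_el (b := (K.lift (inj (K.vec q).2))⁻¹ * q) (mul_mem (inv_mem (K.lift_mem _)) hq)
    (by rw [K.mul (inv_mem (K.lift_mem _)) hq, K.vec_inv (K.lift_mem _), K.vec_lift, Prod.fst_add, Prod.snd_add,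
      (S.comm_x_iff hq).1 hqx]; simp [inj])
    (by rw [K.mul (inv_mem (K.lift_mem _)) hq, K.vec_inv (K.lift_mem _), K.vec_lift, Prod.snd_add]; exact addW _)
  obtain ⟨s, hs, s', hs', hw⟩ := singular_sum (K.vec q).2
  conv_lhs => rw [inv_mul_eq_iff_eq_mul.1 e]
  rw [F.psi_mul (K.lift_mem _) (S.lift_x _) (S.el_mem i j) (S.el_x i j), F.el,
      inv_eq_of_mul_eq_one_right (S.el_sq i j), S.el_mul, (S.ur_zero (S.el_R _ _)).2 (S.el_mem _ _), add_zero,
      hw, hadd, hsing s hs, hsing s' hs']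

theorem line_mem {d : G} (hdz : d * z = z * d) (hdx : d * x = x * d) (hd : d * d = 1) :
    t * d * t * d ∈ S.R := by
  refine S.mem_R.2 ⟨?_, (Commute.mul_left (F.conj_comm hdz hdx).1 hdz).eq⟩
  rw [show g⁻¹ * (t * d * t * d) * g = g⁻¹ * t * g * (g⁻¹ * (d * t * d) * g) by group]
  refine mul_mem F.tg ?_
  have h := S.norm_x hdx F.tg
  rwa [inv_eq_of_mul_eq_one_right hd] at h

end Flip

namespace Base

variable {K : Coord z Q 0} {x g : G} (S : Base K x g)
include S

/-- A root element over the standard line is a lift of the standard map in the sense of `Line`. -/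
theorem line_root {d : G} (hd : K.Root (inj A1) (inj A2) d) : ∃ Φ, Line S d Φ := by
  have H := S.hyp
  obtain ⟨d0, Φ, L⟩ := S.exists_line
  obtain ⟨h1, h2, h3, h4, h5, h6⟩ := line_base
  have hlift : ∀ q ∈ Q, (K.vec q).1.2 = 0 → BW (K.vec q).2 A1 = 0 → BW (K.vec q).2 A2 = 0 → d * q = q * d :=
    fun q hq k0 k1 k2 => S.root_comm_lift h1 h2 h3 h4 h5 h6 hd hq (by simp [B, pB, inj, k1])
      (by simp [B, pB, inj, k2])
  have hdx : d * x = x * d := hlift x S.hx (by rw [S.hxv]; rfl) (by rw [S.hxv]; exact BW_zero_left _)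
    (by rw [S.hxv]; exact BW_zero_left _)
  have hact : ∀ v, K.act d v = D0 v := fun v => by rw [hd.2.1, D0_rootV]
  set q0 := d0 * d with hq0
  have hq0Q : q0 ∈ Q := K.mem_of_act H (Commute.mul_left L.dz hd.1).eq fun v => by
    rw [K.act_mul H L.dz hd.1, L.act, hact, D0_invol]
  have hq0x : q0 * x = x * q0 := (Commute.mul_left L.dx hdx).eq
  have he : d = d0 * q0 := by rw [hq0, ← mul_assoc, L.sq, one_mul]
  refine ⟨Φ, hd.1, hdx, hd.2.2.1, hact, hlift, L.hΦ, fun r hr k1 k2 => ?_⟩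
  have hperp : BW (S.ur r) (K.vec q0).2 = 0 := by
    set a := K.lift (inj (S.ur r)) with ha
    have haQ : a ∈ Q := K.lift_mem _
    have e0 := L.dq a haQ (by rw [ha, K.vec_lift]; rfl) (by rw [ha, K.vec_lift]; exact k1) (by rw [ha, K.vec_lift]; exact k2)
    have e1 := hlift a haQ (by rw [ha, K.vec_lift]; rfl) (by rw [ha, K.vec_lift]; exact k1) (by rw [ha, K.vec_lift]; exact k2)
    have := (K.comm_iff H.extra.ne_one hq0Q haQ).1 (Commute.mul_left e0 e1).eq
    rw [ha, K.vec_lift, B_comm] at this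
    simpa [B, pB, inj, (S.comm_x_iff hq0Q).1 hq0x] using this
  have hc := S.comm_el_zero hr hq0Q hq0x hperp
  rw [← L.dr r hr k1 k2, he]
  calc d0 * q0 * r * (d0 * q0)⁻¹ * r⁻¹ = d0 * (q0 * r) * q0⁻¹ * d0⁻¹ * r⁻¹ := by group
    _ = _ := by rw [← hc]; group

/-- The parameter of `t d t d`. -/
theorem flip_line {t d : G} {Φ : W} (F : Flip S t) (L : Line S d Φ) :
    BW (S.ur (t * d * t * d)) A1 = 0 ∧ BW (S.ur (t * d * t * d)) A2 = 0 ∧ qW 0 (S.ur (t * d * t * d)) = 0 ∧
      ∀ w, BW w A1 = 0 → BW w A2 = 0 → BW w Φ = BW w (S.ur (t * d * t * d)) := by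
  have H := S.hyp
  have hr0 := F.line_mem L.dz L.dx L.sq
  set r0 := t * d * t * d with hr0def
  have e0 : t * d * t = r0 * d := by rw [hr0def, mul_assoc (t * d * t), L.sq, mul_one]
  have key : ∀ w, BW w A1 = 0 → BW w A2 = 0 → BW w Φ = BW w (S.ur r0) := by
    intro w k1 k2
    set q := K.lift (inj w) with hqdef
    have hq : q ∈ Q := K.lift_mem _
    have hqx : q * x = x * q := S.lift_x w
    have hv : (K.vec q).2 = w := by rw [hqdef, K.vec_lift]; rfl
    have hr := F.Q_mem hq hqx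
    set r := t * q * t * q⁻¹ with hrdef
    have hu : S.ur r = w := (F.psi hq hqx).trans hv
    have hdq := L.dq q hq (by rw [hqdef, K.vec_lift]; rfl) (by rw [hv]; exact k1) (by rw [hv]; exact k2)
    have e1 : t * q * t = r * q := by rw [hrdef]; group
    have e2 : r0 * d * (r * q) = r * q * (r0 * d) := by
      rw [← e0, ← e1]
      calc t * d * t * (t * q * t) = t * (d * (t * t) * q) * t := by group
        _ = t * (q * (t * t) * d) * t := by rw [F.tt, mul_one, mul_one, hdq]
        _ = _ := by group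
    have e3 : d * r = S.el (BW w Φ) 0 * r * d := by
      rw [← hu, ← L.dr r hr (by rw [hu]; exact k1) (by rw [hu]; exact k2)]; group
    set β := BW (S.ur r0) w with hβ
    have e4 : r0 * q = S.el β β * (q * r0) := by
      have k := S.comm_R hr0 hq hqx
      rw [hv, ← hβ] at k
      rw [← k]; group
    obtain ⟨j, hj⟩ := S.R_comm hr0 hr
    have e5 : r0 * r = S.el 0 j * (r * r0) := by rw [← hj]; group
    have e6 : S.el (BW w Φ) j * (r * r0 * (q * d)) = S.el 0 0 * (r * (q * r0) * d) := by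
      calc S.el (BW w Φ) j * (r * r0 * (q * d)) = S.el (BW w Φ) 0 * (S.el 0 j * (r * r0)) * (q * d) := by
            rw [← mul_assoc (S.el (BW w Φ) 0), S.el_mul, zero_add, add_zero]; group
        _ = S.el (BW w Φ) 0 * r0 * r * (q * d) := by rw [← e5]; group
        _ = r0 * (S.el (BW w Φ) 0 * r * d) * q := by
            rw [← S.R_el hr0, ← hdq]; group
        _ = r * q * (r0 * d) := by rw [← e3, ← e2]; group
        _ = _ := by rw [S.el_zero, one_mul]; group
    have e7 : r * r0 * (q * d) = S.el β β * (r * (q * r0) * d) := by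
      calc r * r0 * (q * d) = r * (r0 * q) * d := by group
        _ = r * S.el β β * (q * r0) * d := by rw [e4]; group
        _ = S.el β β * r * (q * r0) * d := by rw [S.R_el hr]
        _ = _ := by group
    rw [e7, ← mul_assoc, S.el_mul] at e6
    have := (S.el_inj (mul_right_cancel e6)).1
    rw [BW_comm w (S.ur r0)]
    linear_combination (CharTwo.eq_add_iff_add_eq.1 this.symm).symm
  have hA := eq_mod_line (Φ + S.ur r0) fun w k1 k2 => by
    rw [BW_add_right, key w k1 k2, CharTwo.add_self_eq_zero]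
  rw [BW_add_left, BW_add_left, L.hΦ.1, L.hΦ.2, zero_add, zero_add] at hA
  refine ⟨hA.1, hA.2.1, ?_, key⟩
  have e3 : d * r0 * d⁻¹ * r0⁻¹ = S.el (BW (S.ur r0) Φ) 0 := L.dr r0 hr0 hA.1 hA.2.1
  have e1 : r0 * d * (r0 * d) = 1 := by
    rw [← e0, show t * d * t * (t * d * t) = t * d * (t * t) * d * t by group, F.tt, mul_one, mul_assoc t d d,
      L.sq, mul_one, F.tt]
  have e2 : r0 * d * (r0 * d) = S.el (BW (S.ur r0) Φ) 0 * (r0 * r0) := by
    rw [← e3, inv_eq_of_mul_eq_one_right L.sq]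
    calc r0 * d * (r0 * d) = r0 * (d * r0 * d * r0⁻¹) * r0 := by group
      _ = r0 * S.el (BW (S.ur r0) Φ) 0 * r0 := by
          rw [← e3, inv_eq_of_mul_eq_one_right L.sq]
      _ = _ := by rw [S.R_el hr0, ← e3, inv_eq_of_mul_eq_one_right L.sq]; group
  rw [e1, S.sq_R hr0, S.el_mul, add_zero, zero_add, ← S.el_zero] at e2
  exact ((S.el_inj e2).2).symm

end Base

/-- The starting configuration. -/
structure Start {K : Coord z Q 0} {x g : G} (S : Base K x g) (t d : G) : Prop where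
  flip : Flip S t
  root : K.Root (inj A1) (inj A2) d
  h1 : BW H1 (S.ur (t * d * t * d)) = 0

theorem Hyp.exists_start (H : Hyp z Q) (K : Coord z Q 0) :
    ∃ (K' : Coord z Q 0) (x g : G) (S : Base K' x g) (t d : G), Start S t d := by
  obtain ⟨x, g, S⟩ := K.exists_base H
  obtain ⟨t, F⟩ := S.exists_flip
  obtain ⟨h1, h2, h3, h4, h5, h6⟩ := line_base
  obtain ⟨d, hd⟩ := S.root_exists h1 h2 h3 h4 h5 h6
  obtain ⟨Φ, L⟩ := S.line_root hd
  obtain ⟨k1, k2, k3, -⟩ := S.flip_line F L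
  rcases plane_third _ k1 k2 k3 with k | k
  · exact ⟨K, x, g, S, t, d, F, hd, by rw [BW_comm]; exact k⟩
  have hact : ∀ c v, c * z = z * c → K.twist.act c v = refl (inj HS) (K.act c (refl (inj HS) v)) := by
    intro c v hc
    have hv : K.twist.vec (K.lift (refl (inj HS) v)) = v := by
      show refl (inj HS) (K.vec _) = v
      rw [K.vec_lift, refl_refl]
    conv_lhs => rw [← hv]
    rw [K.twist.act_vec H hc (K.lift_mem _)]
    rfl
  have S' : Base K.twist x g := ⟨H, S.hx, by show refl (inj HS) (K.vec x) = x0; rw [S.hxv, twist_facts.2.1], S.hg⟩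
  have hd' : K.twist.Root (inj A1) (inj A2) d := by
    refine ⟨hd.1, funext fun v => ?_, hd.2.2⟩
    rw [hact d v hd.1, hd.2.1]
    have e : ∀ a, refl (inj HS) a = a → B (refl (inj HS) v) a = B v a := fun a ha => by
      conv_lhs => rw [← ha]
      exact refl_B _ _ _ qV_HS
    have hs : ∀ (i : ZMod 2) a, refl (inj HS) a = a → refl (inj HS) (i • a) = i • a := fun i a ha => by
      rcases zcases i with rfl | rfl <;> simp [refl, B_zero_left] at ha ⊢
      exact ha
    rw [rootV, refl_add, refl_add, refl_refl, e _ twist_facts.2.2.2, e _ twist_facts.2.2.1,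
      hs _ _ twist_facts.2.2.1, hs _ _ twist_facts.2.2.2]
    rfl
  refine ⟨K.twist, x, g, S', t, d, ⟨F.tt, F.tg, F.tzt⟩, hd', ?_⟩
  have hr0 := F.line_mem L.dz L.dx L.sq
  have hu : S'.ur (t * d * t * d) = reflW HS (S.ur (t * d * t * d)) := by
    show (K.twist.act _ f0).2 = _
    rw [hact _ _ (S.R_z hr0), show refl (inj HS) f0 = f0 by decide +kernel, S.act_R hr0]
    generalize S.ur (t * d * t * d) = u
    revert u
    decide +kernel
  rw [hu]
  have e : ∀ u, BW H1 (reflW HS u) = BW H2 u := by decide +kernel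
  rw [e, BW_comm]
  exact k

end CfsgLib.CoOneType
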