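import Mathlib
import Cfsg.Agent.Lib.CoOneGolay.Swap

/-!
Eleven commuting involutions attached to a singular four-space and the exact conjugation rules they obey.
-/

set_option autoImplicit false
set_option linter.style.longLine false
set_option maxHeartbeats 1000000
set_option synthInstance.maxSize 8000
set_option synthInstance.maxHeartbeats 1000000

namespace CfsgLib.CoOneType

open Subgroup

/-- The basis of the singular plane. -/
def av : Fin 3 → W := ![A1, A2, H1]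
/-- Its dual. -/
def gv : Fin 3 → W := ![G1, ((0, 0), ((0, 1), 0)), H2]

theorem av_facts : ∀ k : Fin 3, av k ≠ 0 ∧ qW 0 (av k) = 0 ∧ qW 0 (gv k) = 0 ∧
    ∀ l : Fin 3, (BW (av k) (av l) = 0 ∧ BW (gv k) (gv l) = 0 ∧
      BW (av k) (gv l) = if k = l then 1 else 0) ∧ (k ≠ l → av k ≠ av l) := by decide +kernel

theorem plane_coord : ∀ h : W, BW h A1 = 0 → BW h A2 = 0 → BW h H1 = 0 →
    ∃ i j : ZMod 2, h = i • A1 + j • A2 + BW h H2 • H1 := by decide +kernel

theorem H1_not_span : ∀ i j : ZMod 2, H1 ≠ i • A1 + j • A2 := by decide +kernel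

theorem inj_injective {a b : W} (h : inj a = inj b) : a = b := congrArg Prod.snd h

theorem fin3_cases : ∀ k l : Fin 3, k ≠ l → k = l + 1 ∨ k = l + 2 := by decide

theorem span_inj {p m : W} (hp : p ≠ 0) (hm : m ≠ 0) (hmp : m ≠ p) :
    inj p ≠ 0 ∧ inj m ≠ 0 ∧ inj m ≠ inj p := by
  refine ⟨fun h => hp (congrArg Prod.snd h), fun h => hm (congrArg Prod.snd h), fun h => hmp (congrArg Prod.snd h)⟩

theorem smul_res {f : W → W} (hadd : ∀ a b, f (a + b) = f a + f b) (t : ZMod 2) (a : W) : f (t • a) = t • f a := by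
  rcases zcases t with rfl | rfl
  · simp only [zero_smul]
    have := hadd 0 0
    rw [add_zero] at this
    exact left_eq_add.mp this
  · simp

theorem exists_clear (p m : W) (hp : p ≠ 0) (hm : m ≠ 0) (hmp : m ≠ p) (a b : ZMod 2) :
    ∃ u : W, BW u p = a ∧ BW u m = b := by
  obtain ⟨s, hs⟩ := exists_BW_one p hp
  obtain ⟨s', hs'⟩ := exists_BW_one m hm
  obtain ⟨s'', hs''⟩ := exists_BW_one (p + m) (fun h => hmp (eqW h).symm)
  rw [BW_add_left] at hs''
  have key : ∀ u v : W, BW u p = 1 → BW u m = 0 → BW v p = 0 → BW v m = 1 → ∃ u', BW u' p = a ∧ BW u' m = b :=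
    fun u v h1 h2 h3 h4 => ⟨a • u + b • v, by simp [BW_add_left, BW_smul_left, h1, h3],
      by simp [BW_add_left, BW_smul_left, h2, h4]⟩
  rw [BW_comm] at hs hs'
  rw [BW_comm p, BW_comm m] at hs''
  rcases zcases (BW s m) with e | e
  · rcases zcases (BW s' p) with e' | e'
    · exact key s s' hs e e' hs'
    · refine key s (s + s') hs e ?_ ?_
      · rw [BW_add_left, hs, e']; decide
      · rw [BW_add_left, e, hs', zero_add]
  · rcases zcases (BW s' p) with e' | e'
    · refine key (s + s') s' ?_ ?_ e' hs'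
      · rw [BW_add_left, hs, e', add_zero]
      · rw [BW_add_left, e, hs']; decide
    · rcases zcases (BW s'' p) with e'' | e''
      · rw [e'', zero_add] at hs''
        refine key (s + s'') s'' ?_ ?_ e'' hs''
        · rw [BW_add_left, hs, e'', add_zero]
        · rw [BW_add_left, e, hs'']; decide
      · rw [e''] at hs''
        have e3 : BW s'' m = 0 := by linear_combination hs''
        refine key s'' (s + s'') e'' e3 ?_ ?_
        · rw [BW_add_left, hs, e'']; decide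
        · rw [BW_add_left, e, e3, add_zero]

variable {G : Type*} [Group G] [Finite G] {z : G} {Q : Subgroup G}

namespace Base

variable {K : Coord z Q 0} {x g : G} (S : Base K x g)
include S

/-- A vector orthogonal to everything orthogonal to two vectors is one of their combinations. -/
theorem span_of_perp {p m v : V} (hp : p ≠ 0) (hm : m ≠ 0) (hmp : m ≠ p)
    (h : ∀ u, B u p = 0 → B u m = 0 → B u v = 0) : ∃ i j : ZMod 2, v = i • p + j • m := by
  obtain ⟨a, ha0, ha1⟩ := separate m p hp (Ne.symm hmp)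
  obtain ⟨b, hb0, hb1⟩ := separate p m hm hmp
  refine ⟨B a v, B b v, B_nondeg fun u => ?_⟩
  have hl : ∀ (s : ZMod 2) (c d : V), B c (s • d) = s * B c d ∧ B (s • c) d = s * B c d := fun s c d => by
    rcases zcases s with rfl | rfl <;> simp [B_zero_left, B_zero_right]
  have k := h (u + B u p • a + B u m • b)
    (by rw [B_add_left, B_add_left, (hl _ _ _).2, (hl _ _ _).2, ha1, hb0, mul_one, mul_zero, add_zero,
      CharTwo.add_self_eq_zero])
    (by rw [B_add_left, B_add_left, (hl _ _ _).2, (hl _ _ _).2, ha0, hb1, mul_one, mul_zero, add_zero,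
      CharTwo.add_self_eq_zero])
  rw [B_add_left, B_add_left, (hl _ _ _).2, (hl _ _ _).2, add_assoc] at k
  rw [B_add_right, (hl _ _ _).1, (hl _ _ _).1, eq_of_add _ _ k]
  ring

/-- An element with the action of a root map is a root element as soon as it centralizes the orthogonal lifts. -/
theorem root_of_comm {p m : V} (hp : p ≠ 0) (hpq : qV 0 p = 0) (hm : m ≠ 0) (hmp : m ≠ p) (hmq : qV 0 m = 0)
    (hpm : B p m = 0) {a : G} (haz : a * z = z * a) (hact : K.act a = rootV p m)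
    (h : ∀ q ∈ Q, B (K.vec q) p = 0 → B (K.vec q) m = 0 → a * q = q * a) : K.Root p m a := by
  have H := S.hyp
  obtain ⟨a0, ha0⟩ := S.root_exists hp hpq hm hmp hmq hpm
  set q0 := a0 * a with hq0
  have hq0Q : q0 ∈ Q := K.mem_of_act H (Commute.mul_left ha0.1 haz).eq fun v => by
    rw [K.act_mul H ha0.1 haz, hact, show rootV p m v = K.act a0 v by rw [ha0.2.1], ← K.act_mul H ha0.1 ha0.1,
      ha0.2.2.1, K.act_one H]
  obtain ⟨i, j, hv⟩ := S.span_of_perp hp hm hmp (v := K.vec q0) fun u h1 h2 => by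
    have hu := K.lift_mem u
    have e1 := S.root_comm_lift hp hpq hm hmp hmq hpm ha0 hu (by rw [K.vec_lift, h1]) (by rw [K.vec_lift, h2])
    have e2 := h _ hu (by rw [K.vec_lift, h1]) (by rw [K.vec_lift, h2])
    have := (K.comm_iff H.extra.ne_one hq0Q hu).1 (Commute.mul_left e1 e2).eq
    rwa [K.vec_lift, B_comm] at this
  have := S.root_mul_lift hp hpq hm hmp hmq hpm ha0 hq0Q i j hv
  rwa [hq0, ← mul_assoc, ha0.2.2.1, one_mul] at this

/-- Two root elements over one line differ by a lift of a vector of the line. -/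
theorem root_diff {p m : V} (hp : p ≠ 0) (hpq : qV 0 p = 0) (hm : m ≠ 0) (hmp : m ≠ p) (hmq : qV 0 m = 0)
    (hpm : B p m = 0) {a b : G} (ha : K.Root p m a) (hb : K.Root p m b) :
    ∃ q ∈ Q, (∃ i j : ZMod 2, K.vec q = i • p + j • m) ∧ b = a * q := by
  have H := S.hyp
  have hqQ : a * b ∈ Q := K.mem_of_act H (Commute.mul_left ha.1 hb.1).eq fun v => by
    rw [K.act_mul H ha.1 hb.1, hb.2.1, show rootV p m v = K.act a v by rw [ha.2.1], ← K.act_mul H ha.1 ha.1,
      ha.2.2.1, K.act_one H]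
  refine ⟨a * b, hqQ, S.span_of_perp hp hm hmp fun u h1 h2 => ?_, by rw [← mul_assoc, ha.2.2.1, one_mul]⟩
  have hu := K.lift_mem u
  have e1 := S.root_comm_lift hp hpq hm hmp hmq hpm ha hu (by rw [K.vec_lift, h1]) (by rw [K.vec_lift, h2])
  have e2 := S.root_comm_lift hp hpq hm hmp hmq hpm hb hu (by rw [K.vec_lift, h1]) (by rw [K.vec_lift, h2])
  have := (K.comm_iff H.extra.ne_one hqQ hu).1 (Commute.mul_left e1 e2).eq
  rwa [K.vec_lift, B_comm] at this

theorem ur_inv {r : G} (hr : r ∈ S.R) : S.ur r⁻¹ = S.ur r := by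
  have := S.ur_mul hr (inv_mem hr)
  rw [mul_inv_cancel, (S.ur_zero (one_mem _)).2 (one_mem _)] at this
  exact (eqW this.symm).symm

theorem root_res {p m : W} {a : G} (ha : K.Root (inj p) (inj m) a) (u : W) :
    K.res a u = u + BW u m • p + BW u p • m := by
  show (K.act a (inj u)).2 = _
  rw [ha.2.1, rootV, B_inj, B_inj]
  rfl

theorem root_fix {p m : W} {a : G} (ha : K.Root (inj p) (inj m) a) : K.act a x0 = x0 := by
  rw [ha.2.1, rootV, B_comm x0, B_comm x0, B_x0, B_x0]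
  simp [inj]

theorem root_x {p m : W} (hp : p ≠ 0) (hpq : qW 0 p = 0) (hm : m ≠ 0) (hmp : m ≠ p) (hmq : qW 0 m = 0)
    (hpm : BW p m = 0) {a : G} (ha : K.Root (inj p) (inj m) a) : a * x = x * a := by
  obtain ⟨h1, h2, h3⟩ := span_inj hp hm hmp
  exact S.root_comm_lift h1 ((qV_inj 0 p).trans hpq) h2 h3 ((qV_inj 0 m).trans hmq) ((B_inj p m).trans hpm) ha
    S.hx (by rw [S.hxv, B_comm, B_x0]; rfl) (by rw [S.hxv, B_comm, B_x0]; rfl)

/-- The parameter after multiplying by a lift. -/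
theorem flip_mul_lift {t a q : G} (F : Flip S t) (haz : a * z = z * a) (hax : a * x = x * a) (ha2 : a * a = 1)
    (hafix : K.act a x0 = x0) (hq : q ∈ Q) (hqx : q * x = x * q) (hcomm : a * q = q * a) (hq2 : q * q = 1) :
    S.ur (t * (a * q) * t * (a * q)) = S.ur (t * a * t * a) + K.res a (K.vec q).2 := by
  have hr := F.Q_mem hq hqx
  obtain ⟨hm, hum⟩ := S.conj_R haz hax hafix hr
  have e : t * (a * q) * t * (a * q) = t * a * t * a * (a * (t * q * t * q⁻¹) * a⁻¹) := by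
    have hai := inv_eq_of_mul_eq_one_right ha2
    have hqi := inv_eq_of_mul_eq_one_right hq2
    rw [hai, hqi]
    calc t * (a * q) * t * (a * q) = t * a * q * t * (q * a) := by rw [← hcomm]; group
      _ = t * a * (t * (a * a) * t) * q * t * (q * a) := by rw [ha2, mul_one, F.tt, mul_one]
      _ = _ := by group
  rw [e, S.ur_mul (F.line_mem haz hax ha2) hm, hum, F.psi hq hqx]

/-- The parameter of a conjugate. -/
theorem flip_conj {t a c : G} {p m : W} (F : Flip S t) (hc : c * z = z * c) (hcx : c * x = x * c)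
    (hc0 : K.act c x0 = x0) (hp : p ≠ 0) (hpq : qW 0 p = 0) (hm : m ≠ 0) (hmp : m ≠ p) (hmq : qW 0 m = 0)
    (hpm : BW p m = 0) (haz : a * z = z * a) (hax : a * x = x * a) (ha2 : a * a = 1)
    (ha' : K.Root (inj p) (inj m) (c * a * c⁻¹)) :
    ∃ i j : ZMod 2, S.ur (t * (c * a * c⁻¹) * t * (c * a * c⁻¹)) =
      K.res c (S.ur (t * a * t * a)) + i • p + j • m := by
  set b := c * a * c⁻¹ with hb
  have hti := F.inv
  have hbx : b * x = x * b := S.root_x hp hpq hm hmp hmq hpm ha'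
  have hbi := inv_eq_of_mul_eq_one_right ha'.2.2.1
  set ρ := t * (c * t * c⁻¹) with hρ
  have hρR : ρ ∈ S.R := by
    refine S.mem_R.2 ⟨?_, ?_⟩
    · rw [hρ, show g⁻¹ * (t * (c * t * c⁻¹)) * g = g⁻¹ * t * g * (g⁻¹ * (c * t * c⁻¹) * g) by group]
      exact mul_mem F.tg (S.norm_x hcx F.tg)
    · have h1 : c * t * c⁻¹ * z = z * x * (c * t * c⁻¹) := by
        have hci : c⁻¹ * z = z * c⁻¹ := (Commute.inv_left hc).eq
        calc c * t * c⁻¹ * z = c * t * (c⁻¹ * z) := by group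
          _ = c * (t * z * t) * t * c⁻¹ := by
              rw [hci, show c * (t * z * t) * t * c⁻¹ = c * (t * z) * (t * t) * c⁻¹ by group, F.tt]; group
          _ = c * (z * x) * (t * c⁻¹) := by rw [F.tzt]; group
          _ = _ := by rw [(Commute.mul_right hc hcx).eq]; group
      have h2 : t * (z * x) = z * t := by
        rw [← F.tzt, ← mul_assoc, ← mul_assoc, F.tt, one_mul]
      calc t * (c * t * c⁻¹) * z = t * (z * x) * (c * t * c⁻¹) := by rw [mul_assoc, h1]; group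
        _ = _ := by rw [h2, hρ]; group
  obtain ⟨hm1, hum1⟩ := S.conj_R ha'.1 hbx (S.root_fix ha') (inv_mem hρR)
  have hmR : ρ * (b * ρ⁻¹ * b⁻¹) ∈ S.R := mul_mem hρR hm1
  obtain ⟨hcR, hucR⟩ := S.conj_R hc hcx hc0 (F.line_mem haz hax ha2)
  have e : t * (ρ * (b * ρ⁻¹ * b⁻¹)) * t * (t * b * t * b) = c * (t * a * t * a) * c⁻¹ := by
    have e1 : c * (t * a * t * a) * c⁻¹ = c * t * c⁻¹ * b * (c * t * c⁻¹)⁻¹ * b := by
      calc c * (t * a * t * a) * c⁻¹ = c * t * a * t⁻¹ * a * c⁻¹ := by rw [hti]; group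
        _ = _ := by rw [hb]; group
    have e2 : c * t * c⁻¹ = t * ρ := by rw [hρ, ← mul_assoc, F.tt, one_mul]
    rw [e1, e2]
    calc t * (ρ * (b * ρ⁻¹ * b⁻¹)) * t * (t * b * t * b)
        = t * ρ * b * ρ⁻¹ * b⁻¹ * (t * t) * b * t * b := by group
      _ = t * ρ * b * ρ⁻¹ * t⁻¹ * b := by rw [F.tt, mul_one, inv_mul_cancel_right, hti]
      _ = _ := by group
  have h := congrArg S.ur e
  rw [S.ur_mul (F.R_mem hmR) (F.line_mem ha'.1 hbx ha'.2.2.1), F.ur_flip hmR, S.ur_mul hρR hm1, hum1, S.ur_inv hρR,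
    hucR, S.root_res ha'] at h
  refine ⟨BW (S.ur ρ) m, BW (S.ur ρ) p, ?_⟩
  rw [← h]
  generalize S.ur (t * b * t * b) = X
  generalize BW (S.ur ρ) m • p = P
  generalize BW (S.ur ρ) p • m = M
  generalize S.ur ρ = R'
  calc X = R' + R' + (P + P) + (M + M) + X := by simp [addW]
    _ = _ := by abel

/-- Every singular line of the residue space is reached from the standard one inside `C(z) ∩ C(x)`. -/
theorem exists_to_line {p m : W} (hp : p ≠ 0) (hpq : qW 0 p = 0) (hm : m ≠ 0) (hmp : m ≠ p) (hmq : qW 0 m = 0)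
    (hpm : BW p m = 0) : ∃ c, c * z = z * c ∧ c * x = x * c ∧ K.act c x0 = x0 ∧
      K.act c (inj A1) = inj p ∧ K.act c (inj A2) = inj m := by
  have H := S.hyp
  obtain ⟨c, hc, hc0, hc1, hc2⟩ := K.resMoveLine H hpq hmq hpm hp hm (Ne.symm hmp)
  obtain ⟨d, hdz, hdx, hd0, hd⟩ := S.exists_fix hc hc0
  have hdi : d⁻¹ * z = z * d⁻¹ := (Commute.inv_left hdz).eq
  have hdi0 : K.act d⁻¹ x0 = x0 := by
    conv_lhs => rw [← hd0]
    exact K.act_inv_cancel H hdz x0
  have h1 : K.res d⁻¹ A1 = p := by rw [← hc1, ← hd]; exact K.res_inv_cancel H hdz hd0 p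
  have h2 : K.res d⁻¹ A2 = m := by rw [← hc2, ← hd]; exact K.res_inv_cancel H hdz hd0 m
  obtain ⟨u, hu1, hu2⟩ := exists_clear p m hp hm hmp (K.act d⁻¹ (inj A1)).1.1 (K.act d⁻¹ (inj A2)).1.1
  obtain ⟨r, hr, hur⟩ := S.exists_R u
  have hrz := S.R_z hr
  refine ⟨r * d⁻¹, (Commute.mul_left hrz hdi).eq, (Commute.mul_left (S.R_x hr) (Commute.inv_left hdx)).eq,
    by rw [K.act_mul H hrz hdi, hdi0, S.R_fix hr], ?_, ?_⟩
  · rw [K.act_mul H hrz hdi, K.act_inj H hdi hdi0 A1, h1, S.act_R hr, hur]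
    simp [E, inj, hu1, CharTwo.add_self_eq_zero]
  · rw [K.act_mul H hrz hdi, K.act_inj H hdi hdi0 A2, h2, S.act_R hr, hur]
    simp [E, inj, hu2, CharTwo.add_self_eq_zero]

end Base

/-- The class of the flip parameter modulo the line, measured by `ε`. -/
def LineClass {K : Coord z Q 0} {x g : G} (S : Base K x g) (t : G) (ε : ZMod 2) : Prop :=
  ∀ p m : W, p ≠ 0 → qW 0 p = 0 → m ≠ 0 → m ≠ p → qW 0 m = 0 → BW p m = 0 →
    ∀ a, K.Root (inj p) (inj m) a →
      ∃ n : W, (∀ i j : ZMod 2, n ≠ i • p + j • m) ∧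
        ∃ i j : ZMod 2, S.ur (t * a * t * a) = i • p + j • m + ε • n

theorem Start.lineClass {K : Coord z Q 0} {x g t d : G} {S : Base K x g} (T : Start S t d) :
    LineClass S t (BW (S.ur (t * d * t * d)) H2) := by
  have H := S.hyp
  intro p m hp hpq hm hmp hmq hpm a ha
  obtain ⟨c, hc, hcx, hc0, hc1, hc2⟩ := S.exists_to_line hp hpq hm hmp hmq hpm
  have hb := T.root.conj K H hc
  rw [hc1, hc2] at hb
  obtain ⟨j1, j2, j3⟩ := span_inj hp hm hmp
  obtain ⟨q, hq, ⟨α, β, hv⟩, hab⟩ := S.root_diff j1 ((qV_inj 0 p).trans hpq) j2 j3 ((qV_inj 0 m).trans hmq)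
    ((B_inj p m).trans hpm) hb ha
  have hA1 : qW 0 A1 = 0 ∧ qW 0 A2 = 0 := ⟨base_line.1, base_line.2.1⟩
  have hdx : d * x = x * d :=
    S.root_x base_line.2.2.2.1 hA1.1 base_line.2.2.2.2.1 (Ne.symm base_line.2.2.2.2.2) hA1.2 base_line.2.2.1 T.root
  obtain ⟨k1, k2, hu⟩ := S.flip_conj T.flip hc hcx hc0 hp hpq hm hmp hmq hpm T.root.1 hdx T.root.2.2.1 hb
  obtain ⟨Φ, L⟩ := S.line_root T.root
  obtain ⟨f1, f2, -, -⟩ := S.flip_line T.flip L
  obtain ⟨h0, h1, hh⟩ := plane_coord _ f1 f2 (by rw [BW_comm]; exact T.h1)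
  have hqt : (K.vec q).2 = α • p + β • m := by rw [hv]; rfl
  have hqx : q * x = x * q := (S.comm_x_iff hq).2 (by rw [hv]; simp [inj])
  have hq2 : q * q = 1 := (K.invol_iff H.extra.ne_one hq).2 (by
    rw [hv]; rcases zcases α with rfl | rfl <;> rcases zcases β with rfl | rfl <;>
      simp [qV_add, qV_inj, hpq, hmq, B_inj, hpm, qV_zero])
  have hbq : c * d * c⁻¹ * q = q * (c * d * c⁻¹) := S.root_comm_lift j1 ((qV_inj 0 p).trans hpq) j2 j3
    ((qV_inj 0 m).trans hmq) ((B_inj p m).trans hpm) hb hq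
    (by rw [hv]; rcases zcases α with rfl | rfl <;> rcases zcases β with rfl | rfl <;>
      simp [B_add_left, B_inj, BW_self, hpm, BW_comm m p, B_zero_left])
    (by rw [hv]; rcases zcases α with rfl | rfl <;> rcases zcases β with rfl | rfl <;>
      simp [B_add_left, B_inj, BW_self, hpm, BW_comm m p, B_zero_left])
  have hfl := S.flip_mul_lift T.flip hb.1 (S.root_x hp hpq hm hmp hmq hpm hb) hb.2.2.1 (S.root_fix hb) hq hqx hbq hq2
  rw [← hab, hu, hqt, S.root_res hb] at hfl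
  have hadd : ∀ a b, K.res c (a + b) = K.res c a + K.res c b := K.res_add H hc
  have r1 : K.res c A1 = p := by show (K.act c (inj A1)).2 = p; rw [hc1]; rfl
  have r2 : K.res c A2 = m := by show (K.act c (inj A2)).2 = m; rw [hc2]; rfl
  rw [hh, hadd, hadd, smul_res hadd, smul_res hadd, smul_res hadd, r1, r2] at hfl
  have hz : BW (α • p + β • m) m = 0 ∧ BW (α • p + β • m) p = 0 := by
    simp [BW_add_left, BW_smul_left, BW_self, hpm, BW_comm m p]
  rw [hz.1, hz.2, zero_smul, zero_smul, add_zero, add_zero] at hfl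
  refine ⟨K.res c H1, fun i j e => ?_, h0 + k1 + α, h1 + k2 + β, by rw [hfl, add_smul, add_smul, add_smul, add_smul]; abel⟩
  have hinj := Function.LeftInverse.injective (K.res_inv_cancel H hc hc0)
  have : H1 = i • A1 + j • A2 := hinj (by rw [e, hadd, smul_res hadd, smul_res hadd, r1, r2])
  exact H1_not_span i j this

/-- The frame. -/
structure Frame {K : Coord z Q 0} {x g : G} (S : Base K x g) where
  t : G
  f : G
  gl : Fin 3 → G
  q : Fin 3 → G
  r : Fin 3 → G
  e : Fin 3 → G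
  ε : ZMod 2
  σ : Fin 3 → ZMod 2
  τ : Fin 3 → ZMod 2
  flip : Flip S t
  fQ : f ∈ Q
  fv : K.vec f = f0
  glQ : ∀ k, gl k ∈ Q
  glv : ∀ k, K.vec (gl k) = inj (gv k)
  qQ : ∀ k, q k ∈ Q
  qv : ∀ k, K.vec (q k) = inj (av k)
  rR : ∀ k, r k ∈ S.R
  ru : ∀ k, S.ur (r k) = av k
  eroot : ∀ k, K.Root (inj (av (k + 1))) (inj (av (k + 2))) (e k)
  re : ∀ k l, r k * e l = e l * r k
  ee : ∀ k l, e k * e l = e l * e k
  tq : ∀ k, t * q k * t = q k * r k
  tr : ∀ k, t * r k * t = r k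
  te : ∀ k, t * e k * t = e k * (if ε = 0 then 1 else r k)
  fr : ∀ k, f * r k * f⁻¹ = r k * q k * S.el (σ k) 0
  ge : ∀ k, gl k * e (k + 1) * (gl k)⁻¹ = e (k + 1) * q (k + 2)
  ge' : ∀ k, gl (k + 1) * e k * (gl (k + 1))⁻¹ = e k * q (k + 2) * S.el (τ k) 0
  line : LineClass S t ε

theorem fin3_facts : ∀ k : Fin 3, k + 1 ≠ k ∧ k + 2 ≠ k ∧ k + 2 ≠ k + 1 ∧ k + 1 + 1 = k + 2 ∧ k + 1 + 2 = k ∧
    k + 2 + 1 = k ∧ k + 2 + 2 = k + 1 := by decide

theorem swap_facts : qW 0 (A1 + H1) = 0 ∧ qW 0 (G1 + H2) = 0 ∧ BW (A1 + H1) (G1 + H2) = 0 ∧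
    qW 0 (A2 + H1) = 0 ∧ qW 0 (((0, 0), ((0, 1), 0)) + H2) = 0 ∧ BW (A2 + H1) (((0, 0), ((0, 1), 0)) + H2) = 0 ∧
    A1 + H1 ≠ 0 ∧ G1 + H2 ≠ 0 ∧ G1 + H2 ≠ A1 + H1 ∧ A2 + H1 ≠ 0 ∧ (((0, 0), ((0, 1), 0)) + H2 : W) ≠ 0 ∧
    (((0, 0), ((0, 1), 0)) + H2 : W) ≠ A2 + H1 := by decide +kernel

theorem swap_images :
    (rootV (inj (A1 + H1)) (inj (G1 + H2)) (inj A1) = inj H1 ∧ rootV (inj (A1 + H1)) (inj (G1 + H2)) (inj A2) = inj A2 ∧
      rootV (inj (A1 + H1)) (inj (G1 + H2)) (inj H1) = inj A1) ∧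
    (rootV (inj (A2 + H1)) (inj (((0, 0), ((0, 1), 0)) + H2)) (inj A1) = inj A1 ∧
      rootV (inj (A2 + H1)) (inj (((0, 0), ((0, 1), 0)) + H2)) (inj A2) = inj H1 ∧
      rootV (inj (A2 + H1)) (inj (((0, 0), ((0, 1), 0)) + H2)) (inj H1) = inj A2) := by decide +kernel

theorem line_plane : ∀ (k l : Fin 3) (i j : ZMod 2),
    BW (i • av (k + 1) + j • av (k + 2)) (av l) = 0 ∧ qW 0 (i • av (k + 1) + j • av (k + 2)) = 0 := by decide +kernel

theorem eqB_facts : ∀ k : Fin 3, rootV (inj (av (k + 1 + 1))) (inj (av (k + 1 + 2))) (inj (gv k)) + inj (gv k) = inj (av (k + 2)) ∧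
    rootV (inj (av (k + 1))) (inj (av (k + 2))) (inj (gv (k + 1))) + inj (gv (k + 1)) = inj (av (k + 2)) := by decide +kernel

namespace Start

variable {K : Coord z Q 0} {x g t d : G} {S : Base K x g} (T : Start S t d)
include T

theorem exists_seed (k : Fin 3) : ∃ (e : G) (α β : ZMod 2), K.Root (inj (av (k + 1))) (inj (av (k + 2))) e ∧
    (∀ r ∈ S.R, S.ur r = av k → r * e = e * r) ∧
    S.ur (t * e * t * e) = α • av (k + 1) + β • av (k + 2) + BW (S.ur (t * d * t * d)) H2 • av k := by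
  have H := S.hyp
  have hA : qW 0 A1 = 0 ∧ qW 0 A2 = 0 := ⟨base_line.1, base_line.2.1⟩
  have hdx : d * x = x * d :=
    S.root_x base_line.2.2.2.1 hA.1 base_line.2.2.2.2.1 (Ne.symm base_line.2.2.2.2.2) hA.2 base_line.2.2.1 T.root
  obtain ⟨Φ, L⟩ := S.line_root T.root
  obtain ⟨f1, f2, -, f4⟩ := S.flip_line T.flip L
  obtain ⟨h0, h1, hh⟩ := plane_coord _ f1 f2 (by rw [BW_comm]; exact T.h1)
  have hcd : ∀ r ∈ S.R, S.ur r = H1 → r * d = d * r := by
    intro r hr hu
    have h := L.dr r hr (by rw [hu]; exact plane_basic.1) (by rw [hu]; exact plane_basic.2.1)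
    rw [hu, f4 _ plane_basic.1 plane_basic.2.1, T.h1, S.el_zero] at h
    exact (mul_inv_eq_iff_eq_mul.1 (mul_inv_eq_one.1 h)).symm
  -- transport by an involution exchanging the basis
  have key : ∀ (s : G) (p m n : W), s * z = z * s → s * x = x * s → s * s = 1 → K.act s x0 = x0 →
      K.act s (inj A1) = inj p → K.act s (inj A2) = inj m → K.act s (inj H1) = inj n → p ≠ 0 → qW 0 p = 0 →
      m ≠ 0 → m ≠ p → qW 0 m = 0 → BW p m = 0 →
      ∃ (e : G) (α β : ZMod 2), K.Root (inj p) (inj m) e ∧ (∀ r ∈ S.R, S.ur r = n → r * e = e * r) ∧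
        S.ur (t * e * t * e) = α • p + β • m + BW (S.ur (t * d * t * d)) H2 • n := by
    intro s p m n hs hsx hs2 hs0 s1 s2 s3 hp hpq hm hmp hmq hpm
    have hb := T.root.conj K H hs
    rw [s1, s2] at hb
    obtain ⟨i, j, hu⟩ := S.flip_conj T.flip hs hsx hs0 hp hpq hm hmp hmq hpm T.root.1 hdx T.root.2.2.1 hb
    have hadd : ∀ a b, K.res s (a + b) = K.res s a + K.res s b := K.res_add H hs
    have r1 : K.res s A1 = p := by show (K.act s (inj A1)).2 = p; rw [s1]; rfl
    have r2 : K.res s A2 = m := by show (K.act s (inj A2)).2 = m; rw [s2]; rfl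
    have r3 : K.res s H1 = n := by show (K.act s (inj H1)).2 = n; rw [s3]; rfl
    rw [hh, hadd, hadd, smul_res hadd, smul_res hadd, smul_res hadd, r1, r2, r3] at hu
    refine ⟨s * d * s⁻¹, h0 + i, h1 + j, hb, fun r hr hur => ?_, by rw [hu, add_smul, add_smul]; abel⟩
    have hsi : s⁻¹ = s := inv_eq_of_mul_eq_one_right hs2
    obtain ⟨hr', hur'⟩ := S.conj_R hs hsx hs0 hr
    have hinv : K.res s n = H1 := by
      have := K.res_inv_cancel H hs hs0 H1
      rwa [hsi, r3] at this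
    have hc := hcd _ hr' (by rw [hur', hur, hinv])
    rw [hsi] at hc ⊢
    calc r * (s * d * s) = s * (s * r * s * d) * s := by
          rw [show s * (s * r * s * d) * s = (s * s) * r * (s * d * s) by group, hs2, one_mul]
      _ = s * (d * (s * r * s)) * s := by rw [hc]
      _ = s * d * s * r * (s * s) := by group
      _ = _ := by rw [hs2, mul_one]
  obtain ⟨⟨w1, w2, w3⟩, ⟨v1, v2, v3⟩⟩ := swap_images
  obtain ⟨a1, a2, a3, b1, b2, b3, a4, a5, a6, b4, b5, b6⟩ := swap_facts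
  obtain ⟨j1, j2, j3⟩ := span_inj a4 a5 a6
  obtain ⟨j4, j5, j6⟩ := span_inj b4 b5 b6
  fin_cases k
  · obtain ⟨s, hs⟩ := S.root_exists j1 ((qV_inj 0 _).trans a1) j2 j3 ((qV_inj 0 _).trans a2) ((B_inj _ _).trans a3)
    obtain ⟨e, α, β, he, hc, hu⟩ := key s H1 A2 A1 hs.1 (S.root_x a4 a1 a5 a6 a2 a3 hs) hs.2.2.1 (S.root_fix hs)
      (by rw [hs.2.1, w1]) (by rw [hs.2.1, w2]) (by rw [hs.2.1, w3])
      (by decide) (by decide) (by decide) (by decide) (by decide) (by decide)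
    exact ⟨e, β, α, he.congr K (rootV_swap _ _), hc, by rw [hu]; show α • H1 + β • A2 + BW (S.ur (t * d * t * d)) H2 • A1 = β • A2 + α • H1 + BW (S.ur (t * d * t * d)) H2 • A1; rw [add_comm (α • H1)]⟩
  · obtain ⟨s, hs⟩ := S.root_exists j4 ((qV_inj 0 _).trans b1) j5 j6 ((qV_inj 0 _).trans b2) ((B_inj _ _).trans b3)
    obtain ⟨e, α, β, he, hc, hu⟩ := key s A1 H1 A2 hs.1 (S.root_x b4 b1 b5 b6 b2 b3 hs) hs.2.2.1 (S.root_fix hs)
      (by rw [hs.2.1, v1]) (by rw [hs.2.1, v2]) (by rw [hs.2.1, v3])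
      (by decide) (by decide) (by decide) (by decide) (by decide) (by decide)
    exact ⟨e, β, α, he.congr K (rootV_swap _ _), hc, by rw [hu]; show α • A1 + β • H1 + BW (S.ur (t * d * t * d)) H2 • A2 = β • H1 + α • A1 + BW (S.ur (t * d * t * d)) H2 • A2; rw [add_comm (α • A1)]⟩
  · exact key 1 A1 A2 H1 (by simp) (by simp) (one_mul 1) (K.act_one H _) (K.act_one H _) (K.act_one H _)
      (K.act_one H _) base_line.2.2.2.1 hA.1 base_line.2.2.2.2.1 (Ne.symm base_line.2.2.2.2.2) hA.2 base_line.2.2.1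

theorem exists_frame : Nonempty (Frame S) := by
  have H := S.hyp
  have hne := H.extra.ne_one
  have F := T.flip
  set ε := BW (S.ur (t * d * t * d)) H2 with hε
  have haV : ∀ k, inj (av k) ≠ 0 := fun k h => (av_facts k).1 (congrArg Prod.snd h)
  have hjm : ∀ k, inj (av (k + 2)) ≠ inj (av (k + 1)) := fun k h =>
    ((av_facts (k + 2)).2.2.2 (k + 1)).2 (fin3_facts k).2.2.1 (congrArg Prod.snd h)
  have hq0 : ∀ k, qV 0 (inj (av k)) = 0 := fun k => (qV_inj 0 _).trans (av_facts k).2.1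
  have hB0 : ∀ k l, B (inj (av k)) (inj (av l)) = 0 := fun k l => (B_inj _ _).trans ((av_facts k).2.2.2 l).1.1
  have hrl : ∀ k {e : G}, K.Root (inj (av (k + 1))) (inj (av (k + 2))) e → ∀ {q : G}, q ∈ Q →
      B (K.vec q) (inj (av (k + 1))) = 0 → B (K.vec q) (inj (av (k + 2))) = 0 → e * q = q * e :=
    fun k e he q hq h1 h2 =>
      S.root_comm_lift (haV _) (hq0 _) (haV _) (hjm k) (hq0 _) (hB0 _ _) he hq h1 h2
  have hex : ∀ k {e : G}, K.Root (inj (av (k + 1))) (inj (av (k + 2))) e → e * x = x * e := fun k e he =>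
    hrl k he S.hx (by rw [S.hxv, B_comm, B_x0]; rfl) (by rw [S.hxv, B_comm, B_x0]; rfl)
  -- normalise the parameter
  have h1 : ∀ k, ∃ e, K.Root (inj (av (k + 1))) (inj (av (k + 2))) e ∧
      (∀ r ∈ S.R, S.ur r = av k → r * e = e * r) ∧ S.ur (t * e * t * e) = ε • av k := by
    intro k
    obtain ⟨e, α, β, he, hc, hu⟩ := T.exists_seed k
    set a := α • av (k + 1) + β • av (k + 2) with ha
    set q := K.lift (inj a) with hqdef
    have hq : q ∈ Q := K.lift_mem _
    have hv : K.vec q = α • inj (av (k + 1)) + β • inj (av (k + 2)) := by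
      rw [hqdef, K.vec_lift, ha, inj_add]
      rcases zcases α with rfl | rfl <;> rcases zcases β with rfl | rfl <;> simp [inj]
    have hperp : ∀ l, B (K.vec q) (inj (av l)) = 0 := fun l => by
      rw [hqdef, K.vec_lift, B_inj, ha]; exact (line_plane k l α β).1
    have heq := hrl k he hq (hperp _) (hperp _)
    refine ⟨e * q, S.root_mul_lift (haV _) (hq0 _) (haV _) (hjm k) (hq0 _) (hB0 _ _) he hq α β hv,
      fun r hr hur => ?_, ?_⟩
    · have h2 : r * q = q * r := S.comm_el_zero hr hq (S.lift_x a) (by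
        rw [hur, hqdef, K.vec_lift, BW_comm, show (inj a).2 = a from rfl, ha]; exact (line_plane k k α β).1)
      exact (Commute.mul_right (hc r hr hur) h2).eq
    · rw [S.flip_mul_lift F he.1 (hex k he) he.2.2.1 (S.root_fix he) hq (S.lift_x a) heq
        ((K.invol_iff hne hq).2 (by rw [hqdef, K.vec_lift, qV_inj, ha]; exact (line_plane k k α β).2)), hu,
        S.root_res he, hqdef, K.vec_lift, show (inj a).2 = a from rfl]
      have e1 : BW a (av (k + 2)) = 0 ∧ BW a (av (k + 1)) = 0 := ⟨(line_plane k _ α β).1, (line_plane k _ α β).1⟩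
      rw [e1.1, e1.2, zero_smul, zero_smul, add_zero, add_zero, ← hε]
      calc a + ε • av k + a = ε • av k + (a + a) := by abel
        _ = _ := by rw [addW, add_zero]
  choose e1 he1 hc1 hu1 using h1
  set gl : Fin 3 → G := fun k => K.lift (inj (gv k)) with hgl
  have glQ : ∀ k, gl k ∈ Q := fun k => K.lift_mem _
  have glv : ∀ k, K.vec (gl k) = inj (gv k) := fun k => K.vec_lift _
  -- commutators with the dual lifts
  have hcom : ∀ {a G' : G}, a * z = z * a → G' ∈ Q →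
      a⁻¹ * (G' * a * G'⁻¹) ∈ Q ∧ K.vec (a⁻¹ * (G' * a * G'⁻¹)) = K.act a⁻¹ (K.vec G') + K.vec G' := by
    intro a G' ha hG
    have hai : a⁻¹ * z = z * a⁻¹ := (Commute.inv_left ha).eq
    have h := H.norm _ hai _ hG
    rw [show a⁻¹ * (G' * a * G'⁻¹) = a⁻¹ * G' * a⁻¹⁻¹ * G'⁻¹ by group]
    exact ⟨mul_mem h (inv_mem hG), by rw [K.mul h (inv_mem hG), K.vec_inv hG, ← K.act_vec H hai hG]⟩
  set q : Fin 3 → G := fun k => (e1 (k + 2))⁻¹ * (gl (k + 1) * e1 (k + 2) * (gl (k + 1))⁻¹) with hqdef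
  have qQ : ∀ k, q k ∈ Q := fun k => (hcom (he1 _).1 (glQ _)).1
  have qv : ∀ k, K.vec (q k) = inj (av k) := fun k => by
    rw [hqdef, (hcom (he1 _).1 (glQ _)).2, inv_eq_of_mul_eq_one_right (he1 _).2.2.1, (he1 _).2.1, glv]
    have := (eqB_facts (k + 1)).1
    rwa [(fin3_facts k).2.2.2.2.1, show k + 1 + 1 + 1 = k + 2 + 1 by rw [(fin3_facts k).2.2.2.1],
      show k + 1 + 1 + 2 = k + 2 + 2 by rw [(fin3_facts k).2.2.2.1]] at this
  have qx : ∀ k, q k * x = x * q k := fun k => (S.comm_x_iff (qQ k)).2 (by rw [qv]; rfl)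
  have q2 : ∀ k, q k * q k = 1 := fun k => (K.invol_iff hne (qQ k)).2 (by rw [qv, hq0])
  set r : Fin 3 → G := fun k => t * q k * t * (q k)⁻¹ with hrdef
  have rR : ∀ k, r k ∈ S.R := fun k => F.Q_mem (qQ k) (qx k)
  have ru : ∀ k, S.ur (r k) = av k := fun k => by rw [hrdef, F.psi (qQ k) (qx k), qv]; rfl
  have r2 : ∀ k, r k * r k = 1 := fun k => by rw [S.sq_R (rR k), ru, (av_facts k).2.1, S.el_zero]
  have rq : ∀ k l, r k * q l = q l * r k := fun k l => S.comm_el_zero (rR k) (qQ l) (qx l) (by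
    rw [ru, qv]; exact ((av_facts k).2.2.2 l).1.1)
  have tq : ∀ k, t * q k * t = q k * r k := fun k => by
    rw [← rq, hrdef]; group
  have tr : ∀ k, t * r k * t = r k := fun k => by
    conv_rhs => rw [← inv_eq_of_mul_eq_one_right (r2 k)]
    rw [hrdef]
    calc t * (t * q k * t * (q k)⁻¹) * t = (t * t) * (q k * (t * (q k)⁻¹ * t)) := by group
      _ = q k * (t⁻¹ * (q k)⁻¹ * t⁻¹) := by rw [F.tt, F.inv, one_mul]
      _ = _ := by group
  -- root elements at the base point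
  have rroot : ∀ k, K.Root x0 (inj (av k)) (r k) := fun k => S.typ_zero_root (av_facts k).2.1 (av_facts k).1
    ⟨r k, 1, rR k, one_mem _, by simp, (mul_one _).symm, ru k, by rw [K.vec_one]; rfl⟩
  have hx0 : ∀ k, inj (av k) ≠ x0 := fun k h => by
    have := congrArg (fun v : V => v.1.1) h
    simp [inj, x0] at this
  have hre : ∀ k l {e : G}, k ≠ l → K.Root (inj (av (l + 1))) (inj (av (l + 2))) e → r k * e = e * r k := by
    intro k l e hkl he
    obtain ⟨m, hm, he'⟩ : ∃ m, m ≠ k ∧ K.Root (inj (av k)) (inj (av m)) e := by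
      have : k = l + 1 ∨ k = l + 2 := fin3_cases k l hkl
      rcases this with rfl | rfl
      · exact ⟨l + 2, (fin3_facts l).2.2.1, he⟩
      · exact ⟨l + 1, Ne.symm (fin3_facts l).2.2.1, he.congr K (rootV_swap _ _)⟩
    refine S.root_comm_meet (haV k) (hq0 k) (by decide : x0 ≠ 0) (Ne.symm (hx0 k)) (by decide) (by rw [B_x0]; rfl)
      (haV m) (fun h => ((av_facts m).2.2.2 k).2 hm (inj_injective h)) (hq0 m) (hB0 _ _)
      (by rw [B_comm, B_x0]; rfl) ((rroot k).congr K (rootV_swap _ _)) he'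
  have hre' : ∀ k l, r k * e1 l = e1 l * r k := fun k l => by
    by_cases h : k = l
    · subst h; exact hc1 k _ (rR k) (ru k)
    · exact hre k l h (he1 l)
  -- clear the central part
  have h2 : ∀ k, ∃ e, K.Root (inj (av (k + 1))) (inj (av (k + 2))) e ∧ (∃ i, e = e1 k * S.el i 0) ∧
      t * e * t = e * (if ε = 0 then 1 else r k) := by
    intro k
    set R0 := if ε = 0 then 1 else r k with hR0
    have hR0R : R0 ∈ S.R := by rw [hR0]; split_ifs; exacts [one_mem _, rR k]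
    have hR0u : S.ur R0 = ε • av k := by
      rw [hR0]
      rcases zcases ε with h | h <;> rw [h] <;>
        simp [(S.ur_zero (one_mem S.R)).2 (one_mem Q), ru]
    have hR02 : R0 * R0 = 1 := by rw [hR0]; split_ifs; exacts [one_mul 1, r2 k]
    have hR0t : t * R0 * t = R0 := by rw [hR0]; split_ifs; exacts [by rw [mul_one, F.tt], tr k]
    have hR0e : R0 * e1 k = e1 k * R0 := by rw [hR0]; split_ifs; exacts [by simp, hre' k k]
    have hex' := hex k (he1 k)
    obtain ⟨i, j, hij⟩ := S.ur_congr hR0R (F.line_mem (he1 k).1 hex' (he1 k).2.2.1) (hR0u.trans (hu1 k).symm)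
    have et : t * e1 k * t = R0 * S.el i j * e1 k := by
      rw [← hij, mul_assoc (t * e1 k * t), (he1 k).2.2.1, mul_one]
    have hi : i = 0 := by
      have e3 : e1 k = R0 * S.el i (i + j) * (R0 * S.el i j) * e1 k := by
        calc e1 k = t * t * e1 k * (t * t) := by rw [F.tt, one_mul, mul_one]
          _ = t * (t * e1 k * t) * t := by group
          _ = t * R0 * (t * t) * S.el i j * (t * t) * e1 k * t := by rw [et, F.tt]; group
          _ = (t * R0 * t) * (t * S.el i j * t) * (t * e1 k * t) := by group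
          _ = _ := by rw [hR0t, F.el, et]; group
      have e4 := mul_right_cancel ((one_mul _).trans e3)
      rw [show R0 * S.el i (i + j) * (R0 * S.el i j) = R0 * (S.el i (i + j) * R0) * S.el i j by group,
        ← S.R_el hR0R, show R0 * (R0 * S.el i (i + j)) * S.el i j = R0 * R0 * (S.el i (i + j) * S.el i j) by group,
        hR02, one_mul, S.el_mul, ← S.el_zero] at e4
      have := (S.el_inj e4).2
      rw [add_assoc, CharTwo.add_self_eq_zero, add_zero] at this
      exact this.symm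
    subst hi
    refine ⟨e1 k * S.el j 0, S.root_mul_lift (haV _) (hq0 _) (haV _) (hjm k) (hq0 _) (hB0 _ _) (he1 k)
      (S.el_mem j 0) 0 0 (by rw [S.vec_el]; simp), ⟨j, rfl⟩, ?_⟩
    rw [S.el_comm (he1 k).1 hex']
    calc t * (S.el j 0 * e1 k) * t = t * S.el j 0 * (t * t) * e1 k * t := by rw [F.tt, mul_one]; group
      _ = (t * S.el j 0 * t) * (t * e1 k * t) := by group
      _ = S.el j (j + 0) * (R0 * S.el 0 j) * e1 k := by rw [F.el, et]; group
      _ = R0 * (S.el j (j + 0) * S.el 0 j) * e1 k := by rw [← mul_assoc, ← S.R_el hR0R]; group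
      _ = R0 * (e1 k * S.el j 0) := by
          rw [S.el_mul, add_zero, CharTwo.add_self_eq_zero, S.el_comm (he1 k).1 hex']; group
      _ = e1 k * S.el j 0 * R0 := by
          rw [← mul_assoc, hR0e, mul_assoc, S.R_el hR0R]; group
      _ = _ := by rw [S.el_comm (he1 k).1 hex']
  choose e he hee hte using h2
  have hre'' : ∀ k l, r k * e l = e l * r k := fun k l => by
    obtain ⟨i, hi⟩ := hee l
    rw [hi]
    exact (Commute.mul_right (hre' k l) (S.R_el (rR k) i 0)).eq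
  have hee' : ∀ k l, e k * e l = e l * e k := by
    intro k l
    by_cases hkl : k = l
    · rw [hkl]
    have : l = k + 1 ∨ l = k + 2 := fin3_cases l k (Ne.symm hkl)
    rcases this with rfl | rfl
    · have hl := he (k + 1)
      rw [(fin3_facts k).2.2.2.1, (fin3_facts k).2.2.2.2.1] at hl
      exact S.root_comm_meet (haV _) (hq0 _) (haV (k + 1)) (fun h => ((av_facts (k + 1)).2.2.2 (k + 2)).2
        (Ne.symm (fin3_facts k).2.2.1) (inj_injective h)) (hq0 _) (hB0 _ _) (haV k)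
        (fun h => ((av_facts k).2.2.2 (k + 2)).2 (Ne.symm (fin3_facts k).2.1) (inj_injective h)) (hq0 _)
        (hB0 _ _) (hB0 _ _) ((he k).congr K (rootV_swap _ _)) hl
    · have hl := he (k + 2)
      rw [(fin3_facts k).2.2.2.2.2.1, (fin3_facts k).2.2.2.2.2.2] at hl
      exact S.root_comm_meet (haV _) (hq0 _) (haV (k + 2)) (fun h => ((av_facts (k + 2)).2.2.2 (k + 1)).2
        (fin3_facts k).2.2.1 (inj_injective h)) (hq0 _) (hB0 _ _) (haV k)
        (fun h => ((av_facts k).2.2.2 (k + 1)).2 (Ne.symm (fin3_facts k).1) (inj_injective h)) (hq0 _)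
        (hB0 _ _) (hB0 _ _) (he k) (hl.congr K (rootV_swap _ _))
  -- the action of the lift of `f0`
  set f := K.lift f0 with hf
  have hfr : ∀ k, ∃ s, f * r k * f⁻¹ = r k * q k * S.el s 0 := by
    intro k
    have hrz := S.R_z (rR k)
    obtain ⟨hc, hcv⟩ := hcom hrz (K.lift_mem f0)
    rw [inv_eq_of_mul_eq_one_right (r2 k), hf.symm, K.vec_lift, S.act_R (rR k), ru] at hcv
    rw [inv_eq_of_mul_eq_one_right (r2 k), ← hf] at hc
    have hv : K.vec (r k * (f * r k * f⁻¹)) = K.vec (q k) := by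
      rw [hcv, qv, move_eq, (av_facts k).2.1]
      simp [f0, inj, BW_zero_right]
    rcases K.eq_or H hc (qQ k) hv with h | h
    · refine ⟨0, ?_⟩
      rw [S.el_zero, mul_one, ← h, ← mul_assoc (r k) (r k), r2, one_mul]
    · refine ⟨1, ?_⟩
      rw [show S.el 1 0 = z by simp [Base.el], mul_assoc (r k) (q k), H.extra.comm_z (qQ k), ← h, ← mul_assoc (r k) (r k), r2,
        one_mul]
  choose σ hσ using hfr
  have hzG : ∀ (i : ZMod 2) k, gl k * S.el i 0 * (gl k)⁻¹ = S.el i 0 := fun i k => by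
    rw [S.el_comm (H.extra.comm_z (glQ k)) ((S.comm_x_iff (glQ k)).2 (by rw [glv]; rfl)), mul_inv_cancel_right]
  have hge : ∀ k, gl k * e (k + 1) * (gl k)⁻¹ = e (k + 1) * q (k + 2) := by
    intro k
    obtain ⟨i, hi⟩ := hee (k + 1)
    have hqq : q (k + 2) = (e1 (k + 1))⁻¹ * (gl k * e1 (k + 1) * (gl k)⁻¹) := by
      simp only [hqdef, (fin3_facts k).2.2.2.2.2.1, (fin3_facts k).2.2.2.2.2.2]
    rw [hi]
    calc gl k * (e1 (k + 1) * S.el i 0) * (gl k)⁻¹ = (gl k * e1 (k + 1) * (gl k)⁻¹) * (gl k * S.el i 0 * (gl k)⁻¹) := by group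
      _ = e1 (k + 1) * (q (k + 2) * S.el i 0) := by rw [hzG, hqq]; group
      _ = _ := by rw [← mul_assoc, mul_assoc (e1 (k + 1)), S.el_comm (H.extra.comm_z (qQ _)) (qx _)]; group
  have hge' : ∀ k, ∃ s, gl (k + 1) * e k * (gl (k + 1))⁻¹ = e k * q (k + 2) * S.el s 0 := by
    intro k
    obtain ⟨hc, hcv⟩ := hcom (he k).1 (glQ (k + 1))
    rw [inv_eq_of_mul_eq_one_right (he k).2.2.1, (he k).2.1, glv, (eqB_facts k).2, ← qv] at hcv
    rw [inv_eq_of_mul_eq_one_right (he k).2.2.1] at hc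
    rcases K.eq_or H hc (qQ (k + 2)) hcv with h | h
    · refine ⟨0, ?_⟩
      rw [S.el_zero, mul_one, ← h, ← mul_assoc (e k) (e k), (he k).2.2.1, one_mul]
    · refine ⟨1, ?_⟩
      rw [show S.el 1 0 = z by simp [Base.el], mul_assoc (e k) (q _), H.extra.comm_z (qQ _), ← h, ← mul_assoc (e k) (e k),
        (he k).2.2.1, one_mul]
  choose τ hτ using hge'
  exact ⟨⟨t, f, gl, q, r, e, ε, σ, τ, F, K.lift_mem f0, K.vec_lift f0, glQ, glv, qQ, qv, rR, ru, he, hre'', hee',
    tq, tr, hte, hσ, hge, hτ, T.lineClass⟩⟩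

end Start

theorem Hyp.exists_frame (H : Hyp z Q) (K : Coord z Q 0) :
    ∃ (K' : Coord z Q 0) (x g : G) (S : Base K' x g), Nonempty (Frame S) := by
  obtain ⟨K', x, g, S, t, d, T⟩ := H.exists_start K
  exact ⟨K', x, g, S, T.exists_frame⟩

end CfsgLib.CoOneType
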