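import Cfsg.Agent.Lib.Golay.Masks
import Cfsg.Agent.Lib.CoOneGolay.Frame

/-!
Numerical model of eleven commuting involutions: the conjugation rules as maps on masks, and the finite
certificates about them.
-/

set_option autoImplicit false
set_option linter.style.longLine false
set_option maxHeartbeats 1000000
set_option maxRecDepth 100000
set_option synthInstance.maxSize 8000
set_option synthInstance.maxHeartbeats 1000000

namespace CfsgLib.CoOneGolay

open CfsgLib.Golay CfsgLib.CoOneType

/-- Images of the basis under the flip. -/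
def tIm (ε : ℕ) : List ℕ := [3, 2, 36, 72, 144, 32, 64, 128, 256 + 32 * ε, 512 + 64 * ε, 1024 + 128 * ε]

/-- A bit of a parameter word. -/
def pbit (s i : ℕ) : ℕ := Nat.land (Nat.shiftRight s i) 1

/-- Images of the basis under the five kinds of conjugation. -/
def fIm (s : ℕ) : List ℕ := [1, 3, 4, 8, 16, 36 + pbit s 0, 72 + pbit s 1, 144 + pbit s 2, 256, 512, 1024]
def g0Im (u : ℕ) : List ℕ := [1, 2, 5, 8, 16, 35, 64, 128, 256, 528, 1032 + pbit u 2]
def g1Im (u : ℕ) : List ℕ := [1, 2, 4, 9, 16, 32, 67, 128, 272 + pbit u 0, 512, 1028]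
def g2Im (u : ℕ) : List ℕ := [1, 2, 4, 8, 17, 32, 64, 131, 264, 516 + pbit u 1, 1024]

/-- One conjugation, selected by a bit. -/
def qStep (g : List ℕ) (j i m : ℕ) : ℕ := if j.testBit i then spanWord g m else m

/-- Conjugation by a product of dual lifts. -/
def qMap (s u j m : ℕ) : ℕ :=
  qStep (fIm s) j 0 (qStep (g0Im u) j 1 (qStep (g1Im u) j 2 (qStep (g2Im u) j 3 m)))

/-- Bit of a number as an element of the field with two elements. -/
def zb (i k : ℕ) : ZMod 2 := if i.testBit k then 1 else 0

/-- The vector of the singular four-space with given coordinates. -/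
def uv (i : ℕ) : V := ((zb i 0, 0), ((zb i 1, 0), ((zb i 2, 0), (zb i 3, 0))))

/-- The vector of the dual four-space with given coordinates. -/
def dv (j : ℕ) : V := ((0, zb j 0), ((0, zb j 1), ((0, zb j 2), (0, zb j 3))))

/-- Orthogonality in coordinates. -/
def ort (i j : ℕ) : Bool := Nat.beq (Nat.land (popc (Nat.land i j)) 1) 0

/-- The lines of the four-space. -/
def lines : List (ℕ × ℕ) :=
  (List.range 16).flatMap fun p => ((List.range 16).filter fun q => decide (1 ≤ p ∧ p < q ∧ q < p ^^^ q)).map fun q => (p, q)

/-- A minor of two coordinate vectors. -/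
def minor (p q a b : ℕ) : ℕ :=
  Nat.xor (Nat.land (pbit p a) (pbit q b)) (Nat.land (pbit p b) (pbit q a))

/-- The fibre of a line. -/
def fib (l : ℕ × ℕ) : ℕ :=
  minor l.1 l.2 0 1 + 2 * minor l.1 l.2 0 2 + 4 * minor l.1 l.2 0 3 + 8 * minor l.1 l.2 2 3 +
    16 * minor l.1 l.2 3 1 + 32 * minor l.1 l.2 1 2

/-- The line of a fibre. -/
def dLine (h : ℕ) : Option (ℕ × ℕ) := lines.find? fun l => Nat.beq (fib l) h

/-- Being fixed by the combinations orthogonal to a line. -/
def fixT (s u : ℕ) (l : ℕ × ℕ) (m : ℕ) : Bool :=
  (List.range 16).all fun j => !(ort l.1 j && ort l.2 j) || Nat.beq (qMap s u j m) m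

/-- Composite of the maps selected by the bits. -/
def actL : List (V → V) → ℕ → V → V
  | [], _, v => v
  | a :: l, m, v => if m.testBit 0 then a (actL l (m >>> 1) v) else actL l (m >>> 1) v

/-- The maps induced by the basis. -/
def baseMaps : List (V → V) :=
  [id, id, id, id, id, E (av 0), E (av 1), E (av 2), rootV (inj (av 1)) (inj (av 2)),
    rootV (inj (av 2)) (inj (av 0)), rootV (inj (av 0)) (inj (av 1))]

/-- Membership of a plane vector in a line. -/
def inSpan (l : ℕ × ℕ) (w : ℕ) : Bool := Nat.beq w 0 || Nat.beq w l.1 || Nat.beq w l.2 || Nat.beq w (Nat.xor l.1 l.2)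

/-- The plane part of the displacement under the flip. -/
def dispW (ε m : ℕ) : ℕ := 2 * Nat.land (Nat.shiftRight (Nat.xor (spanWord (tIm ε) m) m) 5) 7

/-- A witness against a choice of parameters. -/
def badLine (ε u : ℕ) : Bool :=
  lines.any fun l => Nat.beq (Nat.land l.1 1) 0 && Nat.beq (Nat.land l.2 1) 0 &&
    (List.range 32).any fun a => ((List.range 8).all fun s => fixT s u l (fib l * 32 + a)) &&
      Nat.beq (Nat.land (Nat.xor (spanWord (tIm ε) (fib l * 32 + a)) (fib l * 32 + a)) 1820) 0 &&
      xor (inSpan l (dispW ε (fib l * 32 + a))) (Nat.beq ε 0)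

/-- Elements known to be conjugate to the central involution at the outset. -/
def seed (s u m : ℕ) : Bool :=
  if m < 32 then decide (2 ≤ m) else
    match dLine (m >>> 5) with
    | some l => fixT s u l m
    | none => false

/-- The five basic conjugations. -/
def opIm (s u : ℕ) : ℕ → List ℕ
  | 0 => tIm 1
  | 1 => fIm s
  | 2 => g0Im u
  | 3 => g1Im u
  | _ => g2Im u

/-- A word of conjugations. -/
def runOps (s u : ℕ) (ops : List ℕ) (m : ℕ) : ℕ := ops.foldl (fun m i => spanWord (opIm s u i) m) m

/-- Witnesses against nonzero signs. -/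
def sigCert : ℕ → ℕ × List ℕ
  | 1 => (1024, [0, 3, 0])
  | 4 => (512, [0, 2, 0])
  | 5 => (1024, [0, 3, 0])
  | _ => (1024, [0, 2, 0])

/-- The flip in the final model. -/
def TI : List ℕ := tIm 1

/-- The class of an element in the final model. -/
def isO (m : ℕ) : Bool :=
  if m < 32 then decide (m ≠ 0) else
    match dLine (m >>> 5) with
    | some l => fixT 0 7 l m
    | none =>
      match (List.range 16).find? fun j => (dLine (spanWord TI (qMap 0 7 j m) >>> 5)).isSome with
      | some j =>
        match dLine (spanWord TI (qMap 0 7 j m) >>> 5) with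
        | some l => fixT 0 7 l (spanWord TI (qMap 0 7 j m))
        | none => false
      | none => false

/-- The table of the class. -/
def oMask : ℕ := 10908970229039795308914850545480247349595987338557645738104662176320717762411419068275475906080723484971163772544342099633739743241595083481654882593496107948683447877459356080127379243797314654693458669485909686552487372595387305886228490921574766837985712965251958891008200273860471363525682862747598937769416542643342711499615134528752974696930940208867427179770095674428321289997526212323019841480317228504756088539569667198658568972696769966075645597753159336462871738646336634622291955256005148379550702860495582930576634935014090877298117867409886607941687721681334995864484088621028589870652609842668562808830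

/-- Table lookup. -/
def inO (m : ℕ) : Bool := oMask.testBit m

theorem param_elim : ∀ ε < 2, ∀ u < 8, (ε = 1 ∧ u = 7) ∨ badLine ε u = true := by decide +kernel

theorem sig_elim : ∀ s < 8, s = 0 ∨
    (seed s 7 (sigCert s).1 = true ∧
      ∃ l ∈ lines, runOps s 7 (sigCert s).2 (sigCert s).1 >>> 5 = fib l ∧ fixT s 7 l (runOps s 7 (sigCert s).2 (sigCert s).1) = false) := by
  decide +kernel

theorem line_data : ∀ l ∈ lines, (uv l.1 ≠ 0 ∧ qV 0 (uv l.1) = 0 ∧ uv l.2 ≠ 0 ∧ uv l.2 ≠ uv l.1 ∧
    qV 0 (uv l.2) = 0 ∧ B (uv l.1) (uv l.2) = 0) ∧ 1 ≤ fib l ∧ fib l < 64 ∧ l.1 < 16 ∧ l.2 < 16 := by decide +kernel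

theorem line_act : ∀ l ∈ lines, ∀ v : V, actL baseMaps (fib l * 32) v = rootV (uv l.1) (uv l.2) v := by
  decide +kernel

theorem ort_iff : ∀ i < 16, ∀ j < 16, ort i j = true ↔ B (uv i) (dv j) = 0 := by decide +kernel

theorem uv_dual : ∀ v : V, ∃ i < 16, ∃ j < 16, v = uv i + dv j := by decide +kernel

theorem uv_perp : ∀ i < 16, ∀ j < 16, B (uv i) (uv j) = 0 := by decide +kernel

theorem classify : ((List.range 2048).all fun m => decide (m < 32) || (dLine (m >>> 5)).isSome ||
    (List.range 16).any fun j => (dLine (spanWord TI (qMap 0 7 j m) >>> 5)).isSome) = true := by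
  decide +kernel

theorem isO_table : ((List.range 2048).all fun m => isO m == inO m) = true := by decide +kernel

theorem isO_eq {m : ℕ} (h : m < 2048) : isO m = inO m := by
  simpa using List.all_eq_true.mp isO_table m (List.mem_range.mpr h)

theorem levels : ((List.range 2048).all fun m => decide (m < 2) ||
    (List.range 4).any fun i =>
      let d := Nat.xor (qMap 0 7 (2 ^ i) m) m
      (decide (m < 32) && Nat.beq d 1) || (decide (32 ≤ m) && decide (2 ≤ d) && decide (d < 32))) = true := by
  decide +kernel

end CfsgLib.CoOneGolay
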