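import Mathlib
import Cfsg.Agent.Lib.CoOneGolay.Model
import Cfsg.Agent.Lib.Golay.Maximality
import Cfsg.Agent.Lib.Golay.OctadStabilizer
import Cfsg.Agent.Lib.Golay.Dodecad

/-!
The numerical model as the code modulo the all-ones word: the group of the code acts on it, faithfully, with
the octad words and the dodecad words as orbits.
-/

set_option autoImplicit false
set_option linter.style.longLine false
set_option maxHeartbeats 1000000
set_option maxRecDepth 100000

namespace CfsgLib.CoOneGolay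

open Cfsg CfsgLib.Golay
open scoped Pointwise

/-- Code words attached to the eleven basis masks. -/
def phiB : List ℕ :=
  [351362, 4850476, 13148440, 9568632, 6455896, 8773776, 9721936, 2460752, 9769376, 2512448, 5024896]

/-- Masks of the twelve generators of the code. -/
def psiB : List ℕ := [1019, 1025, 1426, 1416, 1880, 1196, 1184, 1912, 724, 1632, 192, 952]

/-- The code word of a mask. -/
def phi (m : ℕ) : ℕ := spanWord phiB m

/-- The mask of a code word. -/
def psi (n : ℕ) : ℕ := spanWord psiB (n &&& 4095)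

/-- The all-ones word. -/
def ones : ℕ := 16777215

theorem psi_xor (a b : ℕ) : psi (a ^^^ b) = psi a ^^^ psi b := by
  rw [psi, psi, psi, Nat.and_xor_distrib_right, spanWord_xor]

theorem psi_lt (n : ℕ) : psi n < 2048 :=
  spanWord_induction (P := fun m => m < 2 ^ 11) psiB (by norm_num) (fun _ _ => Nat.xor_lt_two_pow)
    (by decide +kernel) _

theorem phi_lt (m : ℕ) : phi m < 2 ^ 24 :=
  spanWord_induction (P := fun n => n < 2 ^ 24) phiB (by norm_num) (fun _ _ => Nat.xor_lt_two_pow)
    (by decide +kernel) m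

theorem isCode_phi (m : ℕ) : isCode (phi m) = true :=
  spanWord_induction (P := fun n => isCode n = true) phiB isCode_zero (fun _ _ => isCode_xor) (by decide +kernel) m

theorem phi_xor (a b : ℕ) : phi (a ^^^ b) = phi a ^^^ phi b := spanWord_xor _ a b

theorem psi_phi_table : ((List.range 2048).all fun m => Nat.beq (psi (phi m)) m) = true := by decide +kernel

theorem psi_phi {m : ℕ} (h : m < 2048) : psi (phi m) = m :=
  Nat.eq_of_beq_eq_true (List.all_eq_true.mp psi_phi_table m (List.mem_range.mpr h))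

theorem psi_ones : psi ones = 0 := by decide +kernel

theorem code_table : ((List.range 4096).all fun k =>
    let w := codeWord k
    let p := popc w
    (Nat.beq (phi (psi w)) w || Nat.beq (phi (psi w)) (Nat.xor w ones)) &&
    ((Nat.beq p 8 || Nat.beq p 16) == inO (psi w)) &&
    (Nat.beq p 0 || Nat.beq p 24 || Nat.beq p 8 || Nat.beq p 16 || Nat.beq p 12) &&
    (!(Nat.beq p 0 || Nat.beq p 24) || Nat.beq (psi w) 0) &&
    Nat.beq (popc (Nat.xor w ones)) (24 - p)) = true := by decide +kernel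

theorem code_facts {n : ℕ} (h : isCode n = true) :
    (phi (psi n) = n ∨ phi (psi n) = n ^^^ ones) ∧ (inO (psi n) = true ↔ popc n = 8 ∨ popc n = 16) ∧
      (popc n = 0 ∨ popc n = 24 ∨ popc n = 8 ∨ popc n = 16 ∨ popc n = 12) ∧
      (popc n = 0 ∨ popc n = 24 → psi n = 0) ∧ popc (n ^^^ ones) = 24 - popc n := by
  obtain ⟨k, hk, rfl⟩ := exists_codeWord h
  have e := List.all_eq_true.mp code_table k (List.mem_range.mpr hk)
  simp only [Bool.and_eq_true, Bool.or_eq_true, beq_iff_eq] at e
  obtain ⟨⟨⟨⟨e1, e2⟩, e3⟩, e4⟩, e5⟩ := e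
  refine ⟨e1.imp Nat.eq_of_beq_eq_true Nat.eq_of_beq_eq_true, ?_, ?_, fun hp => ?_, Nat.eq_of_beq_eq_true e5⟩
  · rw [← e2, Bool.or_eq_true]
    exact or_congr ⟨Nat.eq_of_beq_eq_true, fun h => by rw [h]; rfl⟩ ⟨Nat.eq_of_beq_eq_true, fun h => by rw [h]; rfl⟩
  · rcases e3 with (((a | a) | a) | a) | a <;> have := Nat.eq_of_beq_eq_true a <;> omega
  · rcases hp with hp | hp <;> rw [hp] at e4 <;> simpa using e4

/-- The action of a permutation on masks. -/
def rhoF (σ : Equiv.Perm GolayPt) (m : ℕ) : ℕ := psi (encS (σ • decS (phi m)))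

theorem rhoF_eq (σ : Equiv.Perm GolayPt) (m : ℕ) : rhoF σ m = psi (pmap (toList σ) (phi m)) := by
  rw [rhoF, encS_smul, encS_decS (phi_lt m)]

theorem rhoF_lt (σ : Equiv.Perm GolayPt) (m : ℕ) : rhoF σ m < 2048 := psi_lt _

theorem rhoF_xor (σ : Equiv.Perm GolayPt) (a b : ℕ) : rhoF σ (a ^^^ b) = rhoF σ a ^^^ rhoF σ b := by
  rw [rhoF_eq, rhoF_eq, rhoF_eq, phi_xor, ← psi_xor]
  congr 1
  exact spanWord_xor _ _ _

theorem rhoF_one {m : ℕ} (h : m < 2048) : rhoF 1 m = m := by
  rw [rhoF, one_smul, encS_decS (phi_lt m), psi_phi h]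

theorem pmap_ones (σ : Equiv.Perm GolayPt) : pmap (toList σ) ones = ones := by
  rw [ones, ← encS_univ, ← encS_smul, Finset.smul_finset_univ]

theorem rhoF_code (σ : Equiv.Perm GolayPt) {n : ℕ} (h : isCode n = true) :
    rhoF σ (psi n) = psi (pmap (toList σ) n) := by
  rw [rhoF_eq]
  rcases (code_facts h).1 with e | e <;> rw [e]
  rw [show pmap (toList σ) (n ^^^ ones) = pmap (toList σ) n ^^^ pmap (toList σ) ones from spanWord_xor _ _ _,
    psi_xor, pmap_ones, psi_ones, Nat.xor_zero]

theorem isCode_smul {σ : Equiv.Perm GolayPt} (hσ : σ ∈ M24) {n : ℕ} (h : isCode n = true) :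
    isCode (pmap (toList σ) n) = true := by
  obtain ⟨k, -, rfl⟩ := exists_codeWord h
  exact isCode_pmap (mem_M24_iff_isPres.mp hσ) k

theorem rhoF_mul (σ : Equiv.Perm GolayPt) {τ : Equiv.Perm GolayPt} (hτ : τ ∈ M24) (m : ℕ) :
    rhoF (σ * τ) m = rhoF σ (rhoF τ m) := by
  conv_rhs => rw [rhoF_eq τ, rhoF_code σ (isCode_smul hτ (isCode_phi m))]
  rw [rhoF, mul_smul, encS_smul, encS_smul, encS_decS (phi_lt m)]

theorem inO_rhoF {σ : Equiv.Perm GolayPt} (hσ : σ ∈ M24) {m : ℕ} (hm : m < 2048) :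
    inO (rhoF σ m) = inO m := by
  have hc := isCode_smul hσ (isCode_phi m)
  rw [Bool.eq_iff_iff, rhoF_eq, (code_facts hc).2.1]
  conv_rhs => rw [← psi_phi hm, (code_facts (isCode_phi m)).2.1]
  rw [← encS_decS (phi_lt m), ← encS_smul, popc_encS, popc_encS, Finset.card_smul_finset]

/-- The group of the code acting on masks. -/
def rho : ↥M24 →* Equiv.Perm (Fin 2048) where
  toFun σ :=
    { toFun := fun m => ⟨rhoF σ.1 m.1, rhoF_lt _ _⟩
      invFun := fun m => ⟨rhoF (σ⁻¹ : ↥M24).1 m.1, rhoF_lt _ _⟩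
      left_inv := fun m => Fin.ext (by
        show rhoF _ (rhoF σ.1 m.1) = m.1
        rw [← rhoF_mul _ σ.2, ← Subgroup.coe_mul, inv_mul_cancel, Subgroup.coe_one, rhoF_one m.2])
      right_inv := fun m => Fin.ext (by
        show rhoF σ.1 (rhoF _ m.1) = m.1
        rw [← rhoF_mul _ (σ⁻¹).2, ← Subgroup.coe_mul, mul_inv_cancel, Subgroup.coe_one, rhoF_one m.2]) }
  map_one' := Equiv.ext fun m => Fin.ext (rhoF_one m.2)
  map_mul' σ τ := Equiv.ext fun m => Fin.ext (rhoF_mul σ.1 τ.2 m.1)

theorem rho_apply (σ : ↥M24) (m : Fin 2048) : (rho σ m).1 = rhoF σ.1 m.1 := rfl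

/-- An octad representing a mask of the class. -/
theorem exists_octad {m : ℕ} (hm : m < 2048) (h : inO m = true) :
    ∃ o ∈ octads, psi (encS o) = m := by
  have hc := isCode_phi m
  have hp := (code_facts hc).2.1.1 (by rwa [psi_phi hm])
  rcases hp with hp | hp
  · exact ⟨decS (phi m), mem_octads.2 ⟨by rwa [encS_decS (phi_lt m)], by rwa [encS_decS (phi_lt m)]⟩,
      by rw [encS_decS (phi_lt m), psi_phi hm]⟩
  · have hlt : phi m ^^^ ones < 2 ^ 24 := Nat.xor_lt_two_pow (phi_lt m) (by norm_num [ones])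
    refine ⟨decS (phi m ^^^ ones), mem_octads.2 ⟨?_, ?_⟩, ?_⟩ <;> rw [encS_decS hlt]
    · exact isCode_xor hc (by decide +kernel)
    · rw [(code_facts hc).2.2.2.2, hp]
    · rw [psi_xor, psi_phi hm, psi_ones, Nat.xor_zero]

/-- The octad of the central involution. -/
def zOct : Finset GolayPt := decS 351362

theorem zOct_mem : zOct ∈ octads := by
  rw [zOct, mem_octads, encS_decS (by norm_num)]
  decide +kernel

theorem psi_zOct : psi (encS zOct) = 1 := by
  rw [zOct, encS_decS (by norm_num)]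
  decide +kernel

theorem rhoF_octad {σ : Equiv.Perm GolayPt} {o : Finset GolayPt} (ho : o ∈ octads) :
    rhoF σ (psi (encS o)) = psi (encS (σ • o)) := by
  rw [rhoF_code σ (mem_octads.1 ho).1, encS_smul]

/-- Octads are determined by their masks. -/
theorem octad_inj {o o' : Finset GolayPt} (ho : o ∈ octads) (ho' : o' ∈ octads)
    (h : psi (encS o) = psi (encS o')) : o = o' := by
  obtain ⟨c1, p1⟩ := mem_octads.1 ho
  obtain ⟨c2, p2⟩ := mem_octads.1 ho'
  refine encS_injective ?_
  have e1 := (code_facts c1).1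
  have e2 := (code_facts c2).1
  rw [h] at e1
  have hcase : ∀ a b p : ℕ, (p = a ∨ p = a ^^^ ones) → (p = b ∨ p = b ^^^ ones) → a = b ∨ a ^^^ ones = b := by
    intro a b p h1 h2
    rcases h1 with rfl | rfl <;> rcases h2 with h2 | h2
    · exact Or.inl h2
    · right; rw [h2, Nat.xor_assoc, Nat.xor_self, Nat.xor_zero]
    · exact Or.inr h2
    · left; exact Nat.xor_left_injective h2
  rcases hcase _ _ _ e1 e2 with e | e
  · exact e
  · exfalso
    have := (code_facts c1).2.2.2.2
    rw [e, p1, p2] at this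
    omega

theorem exists_rho_eq {m m' : ℕ} (hm : m < 2048) (hm' : m' < 2048) (h : inO m = true) (h' : inO m' = true) :
    ∃ σ : ↥M24, rhoF σ.1 m = m' := by
  obtain ⟨o, ho, rfl⟩ := exists_octad hm h
  obtain ⟨o', ho', rfl⟩ := exists_octad hm' h'
  obtain ⟨g, hg, rfl⟩ := exists_smul_octad_eq ho ho'
  exact ⟨⟨g, hg⟩, rhoF_octad ho⟩

theorem exists_rho_eq' {m m' : ℕ} (hm : m < 2048) (hm' : m' < 2048) (h0 : m ≠ 0) (h0' : m' ≠ 0)
    (h : inO m = false) (h' : inO m' = false) : ∃ σ : ↥M24, rhoF σ.1 m = m' := by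
  have key : ∀ {k : ℕ}, k < 2048 → k ≠ 0 → inO k = false → decS (phi k) ∈ dodecads := by
    intro k hk hk0 hko
    obtain ⟨-, f2, f3, f4, -⟩ := code_facts (isCode_phi k)
    rw [psi_phi hk] at f2 f4
    refine mem_dodecads.2 ⟨by rw [encS_decS (phi_lt k)]; exact isCode_phi k, ?_⟩
    rw [encS_decS (phi_lt k)]
    rcases f3 with a | a | a | a | a
    · exact absurd (f4 (Or.inl a)) hk0
    · exact absurd (f4 (Or.inr a)) hk0
    · rw [f2.2 (Or.inl a)] at hko; cases hko
    · rw [f2.2 (Or.inr a)] at hko; cases hko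
    · exact a
  obtain ⟨g, hg, e⟩ := exists_smul_dodecad_eq (key hm h0 h) (key hm' h0' h')
  exact ⟨⟨g, hg⟩, by rw [rhoF, e, encS_decS (phi_lt m'), psi_phi hm']⟩

theorem separate_octad : ((List.range 24).all fun p => (List.range 24).all fun q => Nat.beq p q ||
    (List.range 4096).any fun k => Nat.beq (popc (codeWord k)) 8 && (codeWord k).testBit p && !(codeWord k).testBit q) = true := by
  decide +kernel

theorem rho_injective : Function.Injective rho := by
  rw [injective_iff_map_eq_one]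
  intro σ hσ
  have hfix : ∀ o ∈ octads, σ.1 • o = o := fun o ho => by
    refine octad_inj (smul_mem_octads σ.2 ho) ho ?_
    rw [← rhoF_octad ho]
    exact congrArg Fin.val (Equiv.ext_iff.1 hσ ⟨psi (encS o), psi_lt _⟩)
  refine Subtype.ext (Equiv.ext fun p => ?_)
  by_contra hne
  have hidx : (idx p).val ≠ (idx (σ.1 p)).val := fun e => hne (idx_injective (Fin.ext e.symm))
  have e := List.all_eq_true.mp (List.all_eq_true.mp separate_octad _ (List.mem_range.mpr (idx p).isLt)) _
    (List.mem_range.mpr (idx (σ.1 p)).isLt)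
  simp only [Bool.or_eq_true, List.any_eq_true, Bool.and_eq_true, Bool.not_eq_true'] at e
  rcases e with e | ⟨k, -, ⟨hp8, hb⟩, hnb⟩
  · exact hidx (Nat.eq_of_beq_eq_true e)
  · have ho : decS (codeWord k) ∈ octads := mem_octads.2
      ⟨by rw [encS_decS (codeWord_lt k)]; exact isCode_codeWord k,
        by rw [encS_decS (codeWord_lt k)]; exact Nat.eq_of_beq_eq_true hp8⟩
    have hm : σ.1 p ∈ σ.1 • decS (codeWord k) := Finset.mem_smul_finset.mpr ⟨p, mem_decS.2 hb, rfl⟩
    rw [hfix _ ho, mem_decS, hnb] at hm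
    cases hm

/-- The image list of the permutation of the flip. -/
def tList : List ℕ := [1, 0, 2, 3, 18, 5, 11, 13, 8, 9, 21, 6, 20, 7, 23, 16, 15, 17, 4, 19, 12, 10, 22, 14]

/-- The permutation of the flip on positions. -/
def tFun (i : Fin 24) : Fin 24 := ⟨tList.getD i.val 0 % 24, Nat.mod_lt _ (by norm_num)⟩

theorem tFun_invol : Function.Involutive tFun := by unfold Function.Involutive; decide +kernel

/-- The permutation of the flip. -/
def tPerm : Equiv.Perm GolayPt := (ptEquiv.symm.trans (tFun_invol.toPerm tFun)).trans ptEquiv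

theorem toList_tPerm : toList tPerm = tList := by decide +kernel

theorem tPerm_mem : tPerm ∈ M24 := by
  rw [mem_M24_iff_isPres, toList_tPerm]; decide +kernel

theorem tPerm_table : ((List.range 2048).all fun m => Nat.beq (psi (pmap tList (phi m))) (spanWord TI m)) = true := by
  decide +kernel

theorem rhoF_tPerm {m : ℕ} (hm : m < 2048) : rhoF tPerm m = spanWord TI m := by
  rw [rhoF_eq, toList_tPerm]
  exact Nat.eq_of_beq_eq_true (List.all_eq_true.mp tPerm_table m (List.mem_range.mpr hm))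

theorem tPerm_moves : rhoF tPerm 1 ≠ 1 := by
  rw [rhoF_tPerm (by norm_num)]; decide +kernel

theorem mem_stab_iff {σ : ↥M24} :
    σ ∈ MulAction.stabilizer M24 zOct ↔ rhoF σ.1 1 = 1 := by
  rw [MulAction.mem_stabilizer_iff]
  constructor
  · intro h
    rw [← psi_zOct, rhoF_octad zOct_mem]
    exact congrArg (fun o => psi (encS o)) h
  · intro h
    refine octad_inj (smul_mem_octads σ.2 zOct_mem) zOct_mem ?_
    rw [← psi_zOct, rhoF_octad zOct_mem] at h
    exact h

theorem natCard_stab : Nat.card (MulAction.stabilizer M24 zOct) = 322560 := natCard_stabilizer_octad zOct_mem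

end CfsgLib.CoOneGolay
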