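import Mathlib
import Cfsg.Agent.Lib.CoOneGolay.Model

/-!
Words in eleven commuting involutions and the translation of the frame rules into the numerical model.
-/

set_option autoImplicit false
set_option linter.style.longLine false
set_option maxHeartbeats 1000000
set_option maxRecDepth 100000
set_option synthInstance.maxSize 8000
set_option synthInstance.maxHeartbeats 1000000

namespace CfsgLib.CoOneGolay

open Subgroup CfsgLib.CoOneType CfsgLib.Golay

/-! ### Words -/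

section word

variable {G : Type*} [Group G]

/-- The product of the entries selected by the bits. -/
def word : List G → ℕ → G
  | [], _ => 1
  | a :: l, m => (if m.testBit 0 then a else 1) * word l (m >>> 1)

/-- The sum of the entries selected by the bits. -/
def vsum {A : Type*} [AddCommMonoid A] : List A → ℕ → A
  | [], _ => 0
  | a :: l, m => (if m.testBit 0 then a else 0) + vsum l (m >>> 1)

theorem word_zero (l : List G) : word l 0 = 1 := by
  induction l with
  | nil => rfl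
  | cons a l ih => simp [word, ih]

theorem word_append (l l' : List G) : ∀ m, word (l ++ l') m = word l m * word l' (m >>> l.length) := by
  induction l with
  | nil => simp [word]
  | cons a l ih =>
    intro m
    simp only [List.cons_append, word, ih, List.length_cons, mul_assoc]
    rw [← Nat.shiftRight_add, add_comm 1]

theorem word_mem {H : Subgroup G} {l : List G} (h : ∀ a ∈ l, a ∈ H) : ∀ m, word l m ∈ H := by
  induction l with
  | nil => exact fun _ => one_mem H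
  | cons a l ih =>
    intro m
    simp only [word]
    refine mul_mem ?_ (ih (fun b hb => h b (List.mem_cons_of_mem _ hb)) _)
    split_ifs
    exacts [h a List.mem_cons_self, one_mem H]

theorem word_hom {A : Type*} [AddCommMonoid A] {H : Subgroup G} (φ : G → A) (h1 : φ 1 = 0)
    (hφ : ∀ a ∈ H, ∀ b ∈ H, φ (a * b) = φ a + φ b) {l : List G} (h : ∀ a ∈ l, a ∈ H) :
    ∀ m, φ (word l m) = vsum (l.map φ) m := by
  induction l with
  | nil => exact fun _ => h1
  | cons a l ih =>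
    intro m
    have hl : ∀ b ∈ l, b ∈ H := fun b hb => h b (List.mem_cons_of_mem _ hb)
    simp only [word, List.map_cons, vsum]
    rw [hφ _ (by split_ifs; exacts [h a List.mem_cons_self, one_mem H]) _ (word_mem hl _), ih hl]
    split_ifs <;> simp [h1]

theorem word_commute {l : List G} {b : G} (h : ∀ a ∈ l, Commute b a) : ∀ m, Commute b (word l m) := by
  induction l with
  | nil => exact fun _ => Commute.one_right b
  | cons a l ih =>
    intro m
    simp only [word]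
    refine Commute.mul_right ?_ (ih (fun c hc => h c (List.mem_cons_of_mem _ hc)) _)
    split_ifs
    exacts [h a List.mem_cons_self, Commute.one_right b]

/-- Commuting involutions. -/
def Elem (l : List G) : Prop := (∀ a ∈ l, ∀ b ∈ l, a * b = b * a) ∧ ∀ a ∈ l, a * a = 1

theorem word_xor : ∀ {l : List G}, Elem l → ∀ a b, word l (a ^^^ b) = word l a * word l b := by
  intro l
  induction l with
  | nil => simp [word]
  | cons c l ih =>
    intro h a b
    have hl : Elem l := ⟨fun a ha b hb => h.1 a (List.mem_cons_of_mem _ ha) b (List.mem_cons_of_mem _ hb),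
      fun a ha => h.2 a (List.mem_cons_of_mem _ ha)⟩
    have hc : ∀ m, Commute (word l m) c := fun m =>
      (word_commute (fun d hd => h.1 c List.mem_cons_self d (List.mem_cons_of_mem _ hd)) m).symm
    have hs := h.2 c List.mem_cons_self
    simp only [word, Nat.testBit_xor, Nat.shiftRight_xor_distrib, ih hl]
    cases a.testBit 0 <;> cases b.testBit 0 <;> simp [mul_assoc]
    · rw [← mul_assoc (word l (a >>> 1)) c, (hc _).eq, mul_assoc]
    · rw [← mul_assoc (word l (a >>> 1)) c, (hc _).eq, ← mul_assoc c, ← mul_assoc c c, hs, one_mul]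

theorem word_span {gs : List G} (h : Elem gs) (im : List ℕ) :
    ∀ m, word (im.map (word gs)) m = word gs (spanWord im m) := by
  induction im with
  | nil => intro m; simp [word, spanWord, word_zero]
  | cons a im ih =>
    intro m
    simp only [List.map_cons, word, ih, spanWord_cons, word_xor h]
    cases m.testBit 0 <;> simp [word_zero]

theorem conj_word (c : G) (l : List G) : ∀ m, c * word l m * c⁻¹ = word (l.map fun a => c * a * c⁻¹) m := by
  induction l with
  | nil => simp [word]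
  | cons a l ih =>
    intro m
    simp only [List.map_cons, word, ← ih]
    cases m.testBit 0 <;> simp [mul_assoc]

theorem conj_span {gs : List G} (h : Elem gs) {c : G} {im : List ℕ}
    (e : (gs.map fun a => c * a * c⁻¹) = im.map (word gs)) (m : ℕ) :
    c * word gs m * c⁻¹ = word gs (spanWord im m) := by
  rw [conj_word, e, word_span h]

end word

theorem spanWord_shift (g : List ℕ) : ∀ m, spanWord g m >>> 5 = spanWord (g.map (· >>> 5)) m := by
  induction g with
  | nil => intro m; simp [spanWord]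
  | cons a g ih =>
    intro m
    simp only [List.map_cons, spanWord_cons, Nat.shiftRight_xor_distrib, ih]
    cases m.testBit 0 <;> simp

theorem span_top : ∀ m < 2048, spanWord [0, 0, 0, 0, 0, 1, 2, 4, 8, 16, 32] m = m >>> 5 := by decide +kernel

theorem spanWord_lt (g : List ℕ) (h : ∀ a ∈ g, a < 2 ^ 11) (m : ℕ) : spanWord g m < 2 ^ 11 :=
  spanWord_induction (P := fun n => n < 2 ^ 11) g (by norm_num) (fun _ _ => Nat.xor_lt_two_pow) h m

theorem top_maps : ∀ a < 2, ∀ b < 2, ∀ c < 2,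
    [1, 3, 4, 8, 16, 36 + a, 72 + b, 144 + c, 256, 512, 1024].map (· >>> 5) = [0, 0, 0, 0, 0, 1, 2, 4, 8, 16, 32] ∧
    [1, 2, 5, 8, 16, 35, 64, 128, 256, 528, 1032 + a].map (· >>> 5) = [0, 0, 0, 0, 0, 1, 2, 4, 8, 16, 32] ∧
    [1, 2, 4, 9, 16, 32, 67, 128, 272 + a, 512, 1028].map (· >>> 5) = [0, 0, 0, 0, 0, 1, 2, 4, 8, 16, 32] ∧
    [1, 2, 4, 8, 17, 32, 64, 131, 264, 516 + a, 1024].map (· >>> 5) = [0, 0, 0, 0, 0, 1, 2, 4, 8, 16, 32] ∧
    (∀ d ∈ [1, 3, 4, 8, 16, 36 + a, 72 + b, 144 + c, 256, 512, 1024], d < 2 ^ 11) ∧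
    (∀ d ∈ [1, 2, 5, 8, 16, 35, 64, 128, 256, 528, 1032 + a], d < 2 ^ 11) ∧
    (∀ d ∈ [1, 2, 4, 9, 16, 32, 67, 128, 272 + a, 512, 1028], d < 2 ^ 11) ∧
    (∀ d ∈ [1, 2, 4, 8, 17, 32, 64, 131, 264, 516 + a, 1024], d < 2 ^ 11) := by decide +kernel

theorem tIm_lt : ∀ e < 2, ∀ d ∈ tIm e, d < 2 ^ 11 := by decide +kernel

theorem pbit_lt (s i : ℕ) : pbit s i < 2 := Nat.lt_succ_of_le Nat.and_le_right

theorem qStep_top {g : List ℕ} (h1 : g.map (· >>> 5) = [0, 0, 0, 0, 0, 1, 2, 4, 8, 16, 32])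
    (h2 : ∀ d ∈ g, d < 2 ^ 11) (j i : ℕ) {m : ℕ} (hm : m < 2048) :
    qStep g j i m < 2048 ∧ qStep g j i m >>> 5 = m >>> 5 := by
  unfold qStep
  split_ifs
  · exact ⟨spanWord_lt g h2 m, by rw [spanWord_shift, h1, span_top m hm]⟩
  · exact ⟨hm, rfl⟩

theorem qMap_top (s u j : ℕ) {m : ℕ} (hm : m < 2048) : qMap s u j m < 2048 ∧ qMap s u j m >>> 5 = m >>> 5 := by
  obtain ⟨f1, -, -, -, f5, -, -, -⟩ := top_maps _ (pbit_lt s 0) _ (pbit_lt s 1) _ (pbit_lt s 2)
  obtain ⟨-, g1, -, -, -, g5, -, -⟩ := top_maps _ (pbit_lt u 2) 0 (by norm_num) 0 (by norm_num)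
  obtain ⟨-, -, h1, -, -, -, h5, -⟩ := top_maps _ (pbit_lt u 0) 0 (by norm_num) 0 (by norm_num)
  obtain ⟨-, -, -, k1, -, -, -, k5⟩ := top_maps _ (pbit_lt u 1) 0 (by norm_num) 0 (by norm_num)
  obtain ⟨a1, a2⟩ := qStep_top (g := g2Im u) k1 k5 j 3 hm
  obtain ⟨b1, b2⟩ := qStep_top (g := g1Im u) h1 h5 j 2 a1
  obtain ⟨c1, c2⟩ := qStep_top (g := g0Im u) g1 g5 j 1 b1
  obtain ⟨d1, d2⟩ := qStep_top (g := fIm s) f1 f5 j 0 c1
  exact ⟨d1, by rw [qMap, d2, c2, b2, a2]⟩

/-- Three bits as a number. -/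
def bits3 (a : Fin 3 → ZMod 2) : ℕ := (a 0).val + 2 * (a 1).val + 4 * (a 2).val

theorem bits3_spec : ∀ a b c : ZMod 2, a.val + 2 * b.val + 4 * c.val < 8 ∧
    pbit (a.val + 2 * b.val + 4 * c.val) 0 = a.val ∧ pbit (a.val + 2 * b.val + 4 * c.val) 1 = b.val ∧
    pbit (a.val + 2 * b.val + 4 * c.val) 2 = c.val := by decide

theorem low_vec : ∀ m < 32, vsum [(0 : V), x0, inj (av 0), inj (av 1), inj (av 2)] m = uv (m >>> 1) := by decide +kernel

theorem plane_vec : ∀ k < 8, vsum [av 0, av 1, av 2] k = (uv (2 * k)).2 := by decide +kernel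

theorem dual_vec : ∀ j < 16, (if j.testBit 0 then f0 else 0) + (if j.testBit 1 then inj (gv 0) else 0) +
    (if j.testBit 2 then inj (gv 1) else 0) + (if j.testBit 3 then inj (gv 2) else 0) = dv j := by decide +kernel

theorem even_line : ∀ l ∈ lines, Nat.land l.1 1 = 0 → Nat.land l.2 1 = 0 →
    uv l.1 = inj (uv l.1).2 ∧ uv l.2 = inj (uv l.2).2 ∧ (uv l.1).2 ≠ 0 ∧ qW 0 (uv l.1).2 = 0 ∧ (uv l.2).2 ≠ 0 ∧
      (uv l.2).2 ≠ (uv l.1).2 ∧ qW 0 (uv l.2).2 = 0 ∧ BW (uv l.1).2 (uv l.2).2 = 0 ∧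
      ∀ r < 8, inSpan l (2 * r) = true ↔ ∃ i j : ZMod 2, (uv (2 * r)).2 = i • (uv l.1).2 + j • (uv l.2).2 := by
  decide +kernel

theorem disp_shape : ∀ d < 2048, Nat.land d 1820 = 0 → ∃ a < 4, ∃ k < 8, d = a ^^^ (32 * k) ∧
    Nat.land (Nat.shiftRight d 5) 7 = k := by decide +kernel

theorem uv_zero : ∀ i < 16, uv i = 0 → i = 0 := by decide +kernel

variable {G : Type*} [Group G] [Finite G] {z : G} {Q : Subgroup G} {K : Coord z Q 0} {x g : G} {S : Base K x g}

/-- The eleven involutions. -/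
def gens (F : Frame S) : List G := [z, x, F.q 0, F.q 1, F.q 2, F.r 0, F.r 1, F.r 2, F.e 0, F.e 1, F.e 2]

/-- The element of a mask. -/
def W (F : Frame S) (m : ℕ) : G := word (gens F) m

/-- The sign parameters. -/
def sN (F : Frame S) : ℕ := bits3 F.σ
/-- The pairing parameters. -/
def uN (F : Frame S) : ℕ := bits3 F.τ

/-- A product of dual lifts. -/
def cq (F : Frame S) (j : ℕ) : G :=
  (if j.testBit 0 then F.f else 1) * (if j.testBit 1 then F.gl 0 else 1) *
    (if j.testBit 2 then F.gl 1 else 1) * (if j.testBit 3 then F.gl 2 else 1)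

section basic

variable (F : Frame S)

theorem r_sq (k : Fin 3) : F.r k * F.r k = 1 := by
  rw [S.sq_R (F.rR k), F.ru, (av_facts k).2.1, S.el_zero]

theorem q_sq (k : Fin 3) : F.q k * F.q k = 1 :=
  (K.invol_iff S.hyp.extra.ne_one (F.qQ k)).2 (by rw [F.qv, qV_inj]; exact (av_facts k).2.1)

theorem q_x (k : Fin 3) : F.q k * x = x * F.q k := (S.comm_x_iff (F.qQ k)).2 (by rw [F.qv]; rfl)

theorem e_x (k : Fin 3) : F.e k * x = x * F.e k :=
  S.root_x (av_facts _).1 (av_facts _).2.1 (av_facts _).1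
    (((av_facts (k + 2)).2.2.2 (k + 1)).2 (fin3_facts k).2.2.1) (av_facts _).2.1 ((av_facts _).2.2.2 _).1.1 (F.eroot k)

theorem qr (k l : Fin 3) : F.q k * F.r l = F.r l * F.q k :=
  (S.comm_el_zero (F.rR l) (F.qQ k) (q_x F k) (by rw [F.ru, F.qv]; exact ((av_facts l).2.2.2 k).1.1)).symm

theorem qe (k l : Fin 3) : F.q k * F.e l = F.e l * F.q k := by
  obtain ⟨h1, h2, h3⟩ := span_inj (av_facts (l + 1)).1 (av_facts (l + 2)).1
    (((av_facts (l + 2)).2.2.2 (l + 1)).2 (fin3_facts l).2.2.1)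
  have hb : ∀ a, B (inj (av k)) (inj (av a)) = 0 := fun a => (B_inj _ _).trans ((av_facts k).2.2.2 a).1.1
  exact (S.root_comm_lift h1 ((qV_inj 0 _).trans (av_facts _).2.1) h2 h3 ((qV_inj 0 _).trans (av_facts _).2.1)
    ((B_inj _ _).trans ((av_facts _).2.2.2 _).1.1) (F.eroot l) (F.qQ k) (by rw [F.qv]; exact hb _)
    (by rw [F.qv]; exact hb _)).symm

theorem qq (k l : Fin 3) : F.q k * F.q l = F.q l * F.q k :=
  (K.comm_iff S.hyp.extra.ne_one (F.qQ k) (F.qQ l)).2 (by rw [F.qv, F.qv, B_inj]; exact ((av_facts k).2.2.2 l).1.1)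

theorem rr (k l : Fin 3) : F.r k * F.r l = F.r l * F.r k :=
  S.R_commute (F.rR k) (F.rR l) (by rw [F.ru, F.ru]; exact ((av_facts k).2.2.2 l).1.1)

theorem mem_gens {a : G} (h : a ∈ gens F) :
    a = z ∨ a = x ∨ (∃ k, a = F.q k) ∨ (∃ k, a = F.r k) ∨ ∃ k, a = F.e k := by
  simp only [gens, List.mem_cons, List.not_mem_nil, or_false] at h
  rcases h with rfl | rfl | rfl | rfl | rfl | rfl | rfl | rfl | rfl | rfl | rfl <;> simp

theorem gen_zx {a : G} (h : a ∈ gens F) : a * z = z * a ∧ a * x = x * a := by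
  rcases mem_gens F h with rfl | rfl | ⟨k, rfl⟩ | ⟨k, rfl⟩ | ⟨k, rfl⟩
  · exact ⟨rfl, S.xz.symm⟩
  · exact ⟨S.xz, rfl⟩
  · exact ⟨S.hyp.extra.comm_z (F.qQ k), q_x F k⟩
  · exact ⟨S.R_z (F.rR k), S.R_x (F.rR k)⟩
  · exact ⟨(F.eroot k).1, e_x F k⟩

theorem elem : Elem (gens F) := by
  refine ⟨fun a ha b hb => ?_, fun a ha => ?_⟩
  · rcases mem_gens F ha with rfl | rfl | ⟨k, rfl⟩ | ⟨k, rfl⟩ | ⟨k, rfl⟩
    · exact (gen_zx F hb).1.symm
    · exact (gen_zx F hb).2.symm
    all_goals rcases mem_gens F hb with rfl | rfl | ⟨l, rfl⟩ | ⟨l, rfl⟩ | ⟨l, rfl⟩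
    all_goals first
      | exact (gen_zx F ha).1
      | exact (gen_zx F ha).2
      | exact qq F k l
      | exact qr F k l
      | exact (qr F l k).symm
      | exact qe F k l
      | exact (qe F l k).symm
      | exact rr F k l
      | exact F.re k l
      | exact (F.re l k).symm
      | exact F.ee k l
  · rcases mem_gens F ha with rfl | rfl | ⟨k, rfl⟩ | ⟨k, rfl⟩ | ⟨k, rfl⟩
    exacts [S.hyp.extra.sq_one, S.xx, q_sq F k, r_sq F k, (F.eroot k).2.2.1]

theorem W_xor (a b : ℕ) : W F (a ^^^ b) = W F a * W F b := word_xor (elem F) a b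

theorem W_sq (a : ℕ) : W F a * W F a = 1 := by rw [← W_xor, Nat.xor_self]; exact word_zero _

theorem W_comm (a b : ℕ) : W F a * W F b = W F b * W F a := by rw [← W_xor, ← W_xor, Nat.xor_comm]

theorem W_z (a : ℕ) : W F a * z = z * W F a :=
  ((word_commute (fun b hb => ((gen_zx F hb).1).symm) a).eq).symm

theorem W_one : W F 1 = z := by simp [W, gens, word]

theorem W_two_pow : W F 2 = x ∧ W F 3 = z * x := by constructor <;> simp [W, gens, word, Nat.testBit, Nat.shiftRight_eq_div_pow]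

theorem W_basis : W F 4 = F.q 0 ∧ W F 8 = F.q 1 ∧ W F 16 = F.q 2 ∧ W F 32 = F.r 0 ∧ W F 64 = F.r 1 ∧
    W F 128 = F.r 2 ∧ W F 256 = F.e 0 ∧ W F 512 = F.e 1 ∧ W F 1024 = F.e 2 := by
  refine ⟨?_, ?_, ?_, ?_, ?_, ?_, ?_, ?_, ?_⟩ <;> simp [W, gens, word, Nat.testBit, Nat.shiftRight_eq_div_pow]

/-- Two-bit values. -/
theorem W_pair : W F 36 = F.q 0 * F.r 0 ∧ W F 72 = F.q 1 * F.r 1 ∧ W F 144 = F.q 2 * F.r 2 ∧
    W F 288 = F.e 0 * F.r 0 ∧ W F 576 = F.e 1 * F.r 1 ∧ W F 1152 = F.e 2 * F.r 2 ∧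
    W F 5 = z * F.q 0 ∧ W F 9 = z * F.q 1 ∧ W F 17 = z * F.q 2 ∧
    W F 35 = z * (x * F.r 0) ∧ W F 67 = z * (x * F.r 1) ∧ W F 131 = z * (x * F.r 2) ∧
    W F 528 = F.q 2 * F.e 1 ∧ W F 1028 = F.q 0 * F.e 2 ∧ W F 264 = F.q 1 * F.e 0 ∧
    W F 1032 = F.q 1 * F.e 2 ∧ W F 272 = F.q 2 * F.e 0 ∧ W F 516 = F.q 0 * F.e 1 := by
  obtain ⟨v4, v8, v16, v32, v64, v128, v256, v512, v1024⟩ := W_basis F
  have v1 := W_one F
  have v2 := (W_two_pow F).1
  have h := fun a b => W_xor F a b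
  refine ⟨?_, ?_, ?_, ?_, ?_, ?_, ?_, ?_, ?_, ?_, ?_, ?_, ?_, ?_, ?_, ?_, ?_, ?_⟩
  · rw [← v4, ← v32, ← h]; rfl
  · rw [← v8, ← v64, ← h]; rfl
  · rw [← v16, ← v128, ← h]; rfl
  · rw [← v256, ← v32, ← h]; rfl
  · rw [← v512, ← v64, ← h]; rfl
  · rw [← v1024, ← v128, ← h]; rfl
  · rw [show (5 : ℕ) = 1 ^^^ 4 from rfl, h, v1, v4]
  · rw [show (9 : ℕ) = 1 ^^^ 8 from rfl, h, v1, v8]
  · rw [show (17 : ℕ) = 1 ^^^ 16 from rfl, h, v1, v16]
  · rw [show (35 : ℕ) = 1 ^^^ (2 ^^^ 32) from rfl, h, h, v1, v2, v32]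
  · rw [show (67 : ℕ) = 1 ^^^ (2 ^^^ 64) from rfl, h, h, v1, v2, v64]
  · rw [show (131 : ℕ) = 1 ^^^ (2 ^^^ 128) from rfl, h, h, v1, v2, v128]
  · rw [← v16, ← v512, ← h]; rfl
  · rw [← v4, ← v1024, ← h]; rfl
  · rw [← v8, ← v256, ← h]; rfl
  · rw [← v8, ← v1024, ← h]; rfl
  · rw [← v16, ← v256, ← h]; rfl
  · rw [← v4, ← v512, ← h]; rfl

theorem W_add {n : ℕ} (hn : (n ^^^ 1) = n + 1) (b : ZMod 2) : W F (n + b.val) = W F n * S.el b 0 := by
  rcases zcases b with rfl | rfl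
  · simp [S.el_zero]
  · rw [ZMod.val_one, ← hn, W_xor, W_one]
    simp [Base.el]

theorem conj_t (m : ℕ) : F.t * W F m * F.t⁻¹ = W F (spanWord (tIm F.ε.val) m) := by
  refine conj_span (elem F) ?_ m
  have ti := F.flip.inv
  obtain ⟨v4, v8, v16, v32, v64, v128, v256, v512, v1024⟩ := W_basis F
  obtain ⟨p36, p72, p144, p288, p576, p1152, -⟩ := W_pair F
  obtain ⟨v2, v3⟩ := W_two_pow F
  simp only [W] at v2 v3 v4 v8 v16 v32 v64 v128 v256 v512 v1024 p36 p72 p144 p288 p576 p1152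
  have hte := F.te
  simp only [gens, tIm, List.map_cons, List.map_nil, List.cons.injEq, and_true]
  rw [show word [z, x, F.q 0, F.q 1, F.q 2, F.r 0, F.r 1, F.r 2, F.e 0, F.e 1, F.e 2] = word (gens F) from rfl, ti]
  rcases zcases F.ε with h | h <;> simp only [h, if_true, if_neg one_ne_zero, mul_one] at hte <;>
    simp only [h, ZMod.val_zero, ZMod.val_one, mul_zero, mul_one, add_zero, Nat.reduceAdd, v2, v3, v32, v64, v128,
      v256, v512, v1024, p36, p72, p144, p288, p576, p1152, F.flip.tzt, F.flip.txt, F.tq, F.tr, hte, and_self]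

theorem conj_f (m : ℕ) : F.f * W F m * F.f⁻¹ = W F (spanWord (fIm (sN F)) m) := by
  refine conj_span (elem F) ?_ m
  have hQ := F.fQ
  have hz : F.f * z * F.f⁻¹ = z := by rw [S.hyp.extra.comm_z hQ, mul_inv_cancel_right]
  have hx : F.f * x * F.f⁻¹ = z * x := by
    rw [K.conj S.hx hQ, F.fv, S.hxv, if_neg (by decide +kernel)]
  have hq : ∀ k, F.f * F.q k * F.f⁻¹ = F.q k := fun k => by
    rw [(K.comm_iff S.hyp.extra.ne_one hQ (F.qQ k)).2 (by rw [F.fv, F.qv]; simp [B, pB, f0, inj, BW_zero_left]),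
      mul_inv_cancel_right]
  have he : ∀ k, F.f * F.e k * F.f⁻¹ = F.e k := fun k => by
    obtain ⟨h1, h2, h3⟩ := span_inj (av_facts (k + 1)).1 (av_facts (k + 2)).1
      (((av_facts (k + 2)).2.2.2 (k + 1)).2 (fin3_facts k).2.2.1)
    rw [← S.root_comm_lift h1 ((qV_inj 0 _).trans (av_facts _).2.1) h2 h3 ((qV_inj 0 _).trans (av_facts _).2.1)
      ((B_inj _ _).trans ((av_facts _).2.2.2 _).1.1) (F.eroot k) hQ
      (by rw [F.fv]; simp [B, pB, f0, inj, BW_zero_left]) (by rw [F.fv]; simp [B, pB, f0, inj, BW_zero_left]),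
      mul_inv_cancel_right]
  obtain ⟨-, p0, p1, p2⟩ := bits3_spec (F.σ 0) (F.σ 1) (F.σ 2)
  obtain ⟨v4, v8, v16, v32, v64, v128, v256, v512, v1024⟩ := W_basis F
  obtain ⟨p36, p72, p144, -⟩ := W_pair F
  have v1 := W_one F
  have v3 := (W_two_pow F).2
  have a0 := W_add F (n := 36) (by decide) (F.σ 0)
  have a1 := W_add F (n := 72) (by decide) (F.σ 1)
  have a2 := W_add F (n := 144) (by decide) (F.σ 2)
  rw [p36] at a0; rw [p72] at a1; rw [p144] at a2
  simp only [W] at v1 v3 v4 v8 v16 v256 v512 v1024 a0 a1 a2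
  simp only [gens, fIm, sN, bits3, List.map_cons, List.map_nil, List.cons.injEq, and_true, p0, p1, p2]
  rw [show word [z, x, F.q 0, F.q 1, F.q 2, F.r 0, F.r 1, F.r 2, F.e 0, F.e 1, F.e 2] = word (gens F) from rfl]
  simp only [v1, v3, v4, v8, v16, v256, v512, v1024, a0, a1, a2, hz, hx, hq, he, F.fr, ← qr F, and_self]

theorem conj_gl (k : Fin 3) :
    F.gl k * z * (F.gl k)⁻¹ = z ∧ F.gl k * x * (F.gl k)⁻¹ = x ∧
    (∀ l, F.gl k * F.q l * (F.gl k)⁻¹ = if k = l then z * F.q l else F.q l) ∧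
    (∀ l, F.gl k * F.r l * (F.gl k)⁻¹ = if k = l then z * (x * F.r l) else F.r l) ∧
    F.gl k * F.e k * (F.gl k)⁻¹ = F.e k ∧
    F.gl k * F.e (k + 1) * (F.gl k)⁻¹ = F.q (k + 2) * F.e (k + 1) ∧
    F.gl k * F.e (k + 2) * (F.gl k)⁻¹ = F.q (k + 1) * F.e (k + 2) * S.el (F.τ (k + 2)) 0 := by
  have H := S.hyp
  have hQ := F.glQ k
  have hgx : F.gl k * x = x * F.gl k := (S.comm_x_iff hQ).2 (by rw [F.glv]; rfl)
  refine ⟨by rw [H.extra.comm_z hQ, mul_inv_cancel_right], by rw [hgx, mul_inv_cancel_right], fun l => ?_,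
    fun l => ?_, ?_, by rw [F.ge, qe], ?_⟩
  · rw [K.conj (F.qQ l) hQ, F.qv, F.glv, B_inj, ((av_facts l).2.2.2 k).1.2.2]
    rcases eq_or_ne k l with h | h
    · simp [h]
    · simp [h, Ne.symm h]
  · have e := S.comm_R (F.rR l) hQ hgx
    rw [F.ru, F.glv, show (inj (gv k)).2 = gv k from rfl, ((av_facts l).2.2.2 k).1.2.2] at e
    have e2 : F.gl k * F.r l * (F.gl k)⁻¹ = (F.r l * F.gl k * (F.r l)⁻¹ * (F.gl k)⁻¹)⁻¹ * F.r l := by group
    rw [e2, e, inv_eq_of_mul_eq_one_right (S.el_sq _ _)]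
    rcases eq_or_ne k l with h | h
    · simp [h, Base.el, mul_assoc]
    · simp [h, Ne.symm h, Base.el]
  · obtain ⟨h1, h2, h3⟩ := span_inj (av_facts (k + 1)).1 (av_facts (k + 2)).1
      (((av_facts (k + 2)).2.2.2 (k + 1)).2 (fin3_facts k).2.2.1)
    have hb : ∀ a, a ≠ k → B (inj (gv k)) (inj (av a)) = 0 := fun a ha => by
      rw [B_inj, BW_comm, ((av_facts a).2.2.2 k).1.2.2, if_neg ha]
    rw [← S.root_comm_lift h1 ((qV_inj 0 _).trans (av_facts _).2.1) h2 h3 ((qV_inj 0 _).trans (av_facts _).2.1)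
      ((B_inj _ _).trans ((av_facts _).2.2.2 _).1.1) (F.eroot k) hQ
      (by rw [F.glv]; exact hb _ (fin3_facts k).1) (by rw [F.glv]; exact hb _ (fin3_facts k).2.1),
      mul_inv_cancel_right]
  · have h := F.ge' (k + 2)
    rw [(fin3_facts k).2.2.2.2.2.1, (fin3_facts k).2.2.2.2.2.2] at h
    rw [h, qe]

theorem conj_g (m : ℕ) : F.gl 0 * W F m * (F.gl 0)⁻¹ = W F (spanWord (g0Im (uN F)) m) ∧
    F.gl 1 * W F m * (F.gl 1)⁻¹ = W F (spanWord (g1Im (uN F)) m) ∧
    F.gl 2 * W F m * (F.gl 2)⁻¹ = W F (spanWord (g2Im (uN F)) m) := by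
  obtain ⟨-, p0, p1, p2⟩ := bits3_spec (F.τ 0) (F.τ 1) (F.τ 2)
  have hτ : ∀ k, S.el (F.τ k) 0 = if F.τ k = 0 then 1 else z := fun k => by simp [Base.el]
  obtain ⟨v4, v8, v16, v32, v64, v128, v256, v512, v1024⟩ := W_basis F
  obtain ⟨-, -, -, -, -, -, p5, p9, p17, p35, p67, p131, p528, p1028, p264, p1032, p272, p516⟩ := W_pair F
  have v1 := W_one F
  have v2 := (W_two_pow F).1
  have w0 := W_add F (n := 272) (by decide) (F.τ 0)
  have w1 := W_add F (n := 516) (by decide) (F.τ 1)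
  have w2 := W_add F (n := 1032) (by decide) (F.τ 2)
  rw [p272] at w0; rw [p516] at w1; rw [p1032] at w2
  simp only [W] at v1 v2 v4 v8 v16 v32 v64 v128 v256 v512 v1024 p5 p9 p17 p35 p67 p131 p528 p1028 p264 w0 w1 w2
  refine ⟨conj_span (elem F) ?_ m, conj_span (elem F) ?_ m, conj_span (elem F) ?_ m⟩
  · obtain ⟨a1, a2, a3, a4, a5, a6, a7⟩ := conj_gl F 0
    rw [show (0 : Fin 3) + 1 = 1 from rfl] at *
    rw [show (0 : Fin 3) + 2 = 2 from rfl] at *
    simp only [gens, g0Im, uN, bits3, List.map_cons, List.map_nil, List.cons.injEq, and_true, p2]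
    rw [show word [z, x, F.q 0, F.q 1, F.q 2, F.r 0, F.r 1, F.r 2, F.e 0, F.e 1, F.e 2] = word (gens F) from rfl]
    simp only [v1, v2, v4, v8, v16, v32, v64, v128, v256, v512, v1024, p5, p9, p17, p35, p67, p131, p528, p1028, p264,
      w0, w1, w2, a1, a2, a3, a4, a5, a6, a7, Fin.reduceEq, if_true, if_false, and_self]
  · obtain ⟨a1, a2, a3, a4, a5, a6, a7⟩ := conj_gl F 1
    rw [show (1 : Fin 3) + 1 = 2 from rfl] at *
    rw [show (1 : Fin 3) + 2 = 0 from rfl] at *
    simp only [gens, g1Im, uN, bits3, List.map_cons, List.map_nil, List.cons.injEq, and_true, p0]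
    rw [show word [z, x, F.q 0, F.q 1, F.q 2, F.r 0, F.r 1, F.r 2, F.e 0, F.e 1, F.e 2] = word (gens F) from rfl]
    simp only [v1, v2, v4, v8, v16, v32, v64, v128, v256, v512, v1024, p5, p9, p17, p35, p67, p131, p528, p1028, p264,
      w0, w1, w2, a1, a2, a3, a4, a5, a6, a7, Fin.reduceEq, if_true, if_false, and_self]
  · obtain ⟨a1, a2, a3, a4, a5, a6, a7⟩ := conj_gl F 2
    rw [show (2 : Fin 3) + 1 = 0 from rfl] at *
    rw [show (2 : Fin 3) + 2 = 1 from rfl] at *
    simp only [gens, g2Im, uN, bits3, List.map_cons, List.map_nil, List.cons.injEq, and_true, p1]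
    rw [show word [z, x, F.q 0, F.q 1, F.q 2, F.r 0, F.r 1, F.r 2, F.e 0, F.e 1, F.e 2] = word (gens F) from rfl]
    simp only [v1, v2, v4, v8, v16, v32, v64, v128, v256, v512, v1024, p5, p9, p17, p35, p67, p131, p528, p1028, p264,
      w0, w1, w2, a1, a2, a3, a4, a5, a6, a7, Fin.reduceEq, if_true, if_false, and_self]

theorem conj_cq (j m : ℕ) : cq F j * W F m * (cq F j)⁻¹ = W F (qMap (sN F) (uN F) j m) := by
  have h : ∀ (c : G) (g : List ℕ) (i n : ℕ), (∀ n, c * W F n * c⁻¹ = W F (spanWord g n)) →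
      (if j.testBit i then c else 1) * W F n * (if j.testBit i then c else 1)⁻¹ = W F (qStep g j i n) := by
    intro c g i n hc
    unfold qStep
    split_ifs
    · exact hc n
    · simp
  rw [qMap, ← h _ _ _ _ (conj_f F), ← h _ _ _ _ (fun n => (conj_g F n).1), ← h _ _ _ _ (fun n => (conj_g F n).2.1),
    ← h _ _ _ _ (fun n => (conj_g F n).2.2), cq]
  group

theorem cq_spec (j : ℕ) (hj : j < 16) : cq F j ∈ Q ∧ K.vec (cq F j) = dv j := by
  have hm : ∀ (i : ℕ) (c : G) (v : V), c ∈ Q → K.vec c = v →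
      (if j.testBit i then c else 1) ∈ Q ∧ K.vec (if j.testBit i then c else 1) = if j.testBit i then v else 0 := by
    intro i c v hc hv
    split_ifs
    exacts [⟨hc, hv⟩, ⟨one_mem Q, K.vec_one⟩]
  obtain ⟨a1, a2⟩ := hm 0 _ _ F.fQ F.fv
  obtain ⟨b1, b2⟩ := hm 1 _ _ (F.glQ 0) (F.glv 0)
  obtain ⟨c1, c2⟩ := hm 2 _ _ (F.glQ 1) (F.glv 1)
  obtain ⟨d1, d2⟩ := hm 3 _ _ (F.glQ 2) (F.glv 2)
  refine ⟨mul_mem (mul_mem (mul_mem a1 b1) c1) d1, ?_⟩
  rw [cq, K.mul (mul_mem (mul_mem a1 b1) c1) d1, K.mul (mul_mem a1 b1) c1, K.mul a1 b1, a2, b2, c2, d2]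
  exact dual_vec j hj

theorem W_low {m : ℕ} (hm : m < 32) : W F m ∈ Q ∧ K.vec (W F m) = uv (m >>> 1) := by
  have e : W F m = word [z, x, F.q 0, F.q 1, F.q 2] m := by
    rw [W, show gens F = [z, x, F.q 0, F.q 1, F.q 2] ++ [F.r 0, F.r 1, F.r 2, F.e 0, F.e 1, F.e 2] from rfl,
      word_append, show m >>> [z, x, F.q 0, F.q 1, F.q 2].length = 0 from Nat.shiftRight_eq_zero m 5 hm,
      word_zero, mul_one]
  have hQ : ∀ a ∈ [z, x, F.q 0, F.q 1, F.q 2], a ∈ Q := by
    intro a ha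
    simp only [List.mem_cons, List.not_mem_nil, or_false] at ha
    rcases ha with rfl | rfl | rfl | rfl | rfl
    exacts [S.hyp.extra.z_mem, S.hx, F.qQ 0, F.qQ 1, F.qQ 2]
  refine ⟨e ▸ word_mem hQ m, ?_⟩
  rw [e, word_hom K.vec K.vec_one (fun a ha b hb => K.mul ha hb) hQ, ← low_vec m hm]
  simp [F.qv, S.hxv, K.vec_z S.hyp]

theorem W_eq_of_top {a b : ℕ} (ha : a < 2048) (hb : b < 2048) (h : a >>> 5 = b >>> 5) (he : W F a = W F b) :
    a = b := by
  have hd : a ^^^ b < 32 := by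
    have h0 : (a ^^^ b) >>> 5 = 0 := by rw [Nat.shiftRight_xor_distrib, h, Nat.xor_self]
    rw [Nat.shiftRight_eq_div_pow] at h0
    omega
  have h1 : W F (a ^^^ b) = 1 := by rw [W_xor, he, W_sq]
  have h2 := (W_low F hd).2
  rw [h1, K.vec_one] at h2
  have h3 : (a ^^^ b) >>> 1 = 0 := uv_zero _ (by rw [Nat.shiftRight_eq_div_pow]; omega) h2.symm
  have h4 : a ^^^ b = 0 ∨ a ^^^ b = 1 := by
    rw [Nat.shiftRight_eq_div_pow] at h3
    omega
  rcases h4 with h4 | h4
  · exact Nat.xor_eq_zero_iff.1 h4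
  · rw [h4, W_one] at h1
    exact absurd h1 S.hyp.extra.ne_one

theorem W_act (m : ℕ) : K.act (W F m) = actL baseMaps m := by
  have key : ∀ (l : List G), (∀ a ∈ l, a * z = z * a) → ∀ m, K.act (word l m) = actL (l.map K.act) m := by
    intro l
    induction l with
    | nil => intro _ m; funext v; exact K.act_one S.hyp v
    | cons a l ih =>
      intro h m
      have hl : ∀ b ∈ l, b * z = z * b := fun b hb => h b (List.mem_cons_of_mem _ hb)
      have hw : word l (m >>> 1) * z = z * word l (m >>> 1) :=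
        ((word_commute (fun b hb => (hl b hb).symm) _).eq).symm
      funext v
      simp only [word, List.map_cons, actL]
      split_ifs
      · rw [K.act_mul S.hyp (h a List.mem_cons_self) hw, ih hl]
      · rw [one_mul, ih hl]
  rw [W, key _ (fun a ha => (gen_zx F ha).1)]
  congr 1
  have hmem : ∀ {a : G}, a ∈ Q → K.act a = id := fun ha => funext fun v => K.act_mem S.hyp ha v
  simp [gens, baseMaps, hmem S.hyp.extra.z_mem, hmem S.hx, hmem (F.qQ _), S.act_R (F.rR _), F.ru, (F.eroot _).2.1,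
    show (0 : Fin 3) + 1 = 1 from rfl, show (0 : Fin 3) + 2 = 2 from rfl, show (1 : Fin 3) + 1 = 2 from rfl,
    show (1 : Fin 3) + 2 = 0 from rfl, show (2 : Fin 3) + 1 = 0 from rfl, show (2 : Fin 3) + 2 = 1 from rfl]

theorem actL_top (m : ℕ) (v : V) : actL baseMaps m v = actL (baseMaps.drop 5) (m >>> 5) v := by
  simp [baseMaps, actL, ← Nat.shiftRight_add]

theorem W_line_act {l : ℕ × ℕ} (hl : l ∈ lines) {m : ℕ} (hm : m >>> 5 = fib l) :
    K.act (W F m) = rootV (uv l.1) (uv l.2) := by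
  funext v
  rw [W_act, actL_top, hm, ← line_act l hl v, actL_top (fib l * 32)]
  congr 1
  rw [Nat.shiftRight_eq_div_pow]
  omega

/-- A mask over a line gives a root element exactly if it is fixed by the orthogonal combinations. -/
theorem root_char {l : ℕ × ℕ} (hl : l ∈ lines) {m : ℕ} (hm : m < 2048) (hh : m >>> 5 = fib l) :
    K.Root (uv l.1) (uv l.2) (W F m) ↔ fixT (sN F) (uN F) l m = true := by
  obtain ⟨⟨h1, h2, h3, h4, h5, h6⟩, -, -, k1, k2⟩ := line_data l hl
  unfold fixT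
  rw [List.all_eq_true]
  constructor
  · intro h j hj
    rw [List.mem_range] at hj
    rcases hb : (ort l.1 j && ort l.2 j) with _ | _
    · simp
    rw [Bool.and_eq_true, ort_iff _ k1 _ hj, ort_iff _ k2 _ hj] at hb
    obtain ⟨c1, c2⟩ := cq_spec F j hj
    have hc := S.root_comm_lift h1 h2 h3 h4 h5 h6 h c1 (by rw [c2, B_comm]; exact hb.1) (by rw [c2, B_comm]; exact hb.2)
    obtain ⟨t1, t2⟩ := qMap_top (sN F) (uN F) j hm
    have := W_eq_of_top F t1 hm t2 (by rw [← conj_cq, ← hc, mul_inv_cancel_right])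
    simp [this]
  · intro h
    refine S.root_of_comm h1 h2 h3 h4 h5 h6 (W_z F m) (W_line_act F hl hh) fun q hq e1 e2 => ?_
    obtain ⟨i, hi, j, hj, hv⟩ := uv_dual (K.vec q)
    have hi2 : 2 * i < 32 := by omega
    obtain ⟨w1, w2⟩ := W_low F hi2
    rw [show (2 * i) >>> 1 = i by rw [Nat.shiftRight_eq_div_pow]; omega] at w2
    obtain ⟨c1, c2⟩ := cq_spec F j hj
    rw [hv, B_add_left, uv_perp i hi _ k1, zero_add, B_comm] at e1
    rw [hv, B_add_left, uv_perp i hi _ k2, zero_add, B_comm] at e2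
    have hj' := h j (List.mem_range.2 hj)
    rw [(ort_iff _ k1 _ hj).2 e1, (ort_iff _ k2 _ hj).2 e2] at hj'
    simp only [Bool.and_true, Bool.not_true, Bool.false_or] at hj'
    have hfix : qMap (sN F) (uN F) j m = m := Nat.eq_of_beq_eq_true hj'
    have hc : W F m * cq F j = cq F j * W F m := by
      have := conj_cq F j m
      rw [hfix] at this
      exact (mul_inv_eq_iff_eq_mul.1 this).symm
    have hprod : W F m * (W F (2 * i) * cq F j) = W F (2 * i) * cq F j * W F m :=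
      (Commute.mul_right (W_comm F m _) hc).eq
    rcases K.eq_or S.hyp hq (mul_mem w1 c1) (by rw [K.mul w1 c1, w2, c2, hv]) with e | e <;> rw [e]
    · exact hprod
    · exact (Commute.mul_right (W_z F m) hprod).eq

theorem conj_of_low {m : ℕ} (hm : m < 32) (h2 : 2 ≤ m) : IsConj z (W F m) := by
  obtain ⟨h, hh⟩ := K.conj_of_mem S.hyp (W_low F hm).1 (W_sq F m) fun e => by
    have := W_eq_of_top F (a := m) (b := 0) (by omega) (by norm_num)
      (by rw [Nat.shiftRight_eq_zero m 5 hm, Nat.zero_shiftRight]) (e.trans (word_zero _).symm)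
    omega
  exact isConj_iff.2 ⟨h, hh⟩

theorem root_of_conj {l : ℕ × ℕ} (hl : l ∈ lines) {m : ℕ} (hh : m >>> 5 = fib l) (h : IsConj z (W F m)) :
    K.Root (uv l.1) (uv l.2) (W F m) := ⟨W_z F m, W_line_act F hl hh, W_sq F m, h⟩

theorem dLine_some {h : ℕ} {l : ℕ × ℕ} (e : dLine h = some l) : l ∈ lines ∧ h = fib l :=
  ⟨List.mem_of_find?_eq_some e, (Nat.eq_of_beq_eq_true (by simpa using List.find?_some e)).symm⟩

theorem W_disp {d : ℕ} (hd : d < 2048) (h : Nat.land d 1820 = 0) :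
    S.ur (W F d) = (uv (2 * Nat.land (Nat.shiftRight d 5) 7)).2 := by
  obtain ⟨a, ha, k, hk, rfl, hk7⟩ := disp_shape d hd h
  rw [hk7]
  have ea : ∃ i j, W F a = S.el i j := by
    interval_cases a
    · exact ⟨0, 0, by rw [S.el_zero]; exact word_zero _⟩
    · exact ⟨1, 0, by rw [W_one]; simp [Base.el]⟩
    · exact ⟨0, 1, by rw [(W_two_pow F).1]; simp [Base.el]⟩
    · exact ⟨1, 1, by rw [(W_two_pow F).2]; simp [Base.el]⟩
  obtain ⟨i, j, ea⟩ := ea
  have ek : W F (32 * k) = word [F.r 0, F.r 1, F.r 2] k := by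
    rw [W, show gens F = [z, x, F.q 0, F.q 1, F.q 2] ++ ([F.r 0, F.r 1, F.r 2] ++ [F.e 0, F.e 1, F.e 2]) from rfl,
      word_append, word_append, show (32 * k) >>> [z, x, F.q 0, F.q 1, F.q 2].length = k by
        simp [Nat.shiftRight_eq_div_pow],
      show k >>> [F.r 0, F.r 1, F.r 2].length = 0 from Nat.shiftRight_eq_zero k 3 hk, word_zero, mul_one]
    suffices h : word [z, x, F.q 0, F.q 1, F.q 2] (32 * k) = 1 by rw [h, one_mul]
    interval_cases k <;> simp [word, Nat.testBit, Nat.shiftRight_eq_div_pow]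
  have hR : ∀ b ∈ [F.r 0, F.r 1, F.r 2], b ∈ S.R := by
    intro b hb
    simp only [List.mem_cons, List.not_mem_nil, or_false] at hb
    rcases hb with rfl | rfl | rfl <;> exact F.rR _
  rw [W_xor, ea, ek, S.ur_mul (S.el_R i j) (word_mem hR k), (S.ur_zero (S.el_R i j)).2 (S.el_mem i j), zero_add,
    word_hom S.ur ((S.ur_zero (one_mem _)).2 (one_mem _)) (fun a ha b hb => S.ur_mul ha hb) hR, ← plane_vec k hk]
  simp [F.ru]

theorem params : F.ε = 1 ∧ F.τ = (fun _ => 1) ∧ F.σ = (fun _ => 0) := by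
  obtain ⟨hu8, -, -, -⟩ := bits3_spec (F.τ 0) (F.τ 1) (F.τ 2)
  obtain ⟨hs8, -, -, -⟩ := bits3_spec (F.σ 0) (F.σ 1) (F.σ 2)
  have hε2 : F.ε.val < 2 := ZMod.val_lt _
  have h1 : F.ε.val = 1 ∧ uN F = 7 := by
    refine (param_elim _ hε2 (uN F) hu8).resolve_right fun hb => ?_
    simp only [badLine, List.any_eq_true, List.all_eq_true, Bool.and_eq_true, List.mem_range] at hb
    obtain ⟨l, hl, ⟨he1, he2⟩, a, ha, ⟨hfix, hland⟩, hx⟩ := hb
    set m := fib l * 32 + a with hm
    obtain ⟨e1, e2, e3, e4, e5, e6, e7, e8, e9⟩ := even_line l hl (Nat.eq_of_beq_eq_true he1) (Nat.eq_of_beq_eq_true he2)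
    obtain ⟨-, -, hf, -, -⟩ := line_data l hl
    have hm2 : m < 2048 := by omega
    have hroot := (root_char F hl hm2 (by rw [Nat.shiftRight_eq_div_pow]; omega)).2 (hfix _ hs8)
    rw [e1, e2] at hroot
    obtain ⟨n, hn, i, j, hu⟩ := F.line _ _ e3 e4 e5 e6 e7 e8 _ hroot
    set T := spanWord (tIm F.ε.val) m with hT
    have hT2 : T < 2048 := spanWord_lt _ (tIm_lt _ hε2) m
    have hW : F.t * W F m * F.t * W F m = W F (T ^^^ m) := by
      rw [W_xor, hT, ← conj_t, F.flip.inv]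
    rw [hW, W_disp F (Nat.xor_lt_two_pow (n := 11) hT2 hm2) (Nat.eq_of_beq_eq_true hland)] at hu
    set r := Nat.land (Nat.shiftRight (T ^^^ m) 5) 7 with hr
    have hr8 : r < 8 := Nat.lt_succ_of_le Nat.and_le_right
    rw [show dispW F.ε.val m = 2 * r from rfl] at hx
    rcases zcases F.ε with h | h <;> rw [h] at hu hx
    · have : inSpan l (2 * r) = true := (e9 r hr8).2 ⟨i, j, by rw [hu, zero_smul, add_zero]⟩
      simp [this] at hx
    · cases hs : inSpan l (2 * r)
      · rw [hs] at hx; simp [ZMod.val_one] at hx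
      · obtain ⟨i', j', hij⟩ := (e9 r hr8).1 hs
        rw [hij, one_smul] at hu
        refine hn (i + i') (j + j') ?_
        rw [add_smul, add_smul]
        calc n = i • (uv l.1).2 + j • (uv l.2).2 + (i • (uv l.1).2 + j • (uv l.2).2 + n) := by
              rw [← add_assoc (i • (uv l.1).2 + j • (uv l.2).2), addW, zero_add]
          _ = _ := by rw [← hu]; abel
  have hε : F.ε = 1 := by rcases zcases F.ε with h | h <;> simp [h] at h1 ⊢
  have h0 : sN F = 0 := by
    refine (sig_elim (sN F) hs8).resolve_right ?_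
    rintro ⟨hseed, l, hl, hend, hfix⟩
    set m := (sigCert (sN F)).1 with hm
    have hm2 : m < 2048 := by
      rw [hm]; unfold sigCert; split <;> norm_num
    have hop : ∀ i n, n < 2048 → IsConj z (W F n) → spanWord (opIm (sN F) 7 i) n < 2048 ∧
        IsConj z (W F (spanWord (opIm (sN F) 7 i) n)) := by
      intro i n hn hc
      have hT : ∀ d ∈ tIm 1, d < 2 ^ 11 := by decide +kernel
      obtain ⟨-, -, -, -, f5, -, -, -⟩ := top_maps _ (pbit_lt (sN F) 0) _ (pbit_lt (sN F) 1) _ (pbit_lt (sN F) 2)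
      obtain ⟨-, -, -, -, -, g5, -, -⟩ := top_maps _ (pbit_lt 7 2) 0 (by norm_num) 0 (by norm_num)
      obtain ⟨-, -, -, -, -, -, i5, -⟩ := top_maps _ (pbit_lt 7 0) 0 (by norm_num) 0 (by norm_num)
      obtain ⟨-, -, -, -, -, -, -, k5⟩ := top_maps _ (pbit_lt 7 1) 0 (by norm_num) 0 (by norm_num)
      have hc' : ∀ c : G, IsConj z (c * W F n * c⁻¹) := fun c => hc.trans (isConj_iff.2 ⟨c, rfl⟩)
      match i with
      | 0 => exact ⟨spanWord_lt _ hT n, by have := hc' F.t; rwa [conj_t, h1.1] at this⟩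
      | 1 => exact ⟨spanWord_lt _ f5 n, by have := hc' F.f; rwa [conj_f] at this⟩
      | 2 => exact ⟨spanWord_lt _ g5 n, by have := hc' (F.gl 0); rwa [(conj_g F n).1, h1.2] at this⟩
      | 3 => exact ⟨spanWord_lt _ i5 n, by have := hc' (F.gl 1); rwa [(conj_g F n).2.1, h1.2] at this⟩
      | _ + 4 => exact ⟨spanWord_lt _ k5 n, by have := hc' (F.gl 2); rwa [(conj_g F n).2.2, h1.2] at this⟩
    have hrun : ∀ ops n, n < 2048 → IsConj z (W F n) →
        runOps (sN F) 7 ops n < 2048 ∧ IsConj z (W F (runOps (sN F) 7 ops n)) := by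
      intro ops
      induction ops with
      | nil => exact fun n a b => ⟨a, b⟩
      | cons i ops ih => exact fun n a b => ih _ (hop i n a b).1 (hop i n a b).2
    have hstart : IsConj z (W F m) := by
      unfold seed at hseed
      split_ifs at hseed with hlt
      · exact conj_of_low F hlt (by simpa using hseed)
      · split at hseed
        · next l' hl' =>
          obtain ⟨hmem, hf⟩ := dLine_some hl'
          exact ((root_char F hmem hm2 hf).2 (by rw [h1.2]; exact hseed)).2.2.2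
        · simp at hseed
    obtain ⟨r1, r2⟩ := hrun (sigCert (sN F)).2 m hm2 hstart
    have := (root_char F hl r1 hend).1 (root_of_conj F hl hend r2)
    rw [h1.2, hfix] at this
    simp at this
  refine ⟨hε, funext fun k => ?_, funext fun k => ?_⟩
  · have h2 := h1.2
    unfold uN bits3 at h2
    rcases zcases (F.τ 0) with a | a <;> rcases zcases (F.τ 1) with b | b <;> rcases zcases (F.τ 2) with c | c <;>
      simp [a, b, c, ZMod.val_one] at h2
    fin_cases k <;> assumption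
  · unfold sN bits3 at h0
    rcases zcases (F.σ 0) with a | a <;> rcases zcases (F.σ 1) with b | b <;> rcases zcases (F.σ 2) with c | c <;>
      simp [a, b, c, ZMod.val_one] at h0
    fin_cases k <;> assumption

theorem conj_TI (m : ℕ) : F.t * W F m * F.t⁻¹ = W F (spanWord TI m) := by
  rw [conj_t, (params F).1, ZMod.val_one, TI]

theorem conj_cq' (j m : ℕ) : cq F j * W F m * (cq F j)⁻¹ = W F (qMap 0 7 j m) := by
  obtain ⟨-, h2, h3⟩ := params F
  rw [conj_cq, sN, uN, h2, h3]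
  rfl

theorem W_injective {a b : ℕ} (ha : a < 2048) (hb : b < 2048) (h : W F a = W F b) : a = b := by
  have h1 : W F (a ^^^ b) = 1 := by rw [W_xor, h, W_sq]
  suffices ∀ m < 2048, W F m = 1 → m = 0 from Nat.xor_eq_zero_iff.1 (this _ (Nat.xor_lt_two_pow (n := 11) ha hb) h1)
  have low : ∀ m < 32, W F m = 1 → m = 0 := fun m hm he =>
    W_eq_of_top F (by omega) (by norm_num) (by rw [Nat.shiftRight_eq_zero m 5 hm, Nat.zero_shiftRight])
      (he.trans (word_zero _).symm)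
  intro m hm he
  by_contra h0
  by_cases h32 : m < 32
  · exact h0 (low m h32 he)
  have hl := List.all_eq_true.mp levels m (List.mem_range.mpr hm)
  simp only [List.any_eq_true, Bool.or_eq_true, Bool.and_eq_true, decide_eq_true_eq, List.mem_range] at hl
  rcases hl with hl | ⟨i, -, hl⟩
  · omega
  rcases hl with ⟨hl, -⟩ | ⟨⟨-, hd2⟩, hd⟩
  · omega
  have e : W F (Nat.xor (qMap 0 7 (2 ^ i) m) m) = 1 := by
    rw [show Nat.xor (qMap 0 7 (2 ^ i) m) m = qMap 0 7 (2 ^ i) m ^^^ m from rfl, W_xor, ← conj_cq', he]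
    simp
  have := low _ hd e
  omega

/-- The conjugates of the central involution among the masks. -/
theorem conj_char {m : ℕ} (hm : m < 2048) : IsConj z (W F m) ↔ inO m = true := by
  rw [← isO_eq hm]
  obtain ⟨-, hτ, hσ⟩ := params F
  have hs : sN F = 0 := by rw [sN, hσ]; rfl
  have hu : uN F = 7 := by rw [uN, hτ]; rfl
  have hdec : ∀ {n : ℕ} {l : ℕ × ℕ}, n < 2048 → dLine (n >>> 5) = some l →
      (IsConj z (W F n) ↔ fixT 0 7 l n = true) := by
    intro n l hn hl
    obtain ⟨hmem, hf⟩ := dLine_some hl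
    rw [← hs, ← hu, ← root_char F hmem hn hf]
    exact ⟨root_of_conj F hmem hf, fun h => h.2.2.2⟩
  unfold isO
  split_ifs with hlt
  · rw [decide_eq_true_eq]
    constructor
    · rintro h rfl
      rw [show W F 0 = 1 from word_zero _] at h
      exact S.hyp.extra.ne_one (isConj_one_left.1 h)
    · intro h
      by_cases h1 : m = 1
      · rw [h1, W_one]
      · exact conj_of_low F hlt (by omega)
  · split
    · next l hl => exact hdec hm hl
    · next hnone =>
      have hc := List.all_eq_true.mp classify m (List.mem_range.mpr hm)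
      simp only [hnone, Option.isSome_none, Bool.or_false, Bool.or_eq_true, decide_eq_true_eq, hlt, false_or] at hc
      split
      · next j hj =>
        have hsome := List.find?_some hj
        obtain ⟨l, hl⟩ := Option.isSome_iff_exists.1 hsome
        rw [hl]
        have e : F.t * (cq F j * W F m * (cq F j)⁻¹) * F.t⁻¹ = W F (spanWord TI (qMap 0 7 j m)) := by
          rw [conj_cq', conj_TI]
        have hlt2 : spanWord TI (qMap 0 7 j m) < 2048 := spanWord_lt _ (by decide +kernel) _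
        show _ ↔ fixT 0 7 l _ = true
        rw [← hdec hlt2 hl, ← e]
        exact ⟨fun h => h.trans (isConj_iff.2 ⟨F.t * cq F j, by group⟩),
          fun h => h.trans (isConj_iff.2 ⟨F.t * cq F j, by group⟩).symm⟩
      · next hj =>
        exfalso
        rw [List.find?_eq_none] at hj
        simp only [List.any_eq_true] at hc
        obtain ⟨j, hj1, hj2⟩ := hc
        exact hj j hj1 hj2

end basic

end CfsgLib.CoOneGolay
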