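import Mathlib
import Cfsg.Agent.Lib.CoOneGolay.Coords

/-!
The elementary abelian subgroup of order `2 ^ 11`: it is self-centralizing and normalized by every element of
`C(z)` that stabilizes the singular four-space.
-/

set_option autoImplicit false
set_option linter.style.longLine false
set_option maxHeartbeats 1000000
set_option maxRecDepth 100000
set_option synthInstance.maxSize 8000
set_option synthInstance.maxHeartbeats 1000000

namespace CfsgLib.CoOneGolay

open Subgroup CfsgLib.CoOneType CfsgLib.Golay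

/-- The standard basis of masks. -/
def basisN : List ℕ := [1, 2, 4, 8, 16, 32, 64, 128, 256, 512, 1024]

theorem span_basisN : ((List.range 2048).all fun m => Nat.beq (spanWord basisN m) m) = true := by decide +kernel

theorem basis_root : ∀ b ∈ [32, 64, 128, 256, 512, 1024], ∃ l ∈ lines, b >>> 5 = fib l ∧ fixT 0 7 l b = true := by
  decide +kernel

theorem line_root_mask : ∀ l ∈ lines, ∃ a < 32, fixT 0 7 l (fib l * 32 + a) = true := by decide +kernel

theorem uv_xor : ∀ a < 16, ∀ b < 16, uv (a ^^^ b) = uv a + uv b := by decide +kernel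

theorem dv_single : ∀ j < 16, dv j = (if j.testBit 0 then dv 1 else 0) + (if j.testBit 1 then dv 2 else 0) +
    (if j.testBit 2 then dv 4 else 0) + (if j.testBit 3 then dv 8 else 0) := by decide +kernel

theorem dv_data : ∀ j < 16, qV 0 (dv j) = 0 ∧ (dv j = 0 → j = 0) ∧ ∀ i < 16, (uv i = dv j → i = 0 ∧ j = 0) := by
  decide +kernel

theorem uv_q : ∀ i < 16, qV 0 (uv i) = 0 := by decide +kernel

theorem dv_uv : ∀ k < 4, ∀ s < 16, B (dv (2 ^ k)) (uv s) = zb s k := by decide +kernel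

theorem comb_zero : ∀ n < 4, ∀ b < 16, b >>> n = 0 → ∑ k : Fin 4,
    (if (k : ℕ) = n then (1 : ZMod 2) else if (k : ℕ) < n then zb b k else 0) •
      (if (k : ℕ) = n then uv b else uv (2 ^ (k : ℕ))) = 0 := by decide +kernel

theorem ort_zero : ∀ u < 16, ort u 0 = true := by decide +kernel

/-- The six ways of naming a line. -/
def names (l : ℕ × ℕ) : List (ℕ × ℕ) :=
  [(l.1, l.2), (l.2, l.1), (l.1, l.1 ^^^ l.2), (l.1 ^^^ l.2, l.1), (l.2, l.1 ^^^ l.2), (l.1 ^^^ l.2, l.2)]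

theorem pair_line : ∀ i < 16, ∀ j < 16, i ≠ 0 → j ≠ 0 → i ≠ j → ∃ l ∈ lines, (i, j) ∈ names l := by decide +kernel

/-- A transvection of the four-space. -/
def tv (i j u : ℕ) : ℕ := if ort u j then u else u ^^^ i

theorem step : ∀ k < 4, ∀ a < 16, a >>> k ≠ 0 → ∃ i < 16, ∃ j < 16, ort i j = true ∧ ∃ i' < 16, ∃ j' < 16,
    ort i' j' = true ∧ tv i' j' (tv i j a) = 2 ^ k ∧ ∀ l < k, tv i' j' (tv i j (2 ^ l)) = 2 ^ l := by
  decide +kernel

theorem ext_dual {f f' : V → V} (hf : ∀ a b, f (a + b) = f a + f b) (hf' : ∀ a b, f' (a + b) = f' a + f' b)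
    (hu : ∀ i < 16, f (uv i) = f' (uv i)) (hd : ∀ k < 4, f (dv (2 ^ k)) = f' (dv (2 ^ k))) : f = f' := by
  have h0 : f 0 = f' 0 := by
    have a := hu 0 (by norm_num)
    rwa [show uv 0 = 0 by decide +kernel] at a
  funext v
  obtain ⟨i, hi, j, hj, rfl⟩ := uv_dual v
  rw [hf, hf', hu i hi]
  congr 1
  have d0 := hd 0 (by norm_num)
  have d1 := hd 1 (by norm_num)
  have d2 := hd 2 (by norm_num)
  have d3 := hd 3 (by norm_num)
  norm_num at d0 d1 d2 d3
  rw [dv_single j hj]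
  simp only [hf, hf']
  split_ifs <;> simp only [d0, d1, d2, d3, h0]

theorem alt_shape : ∀ s : Fin 6 → ZMod 2, ∃ h < 64, ∀ k < 4, actL baseMaps (h * 32) (dv (2 ^ k)) = dv (2 ^ k) +
    [((((0 : ZMod 2), 0), ((s 0, 0), ((s 1, 0), (s 2, 0)))) : V), (((s 0, 0), ((0, 0), ((s 5, 0), (s 4, 0)))) : V),
      (((s 1, 0), ((s 5, 0), ((0, 0), (s 3, 0)))) : V), (((s 2, 0), ((s 4, 0), ((s 3, 0), (0, 0)))) : V)].getD k 0 := by
  decide +kernel

theorem mem_U : ∀ v : V, (∀ i < 16, B v (uv i) = 0) → ∃ i < 16, v = uv i := by decide +kernel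

variable {G : Type*} [Group G] [Finite G] {z : G} {Q : Subgroup G} {K : Coord z Q 0} {x g : G} {S : Base K x g}

/-- Elements of `C(z)` stabilizing the four-space. -/
def SU (K : Coord z Q 0) (c : G) : Prop := c * z = z * c ∧ ∀ i < 16, ∃ i' < 16, K.act c (uv i) = uv i'

theorem su_mul (H : Hyp z Q) {c d : G} (hc : SU K c) (hd : SU K d) : SU K (c * d) :=
  ⟨(Commute.mul_left hc.1 hd.1).eq, fun i hi => by
    obtain ⟨i', hi', e⟩ := hd.2 i hi
    obtain ⟨i'', hi'', e'⟩ := hc.2 i' hi'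
    exact ⟨i'', hi'', by rw [K.act_mul H hc.1 hd.1, e, e']⟩⟩

theorem su_one (H : Hyp z Q) : SU K (1 : G) := ⟨by simp, fun i hi => ⟨i, hi, K.act_one H _⟩⟩

section basic

variable (F : Frame S)

theorem sN_eq : sN F = 0 := by rw [sN, (params F).2.2]; rfl

theorem uN_eq : uN F = 7 := by rw [uN, (params F).2.1]; rfl

/-- The subgroup. -/
def A : Subgroup G where
  carrier := {a | ∃ m, m < 2048 ∧ a = W F m}
  one_mem' := ⟨0, by norm_num, (word_zero _).symm⟩
  mul_mem' := by
    rintro _ _ ⟨a, ha, rfl⟩ ⟨b, hb, rfl⟩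
    exact ⟨a ^^^ b, Nat.xor_lt_two_pow (n := 11) ha hb, (W_xor F a b).symm⟩
  inv_mem' := by
    rintro _ ⟨a, ha, rfl⟩
    exact ⟨a, ha, inv_eq_of_mul_eq_one_right (W_sq F a)⟩

theorem mem_A {a : G} : a ∈ A F ↔ ∃ m, m < 2048 ∧ a = W F m := Iff.rfl

theorem W_mem {m : ℕ} (hm : m < 2048) : W F m ∈ A F := ⟨m, hm, rfl⟩

/-- Masks as elements. -/
noncomputable def toA : Fin 2048 ≃ A F :=
  Equiv.ofBijective (fun m => ⟨W F m.1, W_mem F m.2⟩)
    ⟨fun a b h => Fin.ext (W_injective F a.2 b.2 (congrArg Subtype.val h)),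
      fun ⟨a, m, hm, e⟩ => ⟨⟨m, hm⟩, Subtype.ext e.symm⟩⟩

theorem toA_apply (m : Fin 2048) : (toA F m : G) = W F m.1 := rfl

theorem card_A : Nat.card (A F) = 2 ^ 11 := by
  rw [← Nat.card_congr (toA F), Nat.card_fin]; norm_num

theorem A_comm {a b : G} (ha : a ∈ A F) (hb : b ∈ A F) : a * b = b * a := by
  obtain ⟨m, -, rfl⟩ := ha
  obtain ⟨n, -, rfl⟩ := hb
  exact W_comm F m n

theorem z_mem : z ∈ A F := ⟨1, by norm_num, (W_one F).symm⟩

theorem A_z {a : G} (ha : a ∈ A F) : a * z = z * a := A_comm F ha (z_mem F)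

theorem lift_mem {q : G} (hq : q ∈ Q) {i : ℕ} (hi : i < 16) (hv : K.vec q = uv i) : q ∈ A F := by
  obtain ⟨h1, h2⟩ := W_low F (m := 2 * i) (by omega)
  rw [show (2 * i) >>> 1 = i by rw [Nat.shiftRight_eq_div_pow]; omega, ← hv] at h2
  rcases K.eq_or S.hyp hq h1 h2.symm with e | e <;> rw [e]
  exacts [W_mem F (by omega), mul_mem (z_mem F) (W_mem F (by omega))]

theorem names_root {l : ℕ × ℕ} (hl : l.1 < 16) (hl' : l.2 < 16) {i j : ℕ} (h : (i, j) ∈ names l) :
    rootV (uv i) (uv j) = rootV (uv l.1) (uv l.2) := by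
  simp only [names, List.mem_cons, Prod.mk.injEq, List.not_mem_nil, or_false] at h
  have hs := uv_xor _ hl _ hl'
  rcases h with ⟨rfl, rfl⟩ | ⟨rfl, rfl⟩ | ⟨rfl, rfl⟩ | ⟨rfl, rfl⟩ | ⟨rfl, rfl⟩ | ⟨rfl, rfl⟩
  · rfl
  · exact rootV_swap _ _
  · rw [hs, add_comm, rootV_shift]
  · rw [rootV_swap, hs, add_comm, rootV_shift]
  · rw [hs, rootV_shift, rootV_swap]
  · rw [rootV_swap, hs, rootV_shift, rootV_swap]

/-- Every root element over a line of the four-space lies in the subgroup. -/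
theorem root_mem {i j : ℕ} (hi : i < 16) (hj : j < 16) (hi0 : i ≠ 0) (hj0 : j ≠ 0) (hne : i ≠ j) {a : G}
    (h : K.Root (uv i) (uv j) a) : a ∈ A F := by
  obtain ⟨l, hl, hn⟩ := pair_line i hi j hj hi0 hj0 hne
  obtain ⟨⟨h1, h2, h3, h4, h5, h6⟩, -, hf, k1, k2⟩ := line_data l hl
  have h' := h.congr K (names_root k1 k2 hn)
  obtain ⟨c, hc, hfix⟩ := line_root_mask l hl
  have hm : fib l * 32 + c < 2048 := by omega
  rw [← sN_eq F, ← uN_eq F, ← root_char F hl hm (by rw [Nat.shiftRight_eq_div_pow]; omega)] at hfix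
  obtain ⟨q, hq, ⟨α, β, hv⟩, rfl⟩ := S.root_diff h1 h2 h3 h4 h5 h6 hfix h'
  refine mul_mem (W_mem F hm) ?_
  rcases zcases α with rfl | rfl <;> rcases zcases β with rfl | rfl <;>
    simp only [zero_smul, one_smul, add_zero, zero_add] at hv
  · exact lift_mem F hq (i := 0) (by norm_num) (by rw [hv]; decide +kernel)
  · exact lift_mem F hq k2 hv
  · exact lift_mem F hq k1 hv
  · exact lift_mem F hq (i := l.1 ^^^ l.2) (Nat.xor_lt_two_pow (n := 4) k1 k2) (by rw [hv, uv_xor _ k1 _ k2])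

theorem su_conj {c : G} (hc : SU K c) {a : G} (ha : a ∈ A F) : c * a * c⁻¹ ∈ A F := by
  have H := S.hyp
  have key : ∀ b ∈ basisN, c * W F b * c⁻¹ ∈ A F := by
    intro b hb
    rcases lt_or_ge b 32 with h | h
    · obtain ⟨w1, w2⟩ := W_low F h
      obtain ⟨i', hi', e⟩ := hc.2 (b >>> 1) (by rw [Nat.shiftRight_eq_div_pow]; omega)
      exact lift_mem F (H.norm c hc.1 _ w1) hi' (by rw [← K.act_vec H hc.1 w1, w2, e])
    · have hb' : b ∈ [32, 64, 128, 256, 512, 1024] := by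
        simp [basisN] at hb ⊢
        omega
      obtain ⟨l, hl, hh, hfix⟩ := basis_root b hb'
      have hb2 : b < 2048 := by
        simp at hb'
        omega
      rw [← sN_eq F, ← uN_eq F, ← root_char F hl hb2 hh] at hfix
      have hroot := hfix.conj K H hc.1
      obtain ⟨⟨h1, -, h3, h4, -, -⟩, -, -, k1, k2⟩ := line_data l hl
      obtain ⟨i, hi, ei⟩ := hc.2 _ k1
      obtain ⟨j, hj, ej⟩ := hc.2 _ k2
      rw [ei, ej] at hroot
      have hz0 : K.act c 0 = 0 := K.act_zero H hc.1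
      refine root_mem F hi hj ?_ ?_ ?_ hroot
      · rintro rfl; exact h1 (K.act_injective H hc.1 (by rw [ei, hz0]; decide +kernel))
      · rintro rfl; exact h3 (K.act_injective H hc.1 (by rw [ej, hz0]; decide +kernel))
      · rintro rfl; exact h4 (K.act_injective H hc.1 (by rw [ei, ej]))
  obtain ⟨m, hm, rfl⟩ := ha
  have hspan := List.all_eq_true.mp span_basisN m (List.mem_range.mpr hm)
  rw [← Nat.eq_of_beq_eq_true hspan]
  refine spanWord_induction (P := fun n => c * W F n * c⁻¹ ∈ A F) basisN ?_ ?_ key m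
  · simp [W, word_zero]
  · intro a b ha hb
    rw [W_xor, show c * (W F a * W F b) * c⁻¹ = c * W F a * c⁻¹ * (c * W F b * c⁻¹) by group]
    exact mul_mem ha hb

theorem su_normalizer {c : G} (hc : SU K c) : c ∈ normalizer (A F : Set G) :=
  Subgroup.mem_normalizer_fintype fun _ ha => su_conj F hc ha

theorem cq_su {j : ℕ} (hj : j < 16) : SU K (cq F j) :=
  ⟨S.hyp.extra.comm_z (cq_spec F j hj).1, fun i hi => ⟨i, hi, K.act_mem S.hyp (cq_spec F j hj).1 _⟩⟩

theorem t_normalizer : F.t ∈ normalizer (A F : Set G) := by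
  refine Subgroup.mem_normalizer_fintype ?_
  rintro _ ⟨m, hm, rfl⟩
  exact ⟨spanWord TI m, spanWord_lt _ (by decide +kernel) _, conj_TI F m⟩

/-- The subgroup contains its centralizer. -/
theorem centralizer_le {c : G} (h : ∀ a ∈ A F, a * c = c * a) : c ∈ A F := by
  have H := S.hyp
  have hcz : c * z = z * c := (h z (z_mem F)).symm
  have hfix : ∀ i < 16, K.act c (uv i) = uv i := by
    intro i hi
    obtain ⟨w1, w2⟩ := W_low F (m := 2 * i) (by omega)
    rw [show (2 * i) >>> 1 = i by rw [Nat.shiftRight_eq_div_pow]; omega] at w2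
    rw [← w2, K.act_vec H hcz w1, ← h _ (W_mem F (by omega)), mul_inv_cancel_right]
  have hk16 : ∀ k < 4, (2 : ℕ) ^ k < 16 := by decide
  obtain ⟨d, hd⟩ : ∃ d : ℕ → V, ∀ k, d k = K.act c (dv (2 ^ k)) + dv (2 ^ k) := ⟨_, fun k => rfl⟩
  have hU : ∀ k < 4, ∃ i < 16, d k = uv i := fun k hk => mem_U _ fun i hi => by
    rw [hd, B_add_left]
    conv_lhs => arg 1; rw [← hfix i hi, K.act_B H hcz]
    exact CharTwo.add_self_eq_zero _
  obtain ⟨s0, hs0, e0⟩ := hU 0 (by norm_num)
  obtain ⟨s1, hs1, e1⟩ := hU 1 (by norm_num)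
  obtain ⟨s2, hs2, e2⟩ := hU 2 (by norm_num)
  obtain ⟨s3, hs3, e3⟩ := hU 3 (by norm_num)
  have ed : ∀ k, K.act c (dv (2 ^ k)) = dv (2 ^ k) + d k := fun k => by
    rw [hd, add_comm (K.act c _), ← add_assoc, addV, zero_add]
  have hB : ∀ k < 4, ∀ l < 4, B (dv (2 ^ k)) (d l) + B (dv (2 ^ l)) (d k) = 0 := by
    intro k hk l hl
    have e := K.act_B H hcz (dv (2 ^ k)) (dv (2 ^ l))
    obtain ⟨i, hi, ei⟩ := hU k hk
    obtain ⟨j, hj, ej⟩ := hU l hl
    rw [ed, ed, ei, ej, B_add_left, B_add_right, B_add_right, uv_perp i hi j hj, add_zero, add_assoc] at e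
    rw [ei, ej, B_comm (dv (2 ^ l))]
    exact left_eq_add.mp e.symm
  have hq : ∀ k < 4, B (dv (2 ^ k)) (d k) = 0 := by
    intro k hk
    have e := K.act_q H hcz (dv (2 ^ k))
    obtain ⟨i, hi, ei⟩ := hU k hk
    rw [ed, qV_add, (dv_data _ (hk16 k hk)).1, ei, uv_q i hi] at e
    rw [ei]
    simpa using e
  have c01 := hB 0 (by norm_num) 1 (by norm_num)
  have c02 := hB 0 (by norm_num) 2 (by norm_num)
  have c03 := hB 0 (by norm_num) 3 (by norm_num)
  have c12 := hB 1 (by norm_num) 2 (by norm_num)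
  have c13 := hB 1 (by norm_num) 3 (by norm_num)
  have c23 := hB 2 (by norm_num) 3 (by norm_num)
  have c0 := hq 0 (by norm_num)
  have c1 := hq 1 (by norm_num)
  have c2 := hq 2 (by norm_num)
  have c3 := hq 3 (by norm_num)
  rw [e0, e1, dv_uv 0 (by norm_num) _ hs1, dv_uv 1 (by norm_num) _ hs0] at c01
  rw [e0, e2, dv_uv 0 (by norm_num) _ hs2, dv_uv 2 (by norm_num) _ hs0] at c02
  rw [e0, e3, dv_uv 0 (by norm_num) _ hs3, dv_uv 3 (by norm_num) _ hs0] at c03
  rw [e1, e2, dv_uv 1 (by norm_num) _ hs2, dv_uv 2 (by norm_num) _ hs1] at c12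
  rw [e1, e3, dv_uv 1 (by norm_num) _ hs3, dv_uv 3 (by norm_num) _ hs1] at c13
  rw [e2, e3, dv_uv 2 (by norm_num) _ hs3, dv_uv 3 (by norm_num) _ hs2] at c23
  rw [e0, dv_uv 0 (by norm_num) _ hs0] at c0
  rw [e1, dv_uv 1 (by norm_num) _ hs1] at c1
  rw [e2, dv_uv 2 (by norm_num) _ hs2] at c2
  rw [e3, dv_uv 3 (by norm_num) _ hs3] at c3
  obtain ⟨h', hh', hs⟩ := alt_shape ![zb s0 1, zb s0 2, zb s0 3, zb s2 3, zb s1 3, zb s1 2]
  have hm : h' * 32 < 2048 := by omega
  set b := W F (h' * 32) with hb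
  have hbz : b * z = z * b := W_z F _
  have hact : K.act c = K.act b := by
    refine ext_dual (K.act_add H hcz) (K.act_add H hbz) (fun i hi => ?_) (fun k hk => ?_)
    · rw [hfix i hi]
      obtain ⟨w1, w2⟩ := W_low F (m := 2 * i) (by omega)
      rw [show (2 * i) >>> 1 = i by rw [Nat.shiftRight_eq_div_pow]; omega] at w2
      rw [← w2, K.act_vec H hbz w1, hb, W_comm, mul_inv_cancel_right]
    · rw [hb, W_act, hs k hk, ed]
      congr 1
      interval_cases k <;>
        simp [e0, e1, e2, e3, uv, c0, c1, c2, c3, eq_of_add _ _ c01, eq_of_add _ _ c02, eq_of_add _ _ c03,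
          eq_of_add _ _ c12, eq_of_add _ _ c13, eq_of_add _ _ c23]
  have hbA : b ∈ A F := W_mem F hm
  have hq0 : b * c ∈ Q := K.mem_of_act H (Commute.mul_left hbz hcz).eq fun v => by
    rw [K.act_mul H hbz hcz, hact, ← K.act_mul H hbz hbz, hb, W_sq, K.act_one H]
  obtain ⟨i, hi, j, hj, hv⟩ := uv_dual (K.vec (b * c))
  have hperp : ∀ i' < 16, B (dv j) (uv i') = 0 := by
    intro i' hi'
    obtain ⟨w1, w2⟩ := W_low F (m := 2 * i') (by omega)
    rw [show (2 * i') >>> 1 = i' by rw [Nat.shiftRight_eq_div_pow]; omega] at w2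
    have hw : W F (2 * i') ∈ A F := W_mem F (by omega)
    have e := (K.comm_iff H.extra.ne_one hq0 w1).1
      (Commute.mul_left (A_comm F hbA hw) (h _ hw).symm).eq
    rwa [hv, w2, B_add_left, uv_perp i hi i' hi', zero_add] at e
  obtain ⟨k, hk, hk'⟩ := mem_U _ hperp
  rw [hk'] at hv
  have hz := lift_mem F hq0 (Nat.xor_lt_two_pow (n := 4) hi hk) (by rw [hv, uv_xor i hi k hk])
  have := mul_mem hbA hz
  rwa [← mul_assoc, hb, W_sq, one_mul] at this

include F in
theorem exists_transvection {i j : ℕ} (hi : i < 16) (hj : j < 16) (h : ort i j = true) :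
    ∃ c, SU K c ∧ ∀ u < 16, K.act c (uv u) = uv (tv i j u) := by
  have H := S.hyp
  by_cases h0 : i = 0 ∨ j = 0
  · refine ⟨1, su_one H, fun u hu => ?_⟩
    rw [K.act_one H, tv]
    split_ifs with ho
    · rfl
    · rcases h0 with rfl | rfl
      · simp
      · exact absurd (ort_zero u hu) ho
  push Not at h0
  obtain ⟨d1, d2, d3⟩ := dv_data j hj
  have hui : uv i ≠ 0 := fun e => h0.1 (uv_zero i hi e)
  have hperp : B (uv i) (dv j) = 0 := (ort_iff i hi j hj).1 h
  obtain ⟨c, hc⟩ := S.root_exists hui (uv_q i hi) (fun e => h0.2 (d2 e))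
    (fun e => h0.1 (d3 i hi e.symm).1) d1 hperp
  have key : ∀ u < 16, K.act c (uv u) = uv (tv i j u) := by
    intro u hu
    rw [hc.2.1, rootV, uv_perp u hu i hi, zero_smul, add_zero, tv]
    split_ifs with ho
    · rw [(ort_iff u hu j hj).1 ho, zero_smul, add_zero]
    · rw [eq_one (fun e => ho ((ort_iff u hu j hj).2 e)), one_smul, uv_xor u hu i hi]
  refine ⟨c, ⟨hc.1, fun u hu => ⟨tv i j u, ?_, key u hu⟩⟩, key⟩
  unfold tv
  split_ifs
  exacts [hu, Nat.xor_lt_two_pow (n := 4) hu hi]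

include F in
/-- Every basis of the four-space is carried to the standard one. -/
theorem exists_su (a : Fin 4 → ℕ) (ha : ∀ k, a k < 16)
    (hind : ∀ s : Fin 4 → ZMod 2, ∑ k, s k • uv (a k) = 0 → s = 0) :
    ∃ c, SU K c ∧ ∀ k : Fin 4, K.act c (uv (a k)) = uv (2 ^ (k : ℕ)) := by
  have H := S.hyp
  have aux : ∀ n ≤ 4, ∃ c, SU K c ∧ ∀ k : Fin 4, (k : ℕ) < n → K.act c (uv (a k)) = uv (2 ^ (k : ℕ)) := by
    intro n
    induction n with
    | zero => exact fun _ => ⟨1, su_one H, fun k hk => absurd hk (Nat.not_lt_zero _)⟩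
    | succ n ih =>
      intro hn
      obtain ⟨c, hc, hck⟩ := ih (by omega)
      obtain ⟨b, hb, eb⟩ := hc.2 _ (ha ⟨n, by omega⟩)
      have hb0 : b >>> n ≠ 0 := by
        intro h0
        have hlt : b < 2 ^ n := by
          rw [Nat.shiftRight_eq_div_pow] at h0
          exact Nat.lt_of_div_eq_zero (by positivity) h0
        let s : Fin 4 → ZMod 2 := fun k => if (k : ℕ) = n then 1 else if (k : ℕ) < n then zb b k else 0
        have hs := hind s (K.act_injective H hc.1 (by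
          have hadd := K.act_add H hc.1
          have hsm := K.act_smul H hc.1
          rw [K.act_zero H hc.1]
          simp only [Fin.sum_univ_four, hadd, hsm]
          have e : ∀ k : Fin 4, s k • K.act c (uv (a k)) =
              s k • (if (k : ℕ) = n then uv b else uv (2 ^ (k : ℕ))) := by
            intro k
            by_cases h1 : (k : ℕ) = n
            · rw [if_pos h1, ← eb]; simp [show k = ⟨n, by omega⟩ from Fin.ext h1]
            · by_cases h2 : (k : ℕ) < n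
              · rw [if_neg h1, hck k h2]
              · simp [s, h1, h2]
          rw [e, e, e, e]
          have hs4 : n < 4 := by omega
          have := comb_zero n hs4 b hb h0
          rw [Fin.sum_univ_four] at this
          exact this))
        have := congrFun hs ⟨n, by omega⟩
        simp [s] at this
      obtain ⟨i, hi, j, hj, ho, i', hi', j', hj', ho', e1, e2⟩ := step n (by omega) b hb hb0
      obtain ⟨d, hd, hd'⟩ := exists_transvection F hi hj ho
      obtain ⟨d', hd2, hd2'⟩ := exists_transvection F hi' hj' ho'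
      refine ⟨d' * (d * c), su_mul H hd2 (su_mul H hd hc), fun k hk => ?_⟩
      have hlt : ∀ u < 16, tv i j u < 16 := fun u hu => by
        unfold tv; split_ifs
        exacts [hu, Nat.xor_lt_two_pow (n := 4) hu hi]
      rw [K.act_mul H hd2.1 (su_mul H hd hc).1, K.act_mul H hd.1 hc.1]
      rcases Nat.lt_or_ge (k : ℕ) n with h | h
      · have h16 : 2 ^ (k : ℕ) < 16 := Nat.pow_lt_pow_right (by norm_num) k.2
        rw [hck k h, hd' _ h16, hd2' _ (hlt _ h16), e2 _ h]
      · have hkn : (k : ℕ) = n := by omega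
        rw [show k = ⟨n, by omega⟩ from Fin.ext hkn, eb, hd' _ hb, hd2' _ (hlt _ hb), e1]
  obtain ⟨c, hc, h⟩ := aux 4 le_rfl
  exact ⟨c, hc, fun k => h k k.2⟩

end basic

end CfsgLib.CoOneGolay
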