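import Cfsg.Agent.Lib.CoOneGolay.Model

/-!
Certificates for the rigidity of the class of the model: the singular four-space is recognised by counting, and
a class-preserving linear map fixing its lifts is the identity.
-/

set_option autoImplicit false
set_option linter.style.longLine false
set_option maxHeartbeats 1000000
set_option maxRecDepth 100000

namespace CfsgLib.CoOneGolay

open CfsgLib.Golay

/-- The masks whose sum with the central one stays in the class, as a bit table. -/
def dMask : ℕ := 358238325424672456266321012725160396680400551324583377636214730723881997450509671318426795833322001750023715438819660443339126947826382081814934355069948812860869639515644372015287270176820413555551099541827317805010457993046628090343546141705916812768240463648108296532770798332105184233596169003480916266630744260972406743796404270876514048169621411479881797554298449315296675194665967740334519392836025590963525039323864314946518148252012786676679630215444093907267179495724363573542851477524772363230715928081639298279144263603866833521325542782927777027612992612890503597353901806198162698243743416316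

/-- The same as a list. -/
def dTab : List ℕ := [2, 3, 4, 5, 6, 7, 8, 9, 10, 11, 12, 13, 14, 15, 16, 17, 18, 19, 20, 21, 22, 23, 24, 25, 26, 27, 28, 29, 30, 31, 32, 33, 34, 35, 36, 37, 38, 39, 64, 65, 66, 67, 72, 73, 74, 75, 96, 97, 98, 99, 108, 109, 110, 111, 128, 129, 130, 131, 144, 145, 146, 147, 160, 161, 162, 163, 180, 181, 182, 183, 192, 193, 194, 195, 216, 217, 218, 219, 224, 225, 226, 227, 252, 253, 254, 255, 256, 257, 264, 265, 272, 273, 280, 281, 320, 321, 328, 329, 338, 339, 346, 347, 386, 387, 392, 393, 402, 403, 408, 409, 448, 449, 458, 459, 466, 467, 472, 473, 512, 513, 516, 517, 528, 529, 532, 533, 546, 547, 550, 551, 560, 561, 564, 565, 640, 641, 646, 647, 656, 657, 662, 663, 672, 673, 678, 679, 690, 691, 692, 693, 772, 773, 776, 777, 788, 789, 792, 793, 870, 871, 874, 875, 884, 885, 888, 889, 902, 903, 904, 905, 918, 919, 920, 921, 998, 999, 1000, 1001, 1012, 1013, 1018, 1019, 1024, 1025, 1028, 1029, 1032, 1033, 1036, 1037, 1056, 1057, 1060, 1061, 1066, 1067, 1070, 1071, 1090, 1091, 1092, 1093, 1098, 1099, 1100, 1101, 1120, 1121, 1126, 1127, 1130, 1131, 1132, 1133, 1284, 1285, 1292, 1293, 1296,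 1297, 1304, 1305, 1348, 1349, 1356, 1357, 1362, 1363, 1370, 1371, 1446, 1447, 1452, 1453, 1458, 1459, 1464, 1465, 1508, 1509, 1518, 1519, 1522, 1523, 1528, 1529, 1544, 1545, 1548, 1549, 1552, 1553, 1556, 1557, 1578, 1579, 1582, 1583, 1584, 1585, 1588, 1589, 1738, 1739, 1740, 1741, 1746, 1747, 1748, 1749, 1770, 1771, 1772, 1773, 1776, 1777, 1782, 1783, 1792, 1793, 1804, 1805, 1812, 1813, 1816, 1817, 1890, 1891, 1902, 1903, 1908, 1909, 1912, 1913, 1954, 1955, 1964, 1965, 1974, 1975, 1976, 1977, 1986, 1987, 1996, 1997, 2004, 2005, 2010, 2011]

/-- Table lookup. -/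
def inD (m : ℕ) : Bool := dMask.testBit m

theorem inD_table : ((List.range 2048).all fun m => inD m == (inO m && inO (Nat.xor m 1))) = true := by
  decide +kernel

theorem dTab_table : ((List.range 2048).all fun m => dTab.contains m == inD m) = true := by decide +kernel

theorem dTab_nodup : dTab.Nodup := by decide +kernel

theorem dTab_lt : ∀ m ∈ dTab, m < 2048 := by decide +kernel

/-- The number of partners inside the table. -/
def cnt (w : ℕ) : ℕ := dTab.countP fun u => inO (Nat.xor u w)

theorem cnt_table : (dTab.all fun w => Nat.beq (cnt w) 85 == decide (w < 32)) = true := by decide +kernel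

theorem low_inD : ∀ m < 32, 2 ≤ m → inD m = true := by decide +kernel

/-- The six targets. -/
def tgts : List ℕ := [32, 64, 128, 256, 512, 1024]

/-- Candidates for the images of the six targets. -/
def candTab : List (List ℕ) := [[32, 33, 34, 35, 36, 37, 38, 39], [64, 65, 66, 67, 72, 73, 74, 75], [128, 129, 130, 131, 144, 145, 146, 147], [256, 257, 264, 265, 272, 273, 280, 281], [512, 513, 516, 517, 528, 529, 532, 533], [1024, 1025, 1028, 1029, 1032, 1033, 1036, 1037]]

/-- Compatibility of an image with the lifts of the four-space. -/
def candOk (i a : ℕ) : Bool :=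
  decide (32 ≤ a) && inO a &&
    (List.range 32).all fun v => !inO (Nat.xor (tgts.getD i 0) v) || inO (Nat.xor a v)

theorem cand_table : ((List.range 6).all fun i => (List.range 2048).all fun a =>
    !candOk i a || (candTab.getD i []).contains a) = true := by decide +kernel

/-- Compatibility of a list of images, at the masks involving the last one. -/
def okPre (cur : List ℕ) : Bool :=
  (List.range (2 ^ (cur.length - 1))).all fun k =>
    (List.range 32).all fun v =>
      inO (Nat.xor (spanWord tgts (2 ^ (cur.length - 1) + k)) v) ==
        inO (Nat.xor (spanWord cur (2 ^ (cur.length - 1) + k)) v)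

/-- Search over the candidates. -/
def bt : ℕ → List ℕ → Bool
  | 0, cur => cur == tgts
  | n + 1, cur => (candTab.getD cur.length []).all fun a => !okPre (cur ++ [a]) || bt n (cur ++ [a])

theorem bt_table : bt 6 [] = true := by decide +kernel

end CfsgLib.CoOneGolay
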