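import Mathlib
import Cfsg.Agent.Lib.CoOneGolay.Local
import Cfsg.Agent.Lib.CoOneGolay.Code
import Cfsg.Agent.Lib.CoOneGolay.Rigid

/-!
The normalizer of the subgroup of order `2 ^ 11` induces exactly the group of the code on it.
-/

set_option autoImplicit false
set_option linter.style.longLine false
set_option maxHeartbeats 1000000
set_option maxRecDepth 100000
set_option synthInstance.maxSize 8000
set_option synthInstance.maxHeartbeats 1000000

namespace CfsgLib.CoOneGolay

open Cfsg Subgroup CfsgLib.CoOneType CfsgLib.Golay CfsgLib.Golay.Maximality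
open scoped Pointwise

/-- A permutation of the masks as a map of numbers. -/
def app (p : Equiv.Perm (Fin 2048)) (m : ℕ) : ℕ := if h : m < 2048 then (p ⟨m, h⟩).1 else 0

theorem app_eq (p : Equiv.Perm (Fin 2048)) {m : ℕ} (h : m < 2048) : app p m = (p ⟨m, h⟩).1 := dif_pos h

theorem app_lt (p : Equiv.Perm (Fin 2048)) {m : ℕ} (h : m < 2048) : app p m < 2048 := by
  rw [app_eq p h]; exact (p _).2

theorem app_mul (p q : Equiv.Perm (Fin 2048)) {m : ℕ} (h : m < 2048) : app (p * q) m = app p (app q m) := by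
  rw [app_eq _ h, app_eq _ (app_lt q h)]
  congr 1
  simp [app_eq q h]

theorem app_inj (p : Equiv.Perm (Fin 2048)) {a b : ℕ} (ha : a < 2048) (hb : b < 2048) (h : app p a = app p b) :
    a = b := by
  rw [app_eq p ha, app_eq p hb] at h
  exact congrArg Fin.val (p.injective (Fin.ext h))

theorem app_ext {p q : Equiv.Perm (Fin 2048)} (h : ∀ m < 2048, app p m = app q m) : p = q :=
  Equiv.ext fun m => Fin.ext (by rw [← app_eq p m.2, ← app_eq q m.2]; exact h m m.2)

/-- A linear permutation preserving the class and fixing the central mask. -/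
structure Auto (p : Equiv.Perm (Fin 2048)) : Prop where
  xor : ∀ {a b}, a < 2048 → b < 2048 → app p (a ^^^ b) = app p a ^^^ app p b
  inO_eq : ∀ {m}, m < 2048 → inO (app p m) = inO m
  one : app p 1 = 1

namespace Auto

variable {p q : Equiv.Perm (Fin 2048)}

theorem mul (hp : Auto p) (hq : Auto q) : Auto (p * q) where
  xor ha hb := by
    rw [app_mul _ _ (Nat.xor_lt_two_pow (n := 11) ha hb), hq.xor ha hb, hp.xor (app_lt q ha) (app_lt q hb),
      app_mul _ _ ha, app_mul _ _ hb]
  inO_eq hm := by rw [app_mul _ _ hm, hp.inO_eq (app_lt q hm), hq.inO_eq hm]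
  one := by rw [app_mul _ _ (by norm_num), hq.one, hp.one]

theorem inv (hp : Auto p) : Auto p⁻¹ := by
  have e : ∀ {m}, m < 2048 → app p (app p⁻¹ m) = m := fun {m} hm => by
    rw [← app_mul _ _ hm, mul_inv_cancel, app_eq _ hm]; rfl
  refine ⟨fun {a b} ha hb => ?_, fun {m} hm => ?_, ?_⟩
  · have hab : a ^^^ b < 2048 := Nat.xor_lt_two_pow (n := 11) ha hb
    refine app_inj p (app_lt _ hab) (Nat.xor_lt_two_pow (n := 11) (app_lt _ ha) (app_lt _ hb)) ?_
    rw [e hab, hp.xor (app_lt _ ha) (app_lt _ hb), e ha, e hb]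
  · rw [← hp.inO_eq (app_lt p⁻¹ hm), e hm]
  · exact app_inj p (app_lt _ (by norm_num)) (by norm_num) (by rw [e (by norm_num), hp.one])

theorem zero (hp : Auto p) : app p 0 = 0 := by
  have h := hp.xor (a := 0) (b := 0) (by norm_num) (by norm_num)
  rw [Nat.xor_self, Nat.xor_self] at h
  exact h

theorem inD_eq (hp : Auto p) {m : ℕ} (hm : m < 2048) : inD (app p m) = inD m := by
  have h : ∀ {k}, k < 2048 → inD k = (inO k && inO (k ^^^ 1)) := fun {k} hk => by
    simpa using List.all_eq_true.mp inD_table k (List.mem_range.mpr hk)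
  rw [h (app_lt p hm), h hm, hp.inO_eq hm, ← hp.inO_eq (Nat.xor_lt_two_pow (n := 11) hm (by norm_num : 1 < 2 ^ 11)),
    hp.xor hm (by norm_num), hp.one]

theorem mem_dTab {m : ℕ} (hm : m < 2048) : m ∈ dTab ↔ inD m = true := by
  have e := List.all_eq_true.mp dTab_table m (List.mem_range.mpr hm)
  rw [beq_iff_eq] at e
  rw [← e, List.contains_iff_mem]

theorem perm_dTab (hp : Auto p) : (dTab.map (app p)).Perm dTab := by
  refine (List.subperm_of_subset ?_ fun a ha => ?_).perm_of_length_le (by simp)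
  · refine List.Nodup.map_on (fun a ha b hb h => app_inj p (dTab_lt a ha) (dTab_lt b hb) h) dTab_nodup
  · obtain ⟨b, hb, rfl⟩ := List.mem_map.mp ha
    have hb2 := dTab_lt b hb
    rw [mem_dTab (app_lt p hb2), hp.inD_eq hb2, ← mem_dTab hb2]
    exact hb

theorem cnt_eq (hp : Auto p) {w : ℕ} (hw : w < 2048) : cnt (app p w) = cnt w := by
  unfold cnt
  rw [← hp.perm_dTab.countP_eq, List.countP_map]
  refine List.countP_congr fun u hu => ?_
  have hu2 := dTab_lt u hu
  simp only [Function.comp_apply]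
  rw [show Nat.xor (app p u) (app p w) = app p u ^^^ app p w from rfl, ← hp.xor hu2 hw,
    hp.inO_eq (Nat.xor_lt_two_pow (n := 11) hu2 hw)]
  rfl

theorem low (hp : Auto p) {m : ℕ} (hm : m < 32) : app p m < 32 := by
  rcases Nat.lt_or_ge m 2 with h | h
  · interval_cases m
    · rw [hp.zero]; norm_num
    · rw [hp.one]; norm_num
  · have hm2 : m < 2048 := by omega
    have hd : inD m = true := low_inD m hm h
    have ht := (mem_dTab hm2).2 hd
    have hpd : inD (app p m) = true := (hp.inD_eq hm2).trans hd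
    have ht' := (mem_dTab (app_lt p hm2)).2 hpd
    have e1 := List.all_eq_true.mp cnt_table _ ht
    have e2 := List.all_eq_true.mp cnt_table _ ht'
    rw [hp.cnt_eq hm2] at e2
    rw [beq_iff_eq] at e1 e2
    rw [e1] at e2
    simpa [hm] using e2.symm

theorem high (hp : Auto p) {m : ℕ} (hm : m < 2048) (h : 32 ≤ m) : 32 ≤ app p m := by
  by_contra hlt
  have := hp.inv.low (Nat.not_le.1 hlt)
  rw [← app_mul _ _ hm, inv_mul_cancel, app_eq _ hm] at this
  simp at this
  omega

theorem span (hp : Auto p) : ∀ {l : List ℕ}, (∀ a ∈ l, a < 2048) → ∀ k,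
    spanWord (l.map (app p)) k = app p (spanWord l k) := by
  intro l
  induction l with
  | nil => intro _ k; simp [spanWord, hp.zero]
  | cons a l ih =>
    intro h k
    have hl : ∀ b ∈ l, b < 2048 := fun b hb => h b (List.mem_cons_of_mem _ hb)
    have hs : spanWord l (k >>> 1) < 2048 :=
      spanWord_induction (P := fun n => n < 2 ^ 11) l (by norm_num) (fun _ _ => Nat.xor_lt_two_pow) hl _
    rw [List.map_cons, spanWord_cons, spanWord_cons, ih hl]
    cases k.testBit 0
    · simp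
    · simp only [cond_true]
      rw [hp.xor (h a List.mem_cons_self) hs]

theorem tgts_take : ∀ n < 7, ∀ k < 2 ^ n, spanWord (tgts.take n) k = spanWord tgts k := by decide +kernel

theorem tgts_lt : ∀ a ∈ tgts, a < 2048 ∧ 32 ≤ a ∧ inO a = true := by decide +kernel

theorem rigid (hp : Auto p) (hfix : ∀ v < 32, app p v = v) : p = 1 := by
  have key : ∀ n len, len + n = 6 → bt n ((tgts.map (app p)).take len) = true → tgts.map (app p) = tgts := by
    intro n
    induction n with
    | zero =>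
      intro len h e
      have hl : len = 6 := by omega
      subst hl
      rw [bt, List.take_of_length_le (by simp [tgts])] at e
      simpa using e
    | succ n ih =>
      intro len h e
      rw [bt, List.all_eq_true] at e
      have hlen : ((tgts.map (app p)).take len).length = len := by simp [tgts]; omega
      have hlen6 : len < (tgts.map (app p)).length := by simp [tgts]; omega
      have hlen6' : len < tgts.length := by simp [tgts]; omega
      have hsucc' : (tgts.map (app p)).take (len + 1) = (tgts.map (app p)).take len ++ [app p tgts[len]] := by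
        rw [List.take_succ_eq_append_getElem hlen6, List.getElem_map]
      obtain ⟨ht2, ht32, htO⟩ := tgts_lt _ (List.getElem_mem hlen6')
      have hmem : app p tgts[len] ∈ candTab.getD len [] := by
        have e0 := List.all_eq_true.mp (List.all_eq_true.mp cand_table len (List.mem_range.mpr (by omega))) _
          (List.mem_range.mpr (app_lt p ht2))
        have hc : candOk len (app p tgts[len]) = true := by
          simp only [candOk, Bool.and_eq_true, decide_eq_true_eq, List.all_eq_true, List.mem_range]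
          refine ⟨⟨hp.high ht2 ht32, (hp.inO_eq ht2).trans htO⟩, fun v hv => ?_⟩
          rw [List.getD_eq_getElem _ _ hlen6']
          have hv2 : v < 2048 := by omega
          have e1 : inO (Nat.xor (app p tgts[len]) v) = inO (Nat.xor tgts[len] v) := by
            show inO (app p tgts[len] ^^^ v) = inO (tgts[len] ^^^ v)
            conv_lhs => rw [← hfix v hv, ← hp.xor ht2 hv2, hp.inO_eq (Nat.xor_lt_two_pow (n := 11) ht2 hv2)]
          rw [e1]
          cases inO (Nat.xor tgts[len] v) <;> rfl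
        simpa [hc, List.contains_iff_mem] using e0
      rw [hlen] at e
      have e2 := e _ hmem
      rw [Bool.or_eq_true, ← hsucc'] at e2
      refine ih (len + 1) (by omega) (e2.resolve_left ?_)
      have hl2 : ((tgts.map (app p)).take (len + 1)).length = len + 1 := by simp [tgts]; omega
      suffices hok : okPre ((tgts.map (app p)).take (len + 1)) = true by simp [hok]
      simp only [okPre, hl2, Nat.add_sub_cancel, List.all_eq_true, List.mem_range, beq_iff_eq]
      intro k hk v hv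
      have hk' : 2 ^ len + k < 2 ^ (len + 1) := by rw [pow_succ]; omega
      have hv2 : v < 2048 := by omega
      rw [← List.map_take, hp.span (fun a ha => (tgts_lt a (List.mem_of_mem_take ha)).1),
        tgts_take _ (by omega) _ hk']
      have hs : spanWord tgts (2 ^ len + k) < 2048 :=
        spanWord_induction (P := fun n => n < 2 ^ 11) tgts (by norm_num) (fun _ _ => Nat.xor_lt_two_pow)
          (fun a ha => (tgts_lt a ha).1) _
      show inO (spanWord tgts (2 ^ len + k) ^^^ v) = inO (app p (spanWord tgts (2 ^ len + k)) ^^^ v)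
      conv_rhs => rw [← hfix v hv, ← hp.xor hs hv2, hp.inO_eq (Nat.xor_lt_two_pow (n := 11) hs hv2)]
  have htg := key 6 0 (by norm_num) (by simpa using bt_table)
  simp only [tgts, List.map_cons, List.map_nil, List.cons.injEq, and_true] at htg
  obtain ⟨t0, t1, t2, t3, t4, t5⟩ := htg
  have hb : basisN.map (app p) = basisN := by
    simp only [basisN, List.map_cons, List.map_nil, t0, t1, t2, t3, t4, t5, hfix 1 (by norm_num), hfix 2 (by norm_num),
      hfix 4 (by norm_num), hfix 8 (by norm_num), hfix 16 (by norm_num)]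
  refine app_ext fun m hm => ?_
  have hm' := Nat.eq_of_beq_eq_true (List.all_eq_true.mp span_basisN m (List.mem_range.mpr hm))
  rw [← hm', ← hp.span (by decide), hb, hm', app_eq _ hm]
  rfl

end Auto

/-- Four-bit numbers. -/
def bits4 (s : Fin 4 → ZMod 2) : ℕ := (s 0).val + 2 * (s 1).val + 4 * (s 2).val + 8 * (s 3).val

theorem bits4_spec : ∀ s : Fin 4 → ZMod 2, bits4 s < 16 ∧ (bits4 s = 0 → s = 0) := by decide +kernel

theorem double_xor : ∀ a < 16, ∀ b < 16, 2 * (a ^^^ b) = (2 * a) ^^^ (2 * b) ∧ a ^^^ b < 16 := by decide +kernel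

theorem halve_eq : ∀ u < 32, ∀ v < 32, u >>> 1 = v >>> 1 → u = v ∨ u = v ^^^ 1 := by decide +kernel

theorem uv_inj : ∀ a < 16, ∀ b < 16, uv a = uv b → a = b := by decide +kernel

theorem qMap_low : ∀ j < 16, ∀ k < 4,
    qMap 0 7 j (2 ^ (k + 1)) = 2 ^ (k + 1) + (if j.testBit k then 1 else 0) ∧
    qMap 0 7 j (2 ^ (k + 1) + 1) = 2 ^ (k + 1) + (if j.testBit k then 0 else 1) := by decide +kernel

theorem bits4_testBit : ∀ s : Fin 4 → ZMod 2, ∀ k : Fin 4, (bits4 s).testBit k.val = decide (s k = 1) := by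
  decide +kernel

/-- Independent quadruples. -/
def quadL : List (ℕ × ℕ × ℕ × ℕ) :=
  ((List.range 16).filter fun a => decide (a ≠ 0)).flatMap fun a =>
    ((List.range 16).filter fun b => decide (b ≠ 0 ∧ b ≠ a)).flatMap fun b =>
      ((List.range 16).filter fun c => decide (c ≠ 0 ∧ c ≠ a ∧ c ≠ b ∧ c ≠ a ^^^ b)).flatMap fun c =>
        ((List.range 16).filter fun d => decide (d ≠ 0 ∧ d ≠ a ∧ d ≠ b ∧ d ≠ a ^^^ b ∧ d ≠ c ∧ d ≠ a ^^^ c ∧
          d ≠ b ^^^ c ∧ d ≠ a ^^^ b ^^^ c)).map fun d => (a, b, c, d)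

theorem quadL_length : quadL.length = 20160 := by decide +kernel

/-- The induced map of the four-space. -/
def Lmap (p : Equiv.Perm (Fin 2048)) (m : ℕ) : ℕ := app p (2 * m) >>> 1

namespace Auto

variable {p q : Equiv.Perm (Fin 2048)}

theorem Lmap_lt (hp : Auto p) {m : ℕ} (hm : m < 16) : Lmap p m < 16 := by
  have := hp.low (m := 2 * m) (by omega)
  rw [Lmap, Nat.shiftRight_eq_div_pow]; omega

theorem Lmap_xor (hp : Auto p) {a b : ℕ} (ha : a < 16) (hb : b < 16) :
    Lmap p (a ^^^ b) = Lmap p a ^^^ Lmap p b := by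
  rw [Lmap, (double_xor a ha b hb).1, hp.xor (by omega) (by omega), Nat.shiftRight_xor_distrib]
  rfl

theorem Lmap_eq_zero (hp : Auto p) {m : ℕ} (hm : m < 16) (h : Lmap p m = 0) : m = 0 := by
  have hlt : app p (2 * m) < 2 := by
    rw [Lmap, Nat.shiftRight_eq_div_pow] at h; omega
  rcases Nat.lt_or_ge (app p (2 * m)) 1 with h0 | h0
  · have := app_inj p (a := 2 * m) (b := 0) (by omega) (by norm_num) (by rw [hp.zero]; omega)
    omega
  · have := app_inj p (a := 2 * m) (b := 1) (by omega) (by norm_num) (by rw [hp.one]; omega)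
    omega

theorem Lmap_ne (hp : Auto p) {a b : ℕ} (ha : a < 16) (hb : b < 16) (hne : a ≠ b) : Lmap p a ≠ Lmap p b := by
  intro h
  have := hp.Lmap_eq_zero (double_xor a ha b hb).2 (by rw [hp.Lmap_xor ha hb, h, Nat.xor_self])
  exact hne (Nat.xor_eq_zero_iff.1 this)

theorem quad_mem (hp : Auto p) : (Lmap p 1, Lmap p 2, Lmap p 4, Lmap p 8) ∈ quadL := by
  have hn : ∀ a b, a < 16 → b < 16 → a ≠ b → Lmap p a ≠ Lmap p b := fun a b => hp.Lmap_ne
  have h0 : Lmap p 0 = 0 := by rw [Lmap, hp.zero]; rfl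
  have e3 : Lmap p 1 ^^^ Lmap p 2 = Lmap p 3 := (hp.Lmap_xor (a := 1) (b := 2) (by norm_num) (by norm_num)).symm
  have e5 : Lmap p 1 ^^^ Lmap p 4 = Lmap p 5 := (hp.Lmap_xor (a := 1) (b := 4) (by norm_num) (by norm_num)).symm
  have e6 : Lmap p 2 ^^^ Lmap p 4 = Lmap p 6 := (hp.Lmap_xor (a := 2) (b := 4) (by norm_num) (by norm_num)).symm
  have e7 : Lmap p 3 ^^^ Lmap p 4 = Lmap p 7 := (hp.Lmap_xor (a := 3) (b := 4) (by norm_num) (by norm_num)).symm
  simp only [quadL, List.mem_flatMap, List.mem_filter, List.mem_range, List.mem_map, decide_eq_true_eq]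
  have hl : ∀ m, m < 16 → Lmap p m < 16 := fun m => hp.Lmap_lt
  refine ⟨Lmap p 1, ⟨hl 1 (by norm_num), ?_⟩, Lmap p 2, ⟨hl 2 (by norm_num), ?_⟩, Lmap p 4, ⟨hl 4 (by norm_num), ?_⟩,
    Lmap p 8, ⟨hl 8 (by norm_num), ?_⟩, rfl⟩
  · rw [← h0]; exact hn 1 0 (by norm_num) (by norm_num) (by norm_num)
  · rw [← h0]
    exact ⟨hn 2 0 (by norm_num) (by norm_num) (by norm_num), hn 2 1 (by norm_num) (by norm_num) (by norm_num)⟩
  · rw [e3, ← h0]
    exact ⟨hn 4 0 (by norm_num) (by norm_num) (by norm_num), hn 4 1 (by norm_num) (by norm_num) (by norm_num),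
      hn 4 2 (by norm_num) (by norm_num) (by norm_num), hn 4 3 (by norm_num) (by norm_num) (by norm_num)⟩
  · rw [e3, e5, e6, e7, ← h0]
    exact ⟨hn 8 0 (by norm_num) (by norm_num) (by norm_num), hn 8 1 (by norm_num) (by norm_num) (by norm_num),
      hn 8 2 (by norm_num) (by norm_num) (by norm_num), hn 8 3 (by norm_num) (by norm_num) (by norm_num),
      hn 8 4 (by norm_num) (by norm_num) (by norm_num), hn 8 5 (by norm_num) (by norm_num) (by norm_num),
      hn 8 6 (by norm_num) (by norm_num) (by norm_num), hn 8 7 (by norm_num) (by norm_num) (by norm_num)⟩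

end Auto

variable {G : Type*} [Group G] [Finite G] {z : G} {Q : Subgroup G} {K : Coord z Q 0} {x g : G} {S : Base K x g}

section basic

variable (F : Frame S)

/-- The normalizer. -/
abbrev N : Subgroup G := normalizer (A F : Set G)

theorem conj_mem {n : G} (hn : n ∈ N F) {a : G} (ha : a ∈ A F) : n * a * n⁻¹ ∈ A F :=
  (mem_normalizer_iff.1 hn a).1 ha

/-- Conjugation as a permutation of the elements. -/
def conjA (n : ↥(N F)) : A F ≃ A F where
  toFun a := ⟨n * a * (n : G)⁻¹, conj_mem F n.2 a.2⟩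
  invFun a := ⟨(n : G)⁻¹ * a * n, by
    have h := conj_mem F (inv_mem n.2) a.2
    rwa [inv_inv] at h⟩
  left_inv a := Subtype.ext (by simp [mul_assoc])
  right_inv a := Subtype.ext (by simp [mul_assoc])

/-- Conjugation on masks. -/
noncomputable def piHom : ↥(N F) →* Equiv.Perm (Fin 2048) where
  toFun n := (toA F).trans ((conjA F n).trans (toA F).symm)
  map_one' := Equiv.ext fun m => by
    show (toA F).symm (conjA F 1 (toA F m)) = m
    rw [show conjA F 1 (toA F m) = toA F m from Subtype.ext (by simp [conjA]), Equiv.symm_apply_apply]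
  map_mul' n n' := Equiv.ext fun m => by
    show (toA F).symm (conjA F (n * n') (toA F m)) =
      (toA F).symm (conjA F n (toA F ((toA F).symm (conjA F n' (toA F m)))))
    rw [Equiv.apply_symm_apply]
    congr 1
    exact Subtype.ext (by simp [conjA, mul_assoc])

theorem W_piHom (n : ↥(N F)) {m : ℕ} (hm : m < 2048) :
    W F (app (piHom F n) m) = (n : G) * W F m * (n : G)⁻¹ := by
  rw [app_eq _ hm, ← toA_apply]
  show ((toA F ((toA F).symm (conjA F n (toA F ⟨m, hm⟩))) : A F) : G) = _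
  rw [Equiv.apply_symm_apply]
  rfl

theorem piHom_apply_eq (n : ↥(N F)) {m m' : ℕ} (hm : m < 2048) (hm' : m' < 2048)
    (h : (n : G) * W F m * (n : G)⁻¹ = W F m') : app (piHom F n) m = m' :=
  W_injective F (app_lt _ hm) hm' (by rw [W_piHom F n hm, h])

theorem piHom_auto (n : ↥(N F)) (hn : (n : G) * z = z * n) : Auto (piHom F n) := by
  refine ⟨fun {a b} ha hb => ?_, fun {m} hm => ?_, ?_⟩
  · refine piHom_apply_eq F n (Nat.xor_lt_two_pow (n := 11) ha hb)
      (Nat.xor_lt_two_pow (n := 11) (app_lt _ ha) (app_lt _ hb)) ?_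
    rw [W_xor, W_xor, W_piHom F n ha, W_piHom F n hb]
    group
  · rw [Bool.eq_iff_iff, ← conj_char F (app_lt _ hm), ← conj_char F hm, W_piHom F n hm]
    exact ⟨fun h => h.trans (isConj_iff.2 ⟨(n : G)⁻¹, by group⟩), fun h => h.trans (isConj_iff.2 ⟨n, rfl⟩)⟩
  · exact piHom_apply_eq F n (by norm_num) (by norm_num) (by rw [W_one, hn, mul_inv_cancel_right])

/-- A product of dual lifts inside the normalizer. -/
def cqN {j : ℕ} (hj : j < 16) : ↥(N F) := ⟨cq F j, su_normalizer F (cq_su F hj)⟩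

theorem app_cqN {j : ℕ} (hj : j < 16) {m : ℕ} (hm : m < 2048) : app (piHom F (cqN F hj)) m = qMap 0 7 j m :=
  piHom_apply_eq F _ hm (qMap_top 0 7 j hm).1 (conj_cq' F j m)

/-- An automorphism trivial on the four-space comes from a product of dual lifts. -/
theorem auto_low {p : Equiv.Perm (Fin 2048)} (hp : Auto p) (h : ∀ k < 4, Lmap p (2 ^ k) = 2 ^ k) :
    ∃ j, ∃ hj : j < 16, p = (piHom F (cqN F hj))⁻¹ := by
  have h2 : ∀ k < 4, app p (2 ^ (k + 1)) = 2 ^ (k + 1) ∨ app p (2 ^ (k + 1)) = 2 ^ (k + 1) + 1 := by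
    intro k hk
    have := h k hk
    rw [Lmap, show 2 * 2 ^ k = 2 ^ (k + 1) by rw [pow_succ]; ring, Nat.shiftRight_eq_div_pow] at this
    have h1 : 2 ^ (k + 1) = 2 * 2 ^ k := by rw [pow_succ]; ring
    omega
  let s : Fin 4 → ZMod 2 := fun k => if app p (2 ^ ((k : ℕ) + 1)) = 2 ^ ((k : ℕ) + 1) then 0 else 1
  obtain ⟨hj, -⟩ := bits4_spec s
  refine ⟨bits4 s, hj, ?_⟩
  have hq : Auto (piHom F (cqN F hj)) := piHom_auto F _ (cq_su F hj).1
  have hr := hq.mul hp
  have hfix : ∀ k : Fin 4, app (piHom F (cqN F hj) * p) (2 ^ ((k : ℕ) + 1)) = 2 ^ ((k : ℕ) + 1) := by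
    intro k
    have hlt : 2 ^ ((k : ℕ) + 1) < 2048 := by
      have := Nat.pow_le_pow_right (show 0 < 2 by norm_num) (show (k : ℕ) + 1 ≤ 4 by omega)
      omega
    rw [app_mul _ _ hlt]
    obtain ⟨q1, q2⟩ := qMap_low (bits4 s) hj k k.2
    rw [bits4_testBit] at q1 q2
    rcases h2 k k.2 with e | e <;> rw [e]
    · rw [app_cqN F hj hlt, q1, if_neg (by simp [s, e])]
      rfl
    · rw [app_cqN F hj (by omega), q2, if_pos (by simp [s, e])]
      rfl
  have h5 : [1, 2, 4, 8, 16].map (app (piHom F (cqN F hj) * p)) = [1, 2, 4, 8, 16] := by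
    have f0 := hfix 0
    have f1 := hfix 1
    have f2 := hfix 2
    have f3 := hfix 3
    norm_num at f0 f1 f2 f3
    simp [hr.one, f0, f1, f2, f3]
  have hlow : ∀ v < 32, app (piHom F (cqN F hj) * p) v = v := by
    intro v hv
    have e : ∀ v < 32, spanWord [1, 2, 4, 8, 16] v = v := by decide +kernel
    conv_lhs => rw [← e v hv]
    rw [← hr.span (by decide), h5, e v hv]
  exact (inv_eq_of_mul_eq_one_right (hr.rigid hlow)).symm

include F in
/-- Every automorphism is induced by an element commuting with the central involution. -/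
theorem auto_realized {p : Equiv.Perm (Fin 2048)} (hp : Auto p) :
    ∃ n : ↥(N F), (n : G) * z = z * n ∧ piHom F n = p := by
  have H := S.hyp
  let a : Fin 4 → ℕ := fun k => Lmap p (2 ^ (k : ℕ))
  have hk16 : ∀ k : Fin 4, 2 ^ (k : ℕ) < 16 := fun k => Nat.pow_lt_pow_right (by norm_num) k.2
  have ha : ∀ k, a k < 16 := fun k => hp.Lmap_lt (hk16 k)
  obtain ⟨d, hd, hdk⟩ := exists_su F a ha fun s hs => by
    refine (bits4_spec s).2 (hp.Lmap_eq_zero (bits4_spec s).1 (uv_inj _ (hp.Lmap_lt (bits4_spec s).1) 0 (by norm_num) ?_))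
    have hadd : ∀ u v, u < 16 → v < 16 → uv (Lmap p (u ^^^ v)) = uv (Lmap p u) + uv (Lmap p v) := fun u v hu hv => by
      rw [hp.Lmap_xor hu hv, uv_xor _ (hp.Lmap_lt hu) _ (hp.Lmap_lt hv)]
    have h0 : uv (Lmap p 0) = uv 0 := by rw [Lmap, hp.zero]; rfl
    have u0 : uv 0 = (0 : V) := by decide +kernel
    have h3 := hadd 1 2 (by norm_num) (by norm_num)
    have h5 := hadd 1 4 (by norm_num) (by norm_num)
    have h6 := hadd 2 4 (by norm_num) (by norm_num)
    have h7 := hadd 3 4 (by norm_num) (by norm_num)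
    have h9 := hadd 1 8 (by norm_num) (by norm_num)
    have h10 := hadd 2 8 (by norm_num) (by norm_num)
    have h11 := hadd 3 8 (by norm_num) (by norm_num)
    have h12 := hadd 4 8 (by norm_num) (by norm_num)
    have h13 := hadd 5 8 (by norm_num) (by norm_num)
    have h14 := hadd 6 8 (by norm_num) (by norm_num)
    have h15 := hadd 7 8 (by norm_num) (by norm_num)
    simp only [show (1 ^^^ 2 : ℕ) = 3 from rfl, show (1 ^^^ 4 : ℕ) = 5 from rfl, show (2 ^^^ 4 : ℕ) = 6 from rfl,
      show (3 ^^^ 4 : ℕ) = 7 from rfl, show (1 ^^^ 8 : ℕ) = 9 from rfl, show (2 ^^^ 8 : ℕ) = 10 from rfl,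
      show (3 ^^^ 8 : ℕ) = 11 from rfl, show (4 ^^^ 8 : ℕ) = 12 from rfl, show (5 ^^^ 8 : ℕ) = 13 from rfl,
      show (6 ^^^ 8 : ℕ) = 14 from rfl, show (7 ^^^ 8 : ℕ) = 15 from rfl] at h3 h5 h6 h7 h9 h10 h11 h12 h13 h14 h15
    rw [Fin.sum_univ_four] at hs
    simp only [a, Fin.val_zero, Fin.val_one, Fin.val_two, show ((3 : Fin 4) : ℕ) = 3 from rfl] at hs
    norm_num at hs
    rw [u0, ← hs, bits4]
    rcases zcases (s 0) with e0 | e0 <;> rcases zcases (s 1) with e1 | e1 <;> rcases zcases (s 2) with e2 | e2 <;>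
      rcases zcases (s 3) with e3 | e3 <;>
      simp [e0, e1, e2, e3, ZMod.val_one, h0, u0, h3, h5, h6, h7, h9, h10, h11, h12, h13, h14, h15] <;> assumption
  let nd : ↥(N F) := ⟨d, su_normalizer F hd⟩
  have hdA : Auto (piHom F nd) := piHom_auto F nd hd.1
  have hq := hdA.mul hp
  obtain ⟨j, hj, e⟩ := auto_low F hq fun k hk => by
    have hk' : 2 ^ k < 16 := hk16 ⟨k, hk⟩
    have hm : 2 * 2 ^ k < 32 := by omega
    have hpm := hp.low hm
    have hqm := hq.low hm
    refine uv_inj _ (hq.Lmap_lt hk') _ hk' ?_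
    obtain ⟨w1, w2⟩ := W_low F hqm
    obtain ⟨u1, u2⟩ := W_low F hpm
    show uv (app (piHom F nd * p) (2 * 2 ^ k) >>> 1) = _
    rw [← w2, app_mul _ _ (by omega), W_piHom F nd (app_lt _ (by omega)), ← K.act_vec H hd.1 u1, u2]
    exact hdk ⟨k, hk⟩
  refine ⟨nd⁻¹ * (cqN F hj)⁻¹, ?_, by rw [map_mul, map_inv, map_inv, ← e, inv_mul_cancel_left]⟩
  exact (Commute.mul_left (Commute.inv_left hd.1) (Commute.inv_left (cq_su F hj).1)).eq

include F in
theorem card_auto : Nat.card {p : Equiv.Perm (Fin 2048) // Auto p} ≤ 322560 := by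
  classical
  let T := {p : Equiv.Perm (Fin 2048) // Auto p}
  let key : T → {v // v ∈ quadL.toFinset} := fun p =>
    ⟨(Lmap p.1 1, Lmap p.1 2, Lmap p.1 4, Lmap p.1 8), List.mem_toFinset.2 p.2.quad_mem⟩
  have hT : Nonempty T := ⟨⟨1, ⟨fun {a b} ha hb => by
    rw [app_eq _ (Nat.xor_lt_two_pow (n := 11) ha hb), app_eq _ ha, app_eq _ hb]; rfl,
    fun {m} hm => by rw [app_eq _ hm]; rfl, rfl⟩⟩⟩
  have hlow : ∀ p : T, ∃ j : Fin 16, p.1 = (Function.invFun key (key p)).1 * (piHom F (cqN F j.2))⁻¹ := by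
    intro p
    set p0 := Function.invFun key (key p)
    have hk : key p0 = key p := Function.invFun_eq ⟨p, rfl⟩
    simp only [key, Subtype.mk.injEq, Prod.mk.injEq] at hk
    obtain ⟨k0, k1, k2, k3⟩ := hk
    have hq := p0.2.inv.mul p.2
    obtain ⟨j, hj, e⟩ := auto_low F hq fun k hk => by
      have hk' : 2 ^ k < 16 := Nat.pow_lt_pow_right (by norm_num) hk
      have hm : 2 * 2 ^ k < 32 := by omega
      have hL : Lmap p.1 (2 ^ k) = Lmap p0.1 (2 ^ k) := by
        interval_cases k <;> first | exact k0.symm | exact k1.symm | exact k2.symm | exact k3.symm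
      have hl := p.2.low hm
      have hl0 := p0.2.low hm
      rw [Lmap, Lmap, Nat.shiftRight_eq_div_pow, Nat.shiftRight_eq_div_pow] at hL
      have hcase : app p.1 (2 * 2 ^ k) = app p0.1 (2 * 2 ^ k) ∨
          app p.1 (2 * 2 ^ k) = app p0.1 (2 * 2 ^ k) ^^^ 1 :=
        halve_eq _ hl _ hl0 (by simpa only [Nat.shiftRight_eq_div_pow] using hL)
      have hcancel : ∀ {m}, m < 2048 → app p0.1⁻¹ (app p0.1 m) = m := fun {m} hm => by
        rw [← app_mul _ _ hm, inv_mul_cancel, app_eq _ hm]; rfl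
      rw [Lmap, app_mul _ _ (by omega)]
      rcases hcase with e | e <;> rw [e]
      · rw [hcancel (by omega), Nat.shiftRight_eq_div_pow]; omega
      · rw [p0.2.inv.xor (app_lt _ (by omega)) (by norm_num), hcancel (by omega), p0.2.inv.one,
          Nat.shiftRight_xor_distrib, show (1 : ℕ) >>> 1 = 0 from rfl, Nat.xor_zero, Nat.shiftRight_eq_div_pow]
        omega
    exact ⟨⟨j, hj⟩, by rw [← e, mul_inv_cancel_left]⟩
  choose jj hjj using hlow
  have hc := Nat.card_le_card_of_injective (fun p => (key p, jj p)) fun a b h => Subtype.ext (by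
    have h1 : key a = key b := congrArg Prod.fst h
    have h2 : jj a = jj b := congrArg Prod.snd h
    rw [hjj a, hjj b, h1, h2])
  have h1 : Nat.card {v // v ∈ quadL.toFinset} ≤ 20160 := by
    rw [Nat.card_eq_finsetCard, ← quadL_length]; exact quadL.toFinset_card_le
  rw [Nat.card_prod, Nat.card_fin] at hc
  calc Nat.card T ≤ Nat.card {v // v ∈ quadL.toFinset} * 16 := hc
    _ ≤ 20160 * 16 := Nat.mul_le_mul_right _ h1

theorem app_rho (σ : ↥M24) {m : ℕ} (hm : m < 2048) : app (rho σ) m = rhoF σ.1 m := by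
  rw [app_eq _ hm]; rfl

theorem rho_auto {σ : ↥M24} (h : σ ∈ MulAction.stabilizer M24 zOct) : Auto (rho σ) := by
  refine ⟨fun {a b} ha hb => ?_, fun {m} hm => ?_, ?_⟩
  · rw [app_rho σ (Nat.xor_lt_two_pow (n := 11) ha hb), app_rho σ ha, app_rho σ hb, rhoF_xor]
  · rw [app_rho σ hm, inO_rhoF σ.2 hm]
  · rw [app_rho σ (by norm_num)]; exact mem_stab_iff.1 h

include F in
theorem auto_mem_rho {p : Equiv.Perm (Fin 2048)} (hp : Auto p) : p ∈ rho.range := by
  let f : MulAction.stabilizer M24 zOct → {p : Equiv.Perm (Fin 2048) // Auto p} := fun σ =>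
    ⟨rho σ.1, rho_auto σ.2⟩
  have hinj : Function.Injective f := fun a b h => Subtype.ext (rho_injective (congrArg Subtype.val h))
  have hbij : Function.Bijective f :=
    hinj.bijective_of_nat_card_le (by rw [natCard_stab]; exact card_auto F)
  obtain ⟨σ, hσ⟩ := hbij.2 ⟨p, hp⟩
  exact ⟨σ.1, congrArg Subtype.val hσ⟩

theorem range_piHom : (piHom F).range = rho.range := by
  refine le_antisymm ?_ ?_
  · rintro _ ⟨n, rfl⟩
    have h1 : (1 : ℕ) < 2048 := by norm_num
    set m := app (piHom F n) 1 with hm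
    have hm2 : m < 2048 := app_lt _ h1
    have hmO : inO m = true := by
      rw [← conj_char F hm2, hm, W_piHom F n h1, W_one]
      exact isConj_iff.2 ⟨n, rfl⟩
    obtain ⟨σ, hσ⟩ := exists_rho_eq (m := 1) (m' := m) h1 hm2 (by decide +kernel) hmO
    have hq : Auto ((rho σ)⁻¹ * piHom F n) := by
      refine ⟨fun {a b} ha hb => ?_, fun {k} hk => ?_, ?_⟩
      · rw [← map_inv, app_mul _ _ (Nat.xor_lt_two_pow (n := 11) ha hb), app_mul _ _ ha, app_mul _ _ hb,
          piHom_apply_eq F n (Nat.xor_lt_two_pow (n := 11) ha hb)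
            (Nat.xor_lt_two_pow (n := 11) (app_lt (piHom F n) ha) (app_lt (piHom F n) hb))
            (by rw [W_xor, W_xor, W_piHom F n ha, W_piHom F n hb]; group),
          app_rho _ (Nat.xor_lt_two_pow (n := 11) (app_lt _ ha) (app_lt _ hb)), app_rho _ (app_lt _ ha),
          app_rho _ (app_lt _ hb), rhoF_xor]
      · rw [← map_inv, app_mul _ _ hk, app_rho _ (app_lt _ hk), inO_rhoF (σ⁻¹).2 (app_lt _ hk), Bool.eq_iff_iff,
          ← conj_char F (app_lt _ hk), ← conj_char F hk, W_piHom F n hk]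
        exact ⟨fun h => h.trans (isConj_iff.2 ⟨(n : G)⁻¹, by group⟩), fun h => h.trans (isConj_iff.2 ⟨n, rfl⟩)⟩
      · rw [app_mul _ _ h1, ← hm, ← hσ, ← app_rho σ h1, ← app_mul _ _ h1, inv_mul_cancel, app_eq _ h1]
        rfl
    have := mul_mem (MonoidHom.mem_range.2 ⟨σ, rfl⟩) (auto_mem_rho F hq)
    rwa [mul_inv_cancel_left] at this
  · have hstab : MulAction.stabilizer M24 zOct ≤ (piHom F).range.comap rho := by
      intro σ hσ
      obtain ⟨n, -, hn⟩ := auto_realized F (rho_auto hσ)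
      exact ⟨n, hn⟩
    have ht : (⟨tPerm, tPerm_mem⟩ : ↥M24) ∈ (piHom F).range.comap rho := by
      refine ⟨⟨F.t, t_normalizer F⟩, app_ext fun m hm => ?_⟩
      rw [app_rho _ hm, rhoF_tPerm hm]
      exact piHom_apply_eq F _ hm (spanWord_lt _ (by decide +kernel) _) (conj_TI F m)
    have htop : (piHom F).range.comap rho = ⊤ := by
      refine (isCoatom_octad zOct_mem).2 _ (lt_of_le_of_ne hstab fun h => ?_)
      rw [← h, mem_stab_iff] at ht
      exact tPerm_moves ht
    rintro _ ⟨σ, rfl⟩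
    exact (show σ ∈ (piHom F).range.comap rho from htop ▸ mem_top σ)

theorem ker_piHom : (piHom F).ker = (A F).subgroupOf (N F) := by
  ext n
  rw [MonoidHom.mem_ker, mem_subgroupOf]
  constructor
  · intro h
    refine centralizer_le F fun a ha => ?_
    obtain ⟨m, hm, rfl⟩ := ha
    have e := W_piHom F n hm
    rw [h, app_eq _ hm] at e
    exact (eq_mul_inv_iff_mul_eq.1 e)
  · intro h
    refine app_ext fun m hm => ?_
    rw [piHom_apply_eq F n hm hm (by rw [A_comm F h (W_mem F hm), mul_inv_cancel_right]), app_eq _ hm]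
    rfl

theorem normal_A : ((A F).subgroupOf (N F)).Normal := ker_piHom F ▸ (piHom F).normal_ker

/-- The quotient is the group of the code. -/
theorem nonempty_iso : ∃ _ : ((A F).subgroupOf (N F)).Normal,
    Nonempty (↥(N F) ⧸ (A F).subgroupOf (N F) ≃* ↥M24) := by
  have h := normal_A F
  exact ⟨h, ⟨((QuotientGroup.quotientMulEquivOfEq (ker_piHom F).symm).trans
    (QuotientGroup.quotientKerEquivRange (piHom F))).trans
    ((MulEquiv.subgroupCongr (range_piHom F)).trans (MonoidHom.ofInjective rho_injective).symm)⟩⟩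

/-- The class and its complement are the two orbits on nontrivial elements. -/
theorem two_orbits : ∃ a ∈ A F, ∃ b ∈ A F, a ≠ 1 ∧ b ≠ 1 ∧ (∀ n ∈ N F, n * a * n⁻¹ ≠ b) ∧
    ∀ c ∈ A F, c ≠ 1 → ∃ n ∈ N F, n * c * n⁻¹ = a ∨ n * c * n⁻¹ = b := by
  obtain ⟨m0, h0, h00, h0O⟩ : ∃ m < 2048, m ≠ 0 ∧ inO m = false := by
    refine ⟨40, by norm_num, by norm_num, ?_⟩
    decide +kernel
  have hz : inO 1 = true := by decide +kernel
  refine ⟨z, z_mem F, W F m0, W_mem F h0, S.hyp.extra.ne_one, fun e => h00 ?_, fun n hn e => ?_, fun c hc hc1 => ?_⟩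
  · exact W_injective F h0 (by norm_num) (e.trans (word_zero _).symm)
  · have : inO m0 = true := (conj_char F h0).1 (e ▸ isConj_iff.2 ⟨n, rfl⟩)
    rw [h0O] at this
    cases this
  obtain ⟨m, hm, rfl⟩ := hc
  have hm0 : m ≠ 0 := by rintro rfl; exact hc1 (word_zero _)
  have key : ∀ (m' : ℕ) (σ : ↥M24), m' < 2048 → rhoF σ.1 m = m' → ∃ n ∈ N F, n * W F m * n⁻¹ = W F m' := by
    intro m' σ hm' e
    have h : rho σ ∈ (piHom F).range := by rw [range_piHom]; exact ⟨σ, rfl⟩
    obtain ⟨n, hn⟩ := h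
    exact ⟨n, n.2, by rw [← W_piHom F n hm, hn, app_rho σ hm, e]⟩
  rcases h : inO m with _ | _
  · obtain ⟨σ, hσ⟩ := exists_rho_eq' hm h0 hm0 h00 h h0O
    obtain ⟨n, hn, e⟩ := key m0 σ h0 hσ
    exact ⟨n, hn, Or.inr e⟩
  · obtain ⟨σ, hσ⟩ := exists_rho_eq hm (m' := 1) (by norm_num) h hz
    obtain ⟨n, hn, e⟩ := key 1 σ (by norm_num) hσ
    exact ⟨n, hn, Or.inl (e.trans (W_one F))⟩

end basic

end CfsgLib.CoOneGolay
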