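import Mathlib
import Cfsg.Agent.Lib.CoOneGolay.Norm
import Cfsg.Agent.Lib.Solvable.Gaschutz

/-!
The normalizer of the subgroup of order `2 ^ 11` splits over it: a complement over a subgroup of odd index is
built from the dual lifts and root elements over mixed lines, and the theorem of Gaschutz gives one over all of it.
-/

set_option autoImplicit false
set_option linter.style.longLine false
set_option maxHeartbeats 1000000
set_option maxRecDepth 100000
set_option synthInstance.maxSize 8000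
set_option synthInstance.maxHeartbeats 1000000

namespace CfsgLib.CoOneGolay

open Cfsg Subgroup CfsgLib.CoOneType CfsgLib.Golay
open scoped Pointwise

/-- The composite of the transvections selected by the bits. -/
def tvW : List (ℕ × ℕ) → ℕ → ℕ → ℕ
  | [], _, u => u
  | p :: l, m, u => if m.testBit 0 then tv p.1 p.2 (tvW l (m >>> 1) u) else tvW l (m >>> 1) u

/-- The names of the first four root elements. -/
def pairsB : List (ℕ × ℕ) := [(2, 4), (3, 4), (2, 12), (3, 12)]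

/-- The names of the last two root elements. -/
def pairsC : List (ℕ × ℕ) := [(1, 2), (4, 8)]

/-- The image of the four-space under a pair of words. -/
def tvBC (k l : ℕ) : List ℕ := [1, 2, 4, 8].map fun u => tvW pairsB k (tvW pairsC l u)

theorem tvBC_inj : ∀ k < 16, ∀ l < 4, ∀ k' < 16, ∀ l' < 4, tvBC k l = tvBC k' l' → k = k' ∧ l = l' := by
  decide +kernel

theorem rootV_uv : ∀ i < 16, ∀ i' < 16, ∀ u < 16, B (uv i) (dv i') = 0 →
    rootV (uv i) (dv i') (uv u) = uv (tv i i' u) ∧ rootV (uv i) (dv i') (dv u) = dv (tv i' i u) := by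
  decide +kernel

theorem tv_lt : ∀ i < 16, ∀ i' < 16, ∀ u < 16, tv i i' u < 16 := by decide +kernel

theorem dv_inj : ∀ i < 16, ∀ j < 16, dv i = dv j → i = j := by decide +kernel

theorem dv_perp : ∀ i < 16, ∀ j < 16, B (dv i) (dv j) = 0 ∧ qV 0 (dv i) = 0 ∧
    (uv i = dv j → i = 0 ∧ j = 0) := by decide +kernel

theorem tv_split : ∀ i < 16, ∀ i' < 16, ort i i' = true → ort i i = false → ∀ j < 16, ort j i = false →
    tv i' i j = j ^^^ i' ∧ j ^^^ i < 16 ∧ ort (j ^^^ i) i = true ∧ (j ^^^ i) ^^^ i = j ∧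
    j ^^^ i' = (j ^^^ i) ^^^ (i ^^^ i') := by decide +kernel

theorem bt_top : ∀ h < 64, (∀ k < 4, actL baseMaps (h * 32) (dv (2 ^ k)) = dv (2 ^ k)) → h = 0 := by decide +kernel

theorem swap_maps : qV 0 (uv 2 + dv 2) = 1 ∧ qV 0 (uv 4 + dv 4) = 1 ∧ qV 0 (uv 8 + dv 8) = 1 := by decide +kernel

theorem swap_B : ∀ i ∈ [2, 3], ∀ i' ∈ [4, 12],
    refl (uv 4 + dv 4) (refl (uv 8 + dv 8) (uv i)) = uv i ∧ refl (uv 4 + dv 4) (refl (uv 8 + dv 8) (dv i')) = uv i' := by
  decide +kernel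

theorem swap_C : ∀ p ∈ pairsC,
    refl (uv 2 + dv 2) (refl (uv 8 + dv 8) (uv p.1)) = uv p.1 ∧
    refl (uv 2 + dv 2) (refl (uv 8 + dv 8) (dv p.2)) = uv p.2 := by decide +kernel

theorem pairsB_data : ∀ p ∈ pairsB, p.1 ∈ [2, 3] ∧ p.2 ∈ [4, 12] ∧ p.1 < 16 ∧ p.2 < 16 ∧ p.1 ≠ 0 ∧ p.2 ≠ 0 ∧ p.1 ≠ p.2 := by
  decide +kernel

theorem pairsC_data : ∀ p ∈ pairsC, p.1 < 16 ∧ p.2 < 16 ∧ p.1 ≠ 0 ∧ p.2 ≠ 0 ∧ p.1 ≠ p.2 := by decide +kernel

theorem tvW_lt : ∀ l : List (ℕ × ℕ), (∀ p ∈ l, p.1 < 16 ∧ p.2 < 16) → ∀ m u, u < 16 → tvW l m u < 16 := by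
  intro l
  induction l with
  | nil => exact fun _ _ _ hu => hu
  | cons p l ih =>
    intro h m u hu
    have h' := ih (fun q hq => h q (List.mem_cons_of_mem _ hq)) (m >>> 1) u hu
    simp only [tvW]
    split_ifs
    exacts [tv_lt _ (h p List.mem_cons_self).1 _ (h p List.mem_cons_self).2 _ h', h']

variable {G : Type*} [Group G]

/-- The subgroup of the words. -/
def wordSub (l : List G) (h : Elem l) : Subgroup G where
  carrier := {a | ∃ m, m < 2 ^ l.length ∧ a = word l m}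
  one_mem' := ⟨0, by positivity, (word_zero _).symm⟩
  mul_mem' := by
    rintro _ _ ⟨a, ha, rfl⟩ ⟨b, hb, rfl⟩
    exact ⟨a ^^^ b, Nat.xor_lt_two_pow ha hb, (word_xor h a b).symm⟩
  inv_mem' := by
    rintro _ ⟨a, ha, rfl⟩
    exact ⟨a, ha, inv_eq_of_mul_eq_one_right (by rw [← word_xor h, Nat.xor_self, word_zero])⟩

theorem word_mem_normalizer {N : Subgroup G} [Finite N] {l : List G}
    (h : ∀ a ∈ l, ∀ b ∈ N, a * b * a⁻¹ ∈ N) (m : ℕ) : word l m ∈ normalizer (N : Set G) :=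
  word_mem (fun a ha => Subgroup.mem_normalizer_fintype fun b hb => h a ha b hb) m

variable [Finite G] {z : G} {Q : Subgroup G} {K : Coord z Q 0} {x g : G} {S : Base K x g}

section basic

variable (F : Frame S)

/-- The four dual lifts. -/
def dualL : List G := [F.f, F.gl 0, F.gl 1, F.gl 2]

theorem cq_word (j : ℕ) : cq F j = word (dualL F) j := by
  simp [cq, dualL, word, mul_assoc, Nat.testBit_shiftRight, ← Nat.shiftRight_add]

theorem mem_dualL {a : G} (h : a ∈ dualL F) : ∃ j < 16, a ∈ Q ∧ K.vec a = dv j := by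
  simp only [dualL, List.mem_cons, List.not_mem_nil, or_false] at h
  have e1 : cq F 1 = F.f := by simp [cq, Nat.testBit, Nat.shiftRight_eq_div_pow]
  have e2 : cq F 2 = F.gl 0 := by simp [cq, Nat.testBit, Nat.shiftRight_eq_div_pow]
  have e3 : cq F 4 = F.gl 1 := by simp [cq, Nat.testBit, Nat.shiftRight_eq_div_pow]
  have e4 : cq F 8 = F.gl 2 := by simp [cq, Nat.testBit, Nat.shiftRight_eq_div_pow]
  rcases h with rfl | rfl | rfl | rfl
  · exact ⟨1, by norm_num, e1 ▸ cq_spec F 1 (by norm_num)⟩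
  · exact ⟨2, by norm_num, e2 ▸ cq_spec F 2 (by norm_num)⟩
  · exact ⟨4, by norm_num, e3 ▸ cq_spec F 4 (by norm_num)⟩
  · exact ⟨8, by norm_num, e4 ▸ cq_spec F 8 (by norm_num)⟩

theorem dual_elem : Elem (dualL F) := by
  have hne := S.hyp.extra.ne_one
  refine ⟨fun a ha b hb => ?_, fun a ha => ?_⟩
  · obtain ⟨i, hi, ha, va⟩ := mem_dualL F ha
    obtain ⟨j, hj, hb, vb⟩ := mem_dualL F hb
    exact (K.comm_iff hne ha hb).2 (by rw [va, vb]; exact (dv_perp i hi j hj).1)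
  · obtain ⟨i, hi, ha, va⟩ := mem_dualL F ha
    exact (K.invol_iff hne ha).2 (by rw [va]; exact (dv_perp i hi i hi).2.1)

theorem cq_xor (a b : ℕ) : cq F (a ^^^ b) = cq F a * cq F b := by
  rw [cq_word, cq_word, cq_word, word_xor (dual_elem F)]

theorem cq_zero : cq F 0 = 1 := by rw [cq_word, word_zero]

/-- A root element over a mixed line normalizing the dual lifts. -/
structure Adj (i i' : ℕ) (a : G) : Prop where
  root : K.Root (uv i) (dv i') a
  conj : ∀ j < 16, a * cq F j * a⁻¹ = cq F (tv i' i j)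

theorem Adj.su {i i' : ℕ} {a : G} (h : Adj F i i' a) (hi : i < 16) (hi' : i' < 16) (ho : ort i i' = true) :
    SU K a ∧ ∀ u < 16, K.act a (uv u) = uv (tv i i' u) := by
  have key : ∀ u < 16, K.act a (uv u) = uv (tv i i' u) := fun u hu => by
    rw [h.root.2.1]; exact (rootV_uv i hi i' hi' u hu ((ort_iff i hi i' hi').1 ho)).1
  exact ⟨⟨h.root.1, fun u hu => ⟨_, tv_lt i hi i' hi' u hu, key u hu⟩⟩, key⟩

theorem exists_adj {i i' : ℕ} (hi : i < 16) (hi' : i' < 16) (h0 : i' ≠ 0) (ho : ort i i' = true)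
    (hii : ort i i = false) : ∃ a, Adj F i i' a := by
  have H := S.hyp
  have hne := H.extra.ne_one
  have hi0 : i ≠ 0 := by rintro rfl; simp [ort_zero] at hii
  have hB : B (uv i) (dv i') = 0 := (ort_iff i hi i' hi').1 ho
  have hp : uv i ≠ 0 := fun e => hi0 (uv_zero i hi e)
  have hm : dv i' ≠ 0 := fun e => h0 ((dv_data i' hi').2.1 e)
  have hmp : dv i' ≠ uv i := fun e => hi0 ((dv_perp i hi i' hi').2.2 e.symm).1
  have hmq : qV 0 (dv i') = 0 := (dv_perp i' hi' i' hi').2.1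
  obtain ⟨a, ha⟩ := S.root_exists hp (uv_q i hi) hm hmp hmq hB
  have hBi : B (dv i) (uv i) = 1 := by
    rw [B_comm]
    exact eq_one fun e => by rw [(ort_iff i hi i hi).2 e] at hii; simp at hii
  have fix : ∀ {b : G}, K.Root (uv i) (dv i') b → ∀ j < 16, ort j i = true → b * cq F j * b⁻¹ = cq F j := by
    intro b hb j hj hji
    obtain ⟨c1, c2⟩ := cq_spec F j hj
    have e := S.root_comm_lift hp (uv_q i hi) hm hmp hmq hB hb c1
      (by rw [c2, B_comm]; exact (ort_iff i hi j hj).1 (by rw [← hji]; simp [ort, Nat.land_comm]))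
      (by rw [c2]; exact (dv_perp j hj i' hi').1)
    rw [e, mul_inv_cancel_right]
  obtain ⟨b, hb, hmove⟩ : ∃ b, K.Root (uv i) (dv i') b ∧ b * cq F i * b⁻¹ = cq F (i ^^^ i') := by
    obtain ⟨c1, c2⟩ := cq_spec F i hi
    obtain ⟨d1, d2⟩ := cq_spec F (i ^^^ i') (Nat.xor_lt_two_pow (n := 4) hi hi')
    have hv : K.vec (a * cq F i * a⁻¹) = K.vec (cq F (i ^^^ i')) := by
      rw [← K.act_vec H ha.1 c1, c2, d2, ha.2.1, (rootV_uv i hi i' hi' i hi hB).2, tv, hii]
      simp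
    rcases K.eq_or H (H.norm a ha.1 _ c1) d1 hv with e | e
    · exact ⟨a, ha, e⟩
    · have hq := K.lift_mem (uv i)
      set q := K.lift (uv i) with hqdef
      refine ⟨a * q, S.root_mul_lift hp (uv_q i hi) hm hmp hmq hB ha hq 1 0
        (by rw [hqdef, K.vec_lift, one_smul, zero_smul, add_zero]), ?_⟩
      have hc : q * cq F i * q⁻¹ = z * cq F i := by
        rw [K.conj c1 hq, if_neg (by rw [c2, hqdef, K.vec_lift, hBi]; exact one_ne_zero)]
      calc a * q * cq F i * (a * q)⁻¹ = a * (q * cq F i * q⁻¹) * a⁻¹ := by group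
        _ = a * z * (cq F i * a⁻¹) := by rw [hc]; group
        _ = z * (a * cq F i * a⁻¹) := by rw [ha.1]; group
        _ = _ := by rw [e, ← mul_assoc, H.extra.sq_one, one_mul]
  refine ⟨b, hb, fun j hj => ?_⟩
  rcases h : ort j i with _ | _
  · obtain ⟨t1, t2, t3, t4, t5⟩ := tv_split i hi i' hi' ho hii j hj h
    rw [t1, t5, cq_xor F (j ^^^ i) (i ^^^ i')]
    conv_lhs => rw [← t4, cq_xor F (j ^^^ i) i]
    rw [show b * (cq F (j ^^^ i) * cq F i) * b⁻¹ = b * cq F (j ^^^ i) * b⁻¹ * (b * cq F i * b⁻¹) by group,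
      fix hb _ t2 t3, hmove]
  · rw [fix hb j hj h, tv, h]
    simp

theorem conj_adj {i i' j j' k k' : ℕ} {a b : G} (ha : Adj F i i' a) (hb : Adj F j j' b) (hi : i < 16)
    (hi' : i' < 16) (ho : ort i i' = true) (hj : j < 16) (hj' : j' < 16) (hk : tv i i' j = k) (hk' : tv i' i j' = k')
    (he : ∀ u < 16, tv i' i (tv j' j (tv i' i u)) = tv k' k u) : Adj F k k' (a * b * a⁻¹) := by
  have H := S.hyp
  have hai : a⁻¹ = a := inv_eq_of_mul_eq_one_right ha.root.2.2.1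
  have hB := (ort_iff i hi i' hi').1 ho
  refine ⟨?_, fun u hu => ?_⟩
  · have h := hb.root.conj K H ha.root.1
    rwa [ha.root.2.1, (rootV_uv i hi i' hi' j hj hB).1, (rootV_uv i hi i' hi' j' hj' hB).2, hk, hk'] at h
  · have h1 : tv i' i u < 16 := tv_lt _ hi' _ hi _ hu
    have h2 : tv j' j (tv i' i u) < 16 := tv_lt _ hj' _ hj _ h1
    calc a * b * a⁻¹ * cq F u * (a * b * a⁻¹)⁻¹ = a * (b * (a⁻¹ * cq F u * a⁻¹⁻¹) * b⁻¹) * a⁻¹ := by group
      _ = _ := by rw [hai, show a * cq F u * a⁻¹ = a * cq F u * a by rw [hai], ← he u hu, ← ha.conj _ h2,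
          ← hb.conj _ h1, ← ha.conj _ hu, hai]

/-- Root elements whose lines are carried into the four-space by one element commute. -/
theorem swap_commute {r s : V} (hr : qV 0 r = 1) (hs : qV 0 s = 1) {p m p' m' : V} {a b : G}
    (ha : K.Root p m a) (hb : K.Root p' m' b) {i j i' j' : ℕ} (hij : i < 16 ∧ j < 16 ∧ i ≠ 0 ∧ j ≠ 0 ∧ i ≠ j)
    (hij' : i' < 16 ∧ j' < 16 ∧ i' ≠ 0 ∧ j' ≠ 0 ∧ i' ≠ j') (e1 : refl r (refl s p) = uv i)
    (e2 : refl r (refl s m) = uv j) (e3 : refl r (refl s p') = uv i') (e4 : refl r (refl s m') = uv j')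
    (F : Frame S) : a * b = b * a := by
  have H := S.hyp
  obtain ⟨c, hc, hca⟩ := K.pair H hr hs
  have h1 := ha.conj K H hc
  have h2 := hb.conj K H hc
  rw [hca, hca, e1, e2] at h1
  rw [hca, hca, e3, e4] at h2
  have e := A_comm F (root_mem F hij.1 hij.2.1 hij.2.2.1 hij.2.2.2.1 hij.2.2.2.2 h1)
    (root_mem F hij'.1 hij'.2.1 hij'.2.2.1 hij'.2.2.2.1 hij'.2.2.2.2 h2)
  calc a * b = c⁻¹ * (c * a * c⁻¹ * (c * b * c⁻¹)) * c := by group
    _ = _ := by rw [e]; group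

/-- The six root elements. -/
structure Six where
  a : G
  a' : G
  b : G
  adjA : Adj F 1 2 a
  adjA' : Adj F 4 8 a'
  adjB : Adj F 2 4 b

theorem exists_six : Nonempty (Six F) := by
  obtain ⟨a, ha⟩ := exists_adj F (i := 1) (i' := 2) (by norm_num) (by norm_num) (by norm_num) (by decide +kernel)
    (by decide +kernel)
  obtain ⟨a', ha'⟩ := exists_adj F (i := 4) (i' := 8) (by norm_num) (by norm_num) (by norm_num) (by decide +kernel)
    (by decide +kernel)
  obtain ⟨b, hb⟩ := exists_adj F (i := 2) (i' := 4) (by norm_num) (by norm_num) (by norm_num) (by decide +kernel)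
    (by decide +kernel)
  exact ⟨⟨a, a', b, ha, ha', hb⟩⟩

namespace Six

variable {F} (R : Six F)

/-- The four conjugates. -/
def listB : List G :=
  [R.b, R.a * R.b * R.a⁻¹, R.a' * R.b * R.a'⁻¹, R.a * (R.a' * R.b * R.a'⁻¹) * R.a⁻¹]

/-- The two outer roots. -/
def listC : List G := [R.a, R.a']

theorem adj_b1 : Adj F 3 4 (R.a * R.b * R.a⁻¹) :=
  conj_adj F R.adjA R.adjB (by norm_num) (by norm_num) (by decide +kernel) (by norm_num) (by norm_num)
    (by decide +kernel) (by decide +kernel) (by decide +kernel)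

theorem adj_b2 : Adj F 2 12 (R.a' * R.b * R.a'⁻¹) :=
  conj_adj F R.adjA' R.adjB (by norm_num) (by norm_num) (by decide +kernel) (by norm_num) (by norm_num)
    (by decide +kernel) (by decide +kernel) (by decide +kernel)

theorem adj_b3 : Adj F 3 12 (R.a * (R.a' * R.b * R.a'⁻¹) * R.a⁻¹) :=
  conj_adj F R.adjA R.adj_b2 (by norm_num) (by norm_num) (by decide +kernel) (by norm_num) (by norm_num)
    (by decide +kernel) (by decide +kernel) (by decide +kernel)

theorem listB_adj : List.Forall₂ (fun p c => Adj F p.1 p.2 c) pairsB R.listB :=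
  .cons R.adjB (.cons R.adj_b1 (.cons R.adj_b2 (.cons R.adj_b3 .nil)))

theorem listC_adj : List.Forall₂ (fun p c => Adj F p.1 p.2 c) pairsC R.listC :=
  .cons R.adjA (.cons R.adjA' .nil)

theorem exists_pair {l : List (ℕ × ℕ)} {m : List G} (h : List.Forall₂ (fun p c => Adj F p.1 p.2 c) l m) {c : G}
    (hc : c ∈ m) : ∃ p ∈ l, Adj F p.1 p.2 c := by
  induction h with
  | nil => simp at hc
  | @cons p d l m hd _ ih =>
    rcases List.mem_cons.1 hc with rfl | hc
    · exact ⟨p, List.mem_cons_self, hd⟩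
    · obtain ⟨q, hq, e⟩ := ih hc
      exact ⟨q, List.mem_cons_of_mem _ hq, e⟩

theorem elemB : Elem R.listB := by
  refine ⟨fun c hc d hd => ?_, fun c hc => ?_⟩
  · obtain ⟨p, hp, ac⟩ := exists_pair R.listB_adj hc
    obtain ⟨q, hq, ad⟩ := exists_pair R.listB_adj hd
    obtain ⟨p1, p2, hp'⟩ := pairsB_data p hp
    obtain ⟨q1, q2, hq'⟩ := pairsB_data q hq
    obtain ⟨s1, s2⟩ := swap_B _ p1 _ p2
    obtain ⟨s3, s4⟩ := swap_B _ q1 _ q2
    exact swap_commute swap_maps.2.1 swap_maps.2.2 ac.root ad.root hp' hq' s1 s2 s3 s4 F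
  · obtain ⟨p, -, ac⟩ := exists_pair R.listB_adj hc
    exact ac.root.2.2.1

theorem elemC : Elem R.listC := by
  refine ⟨fun c hc d hd => ?_, fun c hc => ?_⟩
  · obtain ⟨p, hp, ac⟩ := exists_pair R.listC_adj hc
    obtain ⟨q, hq, ad⟩ := exists_pair R.listC_adj hd
    obtain ⟨s1, s2⟩ := swap_C p hp
    obtain ⟨s3, s4⟩ := swap_C q hq
    exact swap_commute swap_maps.1 swap_maps.2.2 ac.root ad.root (pairsC_data p hp) (pairsC_data q hq) s1 s2 s3 s4 F
  · obtain ⟨p, -, ac⟩ := exists_pair R.listC_adj hc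
    exact ac.root.2.2.1

theorem word_act : ∀ {l : List (ℕ × ℕ)} {m : List G}, List.Forall₂ (fun p c => Adj F p.1 p.2 c) l m →
    (∀ p ∈ l, p.1 < 16 ∧ p.2 < 16 ∧ ort p.1 p.2 = true) → ∀ k, SU K (word m k) ∧
      ∀ u < 16, K.act (word m k) (uv u) = uv (tvW l k u) := by
  intro l m h
  induction h with
  | nil => exact fun _ _ => ⟨su_one S.hyp, fun u _ => K.act_one S.hyp _⟩
  | @cons p c l m hc _ ih =>
    intro hl k
    have hl' : ∀ q ∈ l, q.1 < 16 ∧ q.2 < 16 ∧ ort q.1 q.2 = true := fun q hq => hl q (List.mem_cons_of_mem _ hq)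
    obtain ⟨h1, h2, h3⟩ := hl p List.mem_cons_self
    obtain ⟨su1, act1⟩ := hc.su F h1 h2 h3
    obtain ⟨su2, act2⟩ := ih hl' (k >>> 1)
    simp only [word, tvW]
    split_ifs
    · refine ⟨su_mul S.hyp su1 su2, fun u hu => ?_⟩
      rw [K.act_mul S.hyp su1.1 su2.1, act2 u hu,
        act1 _ (tvW_lt l (fun q hq => ⟨(hl' q hq).1, (hl' q hq).2.1⟩) _ u hu)]
    · rw [one_mul]
      exact ⟨su2, act2⟩

theorem actB (k : ℕ) : SU K (word R.listB k) ∧ ∀ u < 16, K.act (word R.listB k) (uv u) = uv (tvW pairsB k u) :=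
  word_act R.listB_adj (by decide +kernel) k

theorem actC (k : ℕ) : SU K (word R.listC k) ∧ ∀ u < 16, K.act (word R.listC k) (uv u) = uv (tvW pairsC k u) :=
  word_act R.listC_adj (by decide +kernel) k

/-- The dual lifts as a subgroup. -/
def V4 (_R : Six F) : Subgroup G := wordSub (dualL F) (dual_elem F)
/-- The span of the four conjugates. -/
def B4 : Subgroup G := wordSub R.listB R.elemB
/-- The span of the outer roots. -/
def C2 : Subgroup G := wordSub R.listC R.elemC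

theorem adj_normalizer {i i' : ℕ} {c : G} (h : Adj F i i' c) (hi : i < 16) (hi' : i' < 16) :
    c ∈ normalizer (R.V4 : Set G) := by
  refine Subgroup.mem_normalizer_fintype ?_
  rintro _ ⟨j, hj, rfl⟩
  exact ⟨tv i' i j, tv_lt _ hi' _ hi _ hj, by rw [← cq_word, h.conj j hj, cq_word]⟩

theorem B4_normalizer : R.B4 ≤ normalizer (R.V4 : Set G) := by
  rintro _ ⟨k, -, rfl⟩
  refine word_mem (fun c hc => ?_) k
  obtain ⟨p, hp, ac⟩ := exists_pair R.listB_adj hc
  exact R.adj_normalizer ac (pairsB_data p hp).2.2.1 (pairsB_data p hp).2.2.2.1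

theorem C2_normalizer : R.C2 ≤ normalizer ((R.V4 ⊔ R.B4 : Subgroup G) : Set G) := by
  rintro _ ⟨k, -, rfl⟩
  refine word_mem (fun c hc => ?_) k
  have haa : ∀ {y : G}, y * y = 1 → ∀ w, y * (y * w * y⁻¹) * y⁻¹ = w := fun {y} hy w => by
    calc y * (y * w * y⁻¹) * y⁻¹ = y * y * w * (y * y)⁻¹ := by group
      _ = w := by rw [hy]; group
  have hcomm : R.a * R.a' = R.a' * R.a := R.elemC.1 _ (by simp [listC]) _ (by simp [listC])
  have hsw : ∀ w, R.a' * (R.a * w * R.a⁻¹) * R.a'⁻¹ = R.a * (R.a' * w * R.a'⁻¹) * R.a⁻¹ := fun w => by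
    calc R.a' * (R.a * w * R.a⁻¹) * R.a'⁻¹ = (R.a' * R.a) * w * (R.a' * R.a)⁻¹ := by group
      _ = _ := by rw [← hcomm]; group
  have hgen : ∀ d ∈ R.listB, c * d * c⁻¹ ∈ R.listB := by
    intro d hd
    have sa := R.adjA.root.2.2.1
    have sa' := R.adjA'.root.2.2.1
    simp only [listC, List.mem_cons, List.not_mem_nil, or_false] at hc
    simp only [listB, List.mem_cons, List.not_mem_nil, or_false] at hd
    rcases hc with rfl | rfl <;> rcases hd with rfl | rfl | rfl | rfl <;>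
      simp [listB, haa sa, haa sa', hsw]
  obtain ⟨p, hp, ac⟩ := exists_pair R.listC_adj hc
  have hV := R.adj_normalizer ac (pairsC_data p hp).1 (pairsC_data p hp).2.1
  refine Subgroup.mem_normalizer_fintype fun w hw => ?_
  have hw' : w ∈ (R.V4 : Set G) * (R.B4 : Set G) := by
    rw [← Subgroup.coe_mul_of_right_le_normalizer_left _ _ R.B4_normalizer]; exact hw
  obtain ⟨v, hv, b, hb, rfl⟩ := hw'
  rw [show c * (v * b) * c⁻¹ = c * v * c⁻¹ * (c * b * c⁻¹) by group]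
  refine mul_mem (mem_sup_left ((mem_normalizer_iff.1 hV v).1 hv)) (mem_sup_right ?_)
  obtain ⟨k', -, rfl⟩ := hb
  rw [conj_word]
  refine word_mem (fun d hd => ?_) k'
  obtain ⟨d', hd', rfl⟩ := List.mem_map.1 hd
  obtain ⟨i, hi, e⟩ := List.getElem_of_mem (hgen d' hd')
  have h2 : word R.listB (2 ^ i) ∈ R.B4 := ⟨2 ^ i, Nat.pow_lt_pow_right (by norm_num) hi, rfl⟩
  rw [show word R.listB (2 ^ i) = c * d' * c⁻¹ by
    have : i < 4 := hi
    rw [← e]; interval_cases i <;> simp [listB, word, Nat.testBit, Nat.shiftRight_eq_div_pow]] at h2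
  exact h2

/-- The complement over a subgroup of odd index. -/
def Hc : Subgroup G := R.V4 ⊔ R.B4 ⊔ R.C2

/-- The general element. -/
def hel (p : Fin 16 × Fin 16 × Fin 4) : G := cq F p.1 * word R.listB p.2.1 * word R.listC p.2.2

theorem mem_Hc {h : G} : h ∈ R.Hc ↔ ∃ p, h = R.hel p := by
  constructor
  · intro hh
    have h' : h ∈ ((R.V4 ⊔ R.B4 : Subgroup G) : Set G) * (R.C2 : Set G) := by
      rw [← Subgroup.coe_mul_of_right_le_normalizer_left _ _ R.C2_normalizer]; exact hh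
    obtain ⟨w, hw, c, hc, rfl⟩ := h'
    have hw' : w ∈ (R.V4 : Set G) * (R.B4 : Set G) := by
      rw [← Subgroup.coe_mul_of_right_le_normalizer_left _ _ R.B4_normalizer]; exact hw
    obtain ⟨v, ⟨j, hj, rfl⟩, b, ⟨k, hk, rfl⟩, rfl⟩ := hw'
    obtain ⟨l, hl, rfl⟩ := hc
    exact ⟨(⟨j, hj⟩, ⟨k, hk⟩, ⟨l, hl⟩), by rw [hel, cq_word]⟩
  · rintro ⟨⟨j, k, l⟩, rfl⟩
    exact mul_mem (mem_sup_left (mul_mem (mem_sup_left ⟨j, j.2, cq_word F j⟩) (mem_sup_right ⟨k, k.2, rfl⟩)))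
      (mem_sup_right ⟨l, l.2, rfl⟩)

theorem hel_su (p : Fin 16 × Fin 16 × Fin 4) : SU K (R.hel p) :=
  su_mul S.hyp (su_mul S.hyp (cq_su F p.1.2) (R.actB p.2.1).1) (R.actC p.2.2).1

theorem hel_le {h : G} (hh : h ∈ R.Hc) : h ∈ N F := by
  obtain ⟨p, rfl⟩ := R.mem_Hc.1 hh
  exact su_normalizer F (R.hel_su p)

theorem hel_act (p : Fin 16 × Fin 16 × Fin 4) {u : ℕ} (hu : u < 16) :
    K.act (R.hel p) (uv u) = uv (tvW pairsB p.2.1 (tvW pairsC p.2.2 u)) := by
  have H := S.hyp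
  have hc := (cq_su F p.1.2).1
  have hb := (R.actB p.2.1).1.1
  have h' := tvW_lt pairsC (by decide +kernel) p.2.2 u hu
  rw [hel, K.act_mul H (su_mul H (cq_su F p.1.2) (R.actB _).1).1 (R.actC _).1.1, (R.actC _).2 u hu,
    K.act_mul H hc hb, (R.actB _).2 _ h', K.act_mem H (cq_spec F p.1 p.1.2).1]

theorem tvBC_eq {p p' : Fin 16 × Fin 16 × Fin 4}
    (h : ∀ u < 16, K.act (R.hel p) (uv u) = K.act (R.hel p') (uv u)) : p.2 = p'.2 := by
  obtain ⟨e1, e2⟩ := tvBC_inj p.2.1 p.2.1.2 p.2.2 p.2.2.2 p'.2.1 p'.2.1.2 p'.2.2 p'.2.2.2 (List.map_congr_left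
    fun u hu => by
      have hu' : u < 16 := by simp at hu; omega
      have hlt : ∀ (a : Fin 16) (b : Fin 4), tvW pairsB a (tvW pairsC b u) < 16 := fun a b =>
        tvW_lt pairsB (by decide +kernel) _ _ (tvW_lt pairsC (by decide +kernel) _ _ hu')
      have := h u hu'
      rw [R.hel_act p hu', R.hel_act p' hu'] at this
      exact uv_inj _ (hlt _ _) _ (hlt _ _) this)
  exact Prod.ext (Fin.ext e1) (Fin.ext e2)

theorem hel_inj : Function.Injective R.hel := by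
  intro p p' h
  have e2 : p.2 = p'.2 := R.tvBC_eq fun u _ => by rw [h]
  refine Prod.ext ?_ e2
  simp only [hel, e2, mul_left_inj] at h
  refine Fin.ext (dv_inj _ p.1.2 _ p'.1.2 ?_)
  rw [← (cq_spec F p.1 p.1.2).2, ← (cq_spec F p'.1 p'.1.2).2, h]

theorem card_Hc : Nat.card R.Hc = 1024 := by
  rw [← Nat.card_congr (Equiv.ofBijective (fun p => (⟨R.hel p, R.mem_Hc.2 ⟨p, rfl⟩⟩ : R.Hc))
    ⟨fun a b e => R.hel_inj (congrArg Subtype.val e), fun ⟨h, hh⟩ => by
      obtain ⟨p, rfl⟩ := R.mem_Hc.1 hh; exact ⟨p, rfl⟩⟩)]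
  simp

theorem inf_A : R.Hc ⊓ A F = ⊥ := by
  have H := S.hyp
  rw [eq_bot_iff]
  intro h ⟨hh, hA⟩
  obtain ⟨⟨j, kl⟩, rfl⟩ := R.mem_Hc.1 hh
  have hel0 : R.hel (0, 0, 0) = 1 := by simp [hel, cq_zero, word_zero]
  have hz : R.hel (j, kl) * z = z * R.hel (j, kl) := A_z F hA
  have e2 : kl = (0, 0) := R.tvBC_eq (p := (j, kl)) (p' := (0, 0, 0)) fun u hu => by
    obtain ⟨w1, w2⟩ := W_low F (m := 2 * u) (by omega)
    rw [show (2 * u) >>> 1 = u by rw [Nat.shiftRight_eq_div_pow]; omega] at w2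
    rw [hel0, K.act_one H, ← w2, K.act_vec H hz w1, A_comm F hA (W_mem F (by omega)), mul_inv_cancel_right]
  subst e2
  simp only [hel, Fin.val_zero, word_zero, mul_one] at hA ⊢
  obtain ⟨m, hm, e⟩ := hA
  obtain ⟨c1, c2⟩ := cq_spec F j j.2
  have h0 : m >>> 5 = 0 := by
    refine bt_top _ (by rw [Nat.shiftRight_eq_div_pow]; omega) fun k hk => ?_
    rw [show actL baseMaps (m >>> 5 * 32) (dv (2 ^ k)) = actL baseMaps m (dv (2 ^ k)) by
      rw [actL_top m, actL_top (m >>> 5 * 32)]; congr 1; simp [Nat.shiftRight_eq_div_pow],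
      ← W_act F, ← e, K.act_mem H c1]
  have hm32 : m < 32 := by rw [Nat.shiftRight_eq_div_pow] at h0; omega
  have hv : uv (m >>> 1) = dv j := by rw [← (W_low F hm32).2, ← e, c2]
  have hj := ((dv_perp (m >>> 1) (by rw [Nat.shiftRight_eq_div_pow]; omega) j j.2).2.2 hv).2
  rw [mem_bot, hj, cq_zero]

end Six

/-- The normalizer splits over the subgroup. -/
theorem exists_split : ∃ L : Subgroup ↥(N F), ((A F).subgroupOf (N F)).IsComplement' L := by
  obtain ⟨R⟩ := exists_six F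
  have := normal_A F
  have hAN : A F ≤ N F := le_normalizer
  have hHN : R.Hc ≤ N F := fun h hh => R.hel_le hh
  set A' := (A F).subgroupOf (N F) with hA'
  set H' := R.Hc.subgroupOf (N F) with hH'
  have hcA : Nat.card A' = 2 ^ 11 := by
    rw [Nat.card_congr (subgroupOfEquivOfLe hAN).toEquiv, card_A]
  have hcH : Nat.card H' = 1024 := by rw [Nat.card_congr (subgroupOfEquivOfLe hHN).toEquiv, R.card_Hc]
  have hinf : H' ⊓ A' = ⊥ := by
    rw [eq_bot_iff]
    intro n hn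
    have : (n : G) ∈ R.Hc ⊓ A F := ⟨hn.1, hn.2⟩
    rw [R.inf_A, mem_bot] at this
    exact mem_bot.2 (Subtype.ext this)
  have : IsMulCommutative A' := ⟨⟨fun a b => Subtype.ext (Subtype.ext (A_comm F a.2 b.2))⟩⟩
  have D : CfsgLib.Gaschutz.Data A' (A' ⊔ H') H' := ⟨le_sup_left, le_sup_right, hinf, rfl⟩
  have hcU : Nat.card ↥(A' ⊔ H') = 2 ^ 11 * 1024 := by
    have hinj : Function.Injective fun p : A' × H' =>
        (⟨(p.1 : ↥(N F)) * p.2, mul_mem (mem_sup_left p.1.2) (mem_sup_right p.2.2)⟩ : ↥(A' ⊔ H')) := fun p q e =>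
      Subgroup.mul_injective_of_disjoint (disjoint_iff.2 (by rw [inf_comm, hinf])) (congrArg Subtype.val e)
    have hsurj : Function.Surjective fun p : A' × H' =>
        (⟨(p.1 : ↥(N F)) * p.2, mul_mem (mem_sup_left p.1.2) (mem_sup_right p.2.2)⟩ : ↥(A' ⊔ H')) := fun w => by
      obtain ⟨a, ha, h, hh, e⟩ := mem_sup_of_normal_left.1 w.2
      exact ⟨(⟨a, ha⟩, ⟨h, hh⟩), Subtype.ext e⟩
    rw [← Nat.card_congr (Equiv.ofBijective _ ⟨hinj, hsurj⟩), Nat.card_prod, hcA, hcH]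
  refine CfsgLib.Gaschutz.exists_complement D ?_
  obtain ⟨_, ⟨iso⟩⟩ := nonempty_iso F
  have hN : Nat.card ↥(N F) = 244823040 * 2 ^ 11 := by
    rw [card_eq_card_quotient_mul_card_subgroup A', Nat.card_congr iso.toEquiv, hcA, natCard_M24]
  have hidx := (A' ⊔ H').card_mul_index
  rw [hcU, hN] at hidx
  rw [show (A' ⊔ H').index = 239085 by omega, hcA]
  norm_num

end basic

end CfsgLib.CoOneGolay
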